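/-
Semicontinuity of the rank, and the power `p - 1` of a difference in characteristic `p`.
-/
import Mathlib.LinearAlgebra.Matrix.Rank
import Mathlib.LinearAlgebra.Dimension.StrongRankCondition
import Mathlib.LinearAlgebra.Matrix.NonsingularInverse
import Mathlib.Algebra.CharP.Lemmas
import Mathlib.Algebra.CharP.Subring
import Mathlib.Algebra.CharP.Two
import Mathlib.Data.Nat.Choose.Dvd
import Mathlib.Tactic.LinearCombination
import Mathlib.RingTheory.Localization.FractionRing

set_option linter.unusedSectionVars false
set_option linter.style.haveILetI false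

namespace Cfsg.Agent.S4643Lib

open Matrix

variable {m n : Type*} [Fintype m] [Fintype n]

/-- A square submatrix of full rank. -/
theorem exists_minor {K : Type*} [Field K] (A : Matrix m n K) :
    ∃ (r : Fin A.rank → m) (c : Fin A.rank → n), (A.submatrix r c).det ≠ 0 := by
  classical
  have hcols : ∃ c : Fin A.rank → n, LinearIndependent K (A.col ∘ c) := by
    obtain ⟨f, hf, -, hli⟩ := Submodule.exists_fun_fin_finrank_span_eq K (Set.range A.col)
    choose c hc using hf
    refine ⟨c ∘ Fin.cast A.rank_eq_finrank_span_cols, ?_⟩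
    have e : A.col ∘ (c ∘ Fin.cast A.rank_eq_finrank_span_cols) =
        f ∘ Fin.cast A.rank_eq_finrank_span_cols := funext fun i => hc _
    rw [e]
    exact hli.comp _ (Fin.cast_injective _)
  obtain ⟨c, hc⟩ := hcols
  set B : Matrix m (Fin A.rank) K := A.submatrix id c with hB
  have hBrank : B.rank = A.rank := by
    rw [← B.rank_transpose]
    have h : LinearIndependent K (Bᵀ).row := hc
    rw [h.rank_matrix, Fintype.card_fin]
  obtain ⟨f, hf, -, hli⟩ := Submodule.exists_fun_fin_finrank_span_eq K (Set.range B.row)
  choose r hr using hf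
  have hcard : A.rank = Module.finrank K (Submodule.span K (Set.range B.row)) :=
    hBrank.symm.trans B.rank_eq_finrank_span_row
  refine ⟨r ∘ Fin.cast hcard, c, ?_⟩
  have h : LinearIndependent K (A.submatrix (r ∘ Fin.cast hcard) c).row := by
    have e : (A.submatrix (r ∘ Fin.cast hcard) c).row = f ∘ Fin.cast hcard := by
      funext i
      exact hr (Fin.cast hcard i)
    rw [e]
    exact hli.comp _ (Fin.cast_injective _)
  exact ((Matrix.isUnit_iff_isUnit_det _).1 (linearIndependent_rows_iff_isUnit.1 h)).ne_zero

theorem le_rank_of_det_ne_zero {K : Type*} [Field K] (A : Matrix m n K) {s : ℕ} (r : Fin s → m)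
    (c : Fin s → n) (h : (A.submatrix r c).det ≠ 0) : s ≤ A.rank := by
  classical
  have := rank_submatrix_le A r c
  rw [rank_of_det_ne_zero h, Fintype.card_fin] at this
  exact this

/-- The rank can only drop under a specialisation. -/
theorem rank_map_le {R L K : Type*} [CommRing R] [Field L] [Field K] (φ : R →+* L) (ψ : R →+* K)
    (hψ : Function.Injective ψ) (P : Matrix m n R) : (P.map φ).rank ≤ (P.map ψ).rank := by
  classical
  obtain ⟨r, c, h⟩ := exists_minor (P.map φ)
  refine le_rank_of_det_ne_zero _ r c ?_
  have e1 : (P.map φ).submatrix r c = φ.mapMatrix (P.submatrix r c) := rfl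
  have e2 : (P.map ψ).submatrix r c = ψ.mapMatrix (P.submatrix r c) := rfl
  rw [e1, ← RingHom.map_det] at h
  rw [e2, ← RingHom.map_det]
  exact fun h0 => h (by rw [hψ (h0.trans (map_zero ψ).symm), map_zero])

theorem rank_map_field {L K : Type*} [Field L] [Field K] (ψ : L →+* K) (P : Matrix m n L) :
    P.rank ≤ (P.map ψ).rank := by
  simpa using rank_map_le (RingHom.id L) ψ ψ.injective P

/-! ## Binomial coefficients -/

variable {p : ℕ} [hp : Fact p.Prime]

theorem choose_pred_cast {R : Type*} [CommRing R] [CharP R p] {j : ℕ} (hj : j < p) :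
    ((p - 1).choose j : R) = (-1) ^ j := by
  induction j with
  | zero => simp
  | succ j ih =>
    have h := Nat.choose_succ_succ (p - 1) j
    rw [show (p - 1).succ = p from Nat.succ_pred_eq_of_pos hp.out.pos] at h
    have h0 : ((p.choose (j + 1) : ℕ) : R) = 0 :=
      (CharP.cast_eq_zero_iff R p _).2 (hp.out.dvd_choose_self (Nat.succ_ne_zero j) hj)
    rw [h, Nat.cast_add, ih (by omega)] at h0
    rw [pow_succ, mul_neg_one]
    linear_combination h0

/-- `(x - y) ^ (p - 1)` is the sum of the monomials of degree `p - 1`. -/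
theorem sub_pow_pred {A : Type*} [Ring A] [CharP A p] {x y : A} (h : Commute x y) :
    (x - y) ^ (p - 1) = ∑ j ∈ Finset.range p, x ^ j * y ^ (p - 1 - j) := by
  rw [sub_eq_add_neg, h.neg_right.add_pow, Nat.sub_add_cancel hp.out.one_le]
  refine Finset.sum_congr rfl fun j hj => ?_
  have hj' := Finset.mem_range.1 hj
  haveI : CharP (Subring.center A) p := CharP.subring A p (Subring.center A)
  have h1 := congrArg (Subring.subtype (Subring.center A))
    (choose_pred_cast (R := Subring.center A) (p := p) hj')
  simp only [map_natCast, map_pow, map_neg, map_one] at h1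
  have hsgn : (-1 : A) ^ (p - 1) = 1 := by
    rcases hp.out.eq_two_or_odd' with h2 | h2
    · subst h2
      simp [CharTwo.neg_eq]
    · obtain ⟨q, hq⟩ := h2
      rw [show p - 1 = 2 * q by omega, pow_mul, neg_one_sq, one_pow]
  have hc : ∀ i : ℕ, Commute ((-1 : A) ^ i) (y ^ (p - 1 - j)) := fun i =>
    ((Commute.one_left _).neg_left).pow_left i
  rw [h1, neg_pow, mul_assoc, mul_assoc, (hc j).eq.symm, ← mul_assoc ((-1 : A) ^ _),
    ← pow_add, Nat.sub_add_cancel (by omega), hsgn, one_mul]

end Cfsg.Agent.S4643Lib
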