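/-
Jordan chains of a nilpotent endomorphism.
-/
import Cfsg.Agent.Lib.S4643.Rank
import Mathlib.LinearAlgebra.FiniteDimensional.Lemmas
import Mathlib.LinearAlgebra.Matrix.ToLin

set_option linter.unusedSectionVars false
set_option linter.style.haveILetI false

namespace Cfsg.Agent.S4643Lib

open Module

variable {k : Type*} [Field k]

/-- The member `l` of the chain starting at `v i`. -/
def chainVec {V : Type*} [AddCommGroup V] [Module k V] (a : Module.End k V) {n : ℕ} {m : Fin n → ℕ}
    (v : Fin n → V) (x : Σ i, Fin (m i)) : V :=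
  (a ^ (x.2 : ℕ)) (v x.1)

/-- Every nilpotent endomorphism has a basis made of chains. -/
theorem exists_chains (d : ℕ) : ∀ {V : Type*} [AddCommGroup V] [Module k V]
    [FiniteDimensional k V], finrank k V = d → ∀ (a : Module.End k V), IsNilpotent a →
    ∃ (n : ℕ) (m : Fin n → ℕ) (v : Fin n → V), (∀ i, 0 < m i) ∧ (∀ i, (a ^ m i) (v i) = 0) ∧
      LinearIndependent k (chainVec a v : (Σ i, Fin (m i)) → V) ∧
      ⊤ ≤ Submodule.span k (Set.range (chainVec a v : (Σ i, Fin (m i)) → V)) := by
  induction d using Nat.strong_induction_on with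
  | _ d ih =>
  intro V _ _ _ hd a ha
  classical
  rcases Nat.eq_zero_or_pos d with h0 | hpos
  · subst h0
    haveI : Subsingleton V := Module.finrank_zero_iff.1 hd
    refine ⟨0, Fin.elim0, Fin.elim0, fun i => i.elim0, fun i => i.elim0, linearIndependent_empty_type,
      fun x _ => ?_⟩
    rw [Subsingleton.elim x 0]
    exact zero_mem _
  set U := LinearMap.range a with hU
  have hUlt : finrank k U < d := by
    rw [← hd]
    refine Submodule.finrank_lt fun htop => ?_
    obtain ⟨N, hN⟩ := ha
    have hsurj : Function.Surjective ⇑a := LinearMap.range_eq_top.1 htop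
    have h1 : Function.Surjective ⇑(a ^ N) := by
      rw [Module.End.coe_pow]
      exact hsurj.iterate N
    rw [hN] at h1
    haveI : Nontrivial V := Module.finrank_pos_iff.1 (hd ▸ hpos)
    obtain ⟨x, hx⟩ := exists_ne (0 : V)
    obtain ⟨y, hy⟩ := h1 x
    exact hx (by rw [← hy]; rfl)
  let a' : Module.End k U := a.restrict fun x _ => LinearMap.mem_range_self a x
  have ha' : ∀ (N : ℕ) (x : U), (((a' ^ N) x : U) : V) = (a ^ N) (x : V) := by
    intro N
    induction N with
    | zero => intro x; rfl
    | succ N ihN =>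
      intro x
      rw [pow_succ', pow_succ', Module.End.mul_apply, Module.End.mul_apply, ← ihN x]
      rfl
  have ha'n : IsNilpotent a' := by
    obtain ⟨N, hN⟩ := ha
    exact ⟨N, LinearMap.ext fun x => Subtype.ext (by rw [ha', hN]; rfl)⟩
  obtain ⟨n₀, m₀, w, hm₀, hw0, hwli, hwsp⟩ := ih _ hUlt rfl a' ha'n
  choose u hu using fun i => LinearMap.mem_range.1 (w i).2
  let e₀ : (Σ i, Fin (m₀ i)) → V := fun x => (a ^ (x.2 : ℕ)) (w x.1 : V)
  have he₀ : e₀ = U.subtype ∘ chainVec a' w := funext fun x => (ha' _ _).symm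
  have he₀li : LinearIndependent k e₀ := by
    rw [he₀]
    exact hwli.map' _ U.ker_subtype
  have he₀sp : U ≤ Submodule.span k (Set.range e₀) := by
    rw [he₀, Set.range_comp, Submodule.span_image]
    intro x hx
    exact ⟨⟨x, hx⟩, hwsp Submodule.mem_top, rfl⟩
  have hw0' : ∀ i, (a ^ m₀ i) (w i : V) = 0 := fun i => by
    rw [← ha', hw0]; rfl
  let lst : Fin n₀ → V := fun i => (a ^ (m₀ i - 1)) (w i : V)
  have hlstker : ∀ i, a (lst i) = 0 := fun i => by
    show (a * a ^ (m₀ i - 1)) (w i : V) = 0
    rw [← pow_succ', Nat.sub_add_cancel (hm₀ i)]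
    exact hw0' i
  have hlstmem : ∀ i, lst i ∈ LinearMap.ker a ⊓ U := fun i =>
    ⟨hlstker i, by show lst i ∈ U; rw [show lst i = ((a' ^ (m₀ i - 1)) (w i) : U) from (ha' _ _).symm]
                   exact Subtype.mem _⟩
  have hlstli : LinearIndependent k lst := by
    have h := he₀li.comp (fun i : Fin n₀ => (⟨i, ⟨m₀ i - 1, by have := hm₀ i; omega⟩⟩ :
      Σ i, Fin (m₀ i))) (fun i j h => congrArg Sigma.fst h)
    exact h
  -- a complement of the ends in the kernel
  obtain ⟨Y, hY⟩ := Submodule.exists_isCompl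
    ((LinearMap.ker a ⊓ U).comap (LinearMap.ker a).subtype)
  let z := Module.finBasis k Y
  set q := finrank k Y with hq
  -- the chains
  let m : Fin (n₀ + q) → ℕ := Fin.append (fun i => m₀ i + 1) (fun _ => 1)
  let v : Fin (n₀ + q) → V := Fin.append u fun j => ((z j : Y) : LinearMap.ker a)
  have hm : ∀ i, 0 < m i := by
    intro i
    induction i using Fin.addCases with
    | left i => simp [m]
    | right i => simp [m]
  have hv0 : ∀ i, (a ^ m i) (v i) = 0 := by
    intro i
    induction i using Fin.addCases with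
    | left i =>
      simp only [m, v, Fin.append_left, pow_succ, Module.End.mul_apply, hu]
      exact hw0' i
    | right i =>
      simp only [m, v, Fin.append_right, pow_one]
      exact ((z i : Y) : LinearMap.ker a).2
  set e : (Σ i, Fin (m i)) → V := chainVec a v with he
  set S := Submodule.span k (Set.range e) with hS
  have hleft : ∀ (i : Fin n₀) (l : ℕ), l < m₀ i + 1 → (a ^ l) (u i) ∈ S := fun i l hl => by
    refine Submodule.subset_span ⟨⟨Fin.castAdd q i, ⟨l, ?_⟩⟩, ?_⟩
    · simpa [m] using hl
    · simp [e, chainVec, v]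
  have hUS : U ≤ S := le_trans he₀sp (Submodule.span_le.2 (by
    rintro _ ⟨⟨i, l⟩, rfl⟩
    show (a ^ (l : ℕ)) (w i : V) ∈ S
    rw [← hu i, ← Module.End.mul_apply, ← pow_succ]
    exact hleft i _ (by have := l.2; omega)))
  have hkerS : LinearMap.ker a ≤ S := by
    intro x hx
    have hmem : (⟨x, hx⟩ : LinearMap.ker a) ∈
        (LinearMap.ker a ⊓ U).comap (LinearMap.ker a).subtype ⊔ Y := by
      rw [hY.sup_eq_top]; exact Submodule.mem_top
    obtain ⟨x1, hx1, x2, hx2, hx12⟩ := Submodule.mem_sup.1 hmem
    rw [show x = (x1 : V) + (x2 : V) from congrArg Subtype.val hx12.symm]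
    refine add_mem (hUS hx1.2) ?_
    have h2 : x2 ∈ Submodule.span k (Set.range fun j => ((z j : Y) : LinearMap.ker a)) := by
      have h3 := z.mem_span ⟨x2, hx2⟩
      have h4 := Submodule.mem_map_of_mem (f := Y.subtype) h3
      rw [Submodule.map_span, ← Set.range_comp] at h4
      exact h4
    have h4 := Submodule.mem_map_of_mem (f := (LinearMap.ker a).subtype) h2
    rw [Submodule.map_span, ← Set.range_comp] at h4
    refine (Submodule.span_le.2 ?_) h4
    rintro _ ⟨j, rfl⟩
    refine Submodule.subset_span ⟨⟨Fin.natAdd n₀ j, ⟨0, by simp [m]⟩⟩, ?_⟩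
    simp [e, chainVec, v]
  have htop : ⊤ ≤ S := by
    intro x _
    have hax : a x ∈ Submodule.span k (Set.range e₀) := he₀sp (LinearMap.mem_range_self a x)
    obtain ⟨c, hc⟩ := (Submodule.mem_span_range_iff_exists_fun k).1 hax
    set y := ∑ il : (Σ i, Fin (m₀ i)), c il • (a ^ (il.2 : ℕ)) (u il.1) with hy
    have hay : a y = a x := by
      rw [hy, map_sum, ← hc]
      refine Finset.sum_congr rfl fun il _ => ?_
      rw [map_smul, ← Module.End.mul_apply, ← pow_succ', pow_succ, Module.End.mul_apply, hu]
    have h1 : x - y ∈ S := hkerS (by rw [LinearMap.mem_ker, map_sub, hay, sub_self])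
    have h2 : y ∈ S := sum_mem fun il _ => S.smul_mem _ (hleft _ _ (by have := il.2.2; omega))
    simpa using add_mem h1 h2
  refine ⟨n₀ + q, m, v, hm, hv0, ?_, htop⟩
  -- counting
  have hK : n₀ + q ≤ finrank k (LinearMap.ker a) := by
    have h1 := Submodule.finrank_add_eq_of_isCompl hY
    have h2 : n₀ ≤ finrank k ((LinearMap.ker a ⊓ U).comap (LinearMap.ker a).subtype) := by
      rw [(Submodule.comapSubtypeEquivOfLe inf_le_left).finrank_eq]
      have h3 : LinearIndependent k (fun i => (⟨lst i, hlstmem i⟩ : ↥(LinearMap.ker a ⊓ U))) :=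
        LinearIndependent.of_comp (LinearMap.ker a ⊓ U).subtype hlstli
      simpa using h3.fintype_card_le_finrank
    omega
  have hUcard : Fintype.card (Σ i, Fin (m₀ i)) = finrank k U := by
    have := Module.finrank_eq_card_basis (Basis.mk hwli hwsp)
    exact this.symm
  have hsum : Fintype.card (Σ i, Fin (m i)) = Fintype.card (Σ i, Fin (m₀ i)) + (n₀ + q) := by
    simp only [Fintype.card_sigma, Fintype.card_fin, Fin.sum_univ_add, m, Fin.append_left,
      Fin.append_right, Finset.sum_add_distrib, Finset.sum_const, Finset.card_univ, smul_eq_mul,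
      mul_one]
    omega
  have hrn := LinearMap.finrank_range_add_finrank_ker a
  have hle : finrank k V ≤ Fintype.card (Σ i, Fin (m i)) := by
    have h := finrank_range_le_card (R := k) e
    rwa [Set.finrank, show Submodule.span k (Set.range e) = ⊤ from top_le_iff.1 htop,
      finrank_top] at h
  exact linearIndependent_of_top_le_span_of_card_eq_finrank htop
    (le_antisymm (by rw [hsum, hUcard, ← hrn]; exact Nat.add_le_add_left hK _) hle)

end Cfsg.Agent.S4643Lib
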