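/-
The matrix of a nilpotent operator in a basis of chains, and its commutant.
-/
import Cfsg.Agent.Lib.S4643.Chains

set_option linter.unusedSectionVars false
set_option linter.style.haveILetI false

namespace Cfsg.Agent.S4643Lib

open Matrix

variable {ι : Type*} [Fintype ι] [DecidableEq ι] {m : ι → ℕ}

/-- The matrix of a family of chains of lengths `m`. -/
def shiftM (R : Type*) [Zero R] [One R] (m : ι → ℕ) :
    Matrix (Σ i, Fin (m i)) (Σ i, Fin (m i)) R :=
  fun r c => if r.1 = c.1 ∧ (r.2 : ℕ) = (c.2 : ℕ) + 1 then 1 else 0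

theorem map_shiftM {R S : Type*} [Semiring R] [Semiring S] (f : R →+* S) :
    (shiftM R m).map f = shiftM S m := by
  ext r c
  simp only [map_apply, shiftM]
  split_ifs <;> simp

theorem sigma_ext {r c : Σ i, Fin (m i)} (h1 : r.1 = c.1) (h2 : (r.2 : ℕ) = (c.2 : ℕ)) :
    r = c := by
  obtain ⟨i, l⟩ := r
  obtain ⟨j, l'⟩ := c
  dsimp at h1 h2
  subst h1
  exact Sigma.ext rfl (heq_of_eq (Fin.ext h2))

variable {R : Type*} [CommRing R]

theorem shiftM_pow (n : ℕ) (r c : Σ i, Fin (m i)) :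
    (shiftM R m ^ n) r c = if r.1 = c.1 ∧ (r.2 : ℕ) = (c.2 : ℕ) + n then 1 else 0 := by
  classical
  induction n generalizing r with
  | zero =>
    rw [pow_zero, one_apply]
    refine if_congr ⟨fun h => by subst h; simp, fun h => sigma_ext h.1 (by omega)⟩ rfl rfl
  | succ n ih =>
    rw [pow_succ', Matrix.mul_apply]
    by_cases h : r.1 = c.1 ∧ (r.2 : ℕ) = (c.2 : ℕ) + (n + 1)
    · rw [if_pos h]
      have hl : (c.2 : ℕ) + n < m r.1 := by have := r.2.2; omega
      rw [Finset.sum_eq_single (⟨r.1, ⟨(c.2 : ℕ) + n, hl⟩⟩ : Σ i, Fin (m i))]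
      · rw [ih, shiftM, if_pos ⟨rfl, by dsimp; omega⟩, if_pos ⟨h.1, rfl⟩, one_mul]
      · intro b _ hb
        rw [ih, shiftM]
        split_ifs with h1 h2
        all_goals first
          | exact zero_mul _
          | exact mul_zero _
          | exact absurd (sigma_ext (r := b) (c := ⟨r.1, ⟨(c.2 : ℕ) + n, hl⟩⟩) h1.1.symm
              (by have := h1.2; have := h2.2; dsimp; omega)) hb
      · simp
    · rw [if_neg h]
      refine Finset.sum_eq_zero fun b _ => ?_
      rw [ih, shiftM]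
      split_ifs with h1 h2
      all_goals first
        | exact zero_mul _
        | exact mul_zero _
        | exact absurd ⟨h1.1.trans h2.1, by have := h1.2; have := h2.2; omega⟩ h

theorem shiftM_pow_mul (n : ℕ) (y : Matrix (Σ i, Fin (m i)) (Σ i, Fin (m i)) R)
    (i : ι) (l : Fin (m i)) (c : Σ i, Fin (m i)) :
    (shiftM R m ^ n * y) ⟨i, l⟩ c =
      if n ≤ (l : ℕ) then y ⟨i, ⟨(l : ℕ) - n, lt_of_le_of_lt (Nat.sub_le _ _) l.2⟩⟩ c else 0 := by
  classical
  rw [Matrix.mul_apply]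
  by_cases h : n ≤ (l : ℕ)
  · rw [if_pos h, Finset.sum_eq_single
      (⟨i, ⟨(l : ℕ) - n, lt_of_le_of_lt (Nat.sub_le _ _) l.2⟩⟩ : Σ i, Fin (m i))]
    · rw [shiftM_pow, if_pos ⟨rfl, by dsimp; omega⟩, one_mul]
    · intro b _ hb
      rw [shiftM_pow, if_neg, zero_mul]
      rintro ⟨h1, h2⟩
      exact hb (sigma_ext h1.symm (by dsimp at h2 ⊢; omega))
    · simp
  · rw [if_neg h]
    refine Finset.sum_eq_zero fun b _ => ?_
    rw [shiftM_pow, if_neg, zero_mul]
    rintro ⟨-, h2⟩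
    dsimp at h2
    omega

theorem mul_shiftM_pow (n : ℕ) (y : Matrix (Σ i, Fin (m i)) (Σ i, Fin (m i)) R)
    (r : Σ i, Fin (m i)) (j : ι) (l : Fin (m j)) :
    (y * shiftM R m ^ n) r ⟨j, l⟩ =
      if h : (l : ℕ) + n < m j then y r ⟨j, ⟨(l : ℕ) + n, h⟩⟩ else 0 := by
  classical
  rw [Matrix.mul_apply]
  by_cases h : (l : ℕ) + n < m j
  · rw [dif_pos h, Finset.sum_eq_single (⟨j, ⟨(l : ℕ) + n, h⟩⟩ : Σ i, Fin (m i))]
    · rw [shiftM_pow, if_pos ⟨rfl, rfl⟩, mul_one]
    · intro b _ hb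
      rw [shiftM_pow, if_neg, mul_zero]
      rintro ⟨h1, h2⟩
      exact hb (sigma_ext h1 (by dsimp at h2 ⊢; omega))
    · simp
  · rw [dif_neg h]
    refine Finset.sum_eq_zero fun b _ => ?_
    rw [shiftM_pow, if_neg, mul_zero]
    rintro ⟨h1, h2⟩
    dsimp at h1 h2
    have := b.2.2
    have e : m b.1 = m j := congrArg m h1
    omega

variable {y : Matrix (Σ i, Fin (m i)) (Σ i, Fin (m i)) R}

/-- A commuting matrix is determined by its columns at the tops of the chains. -/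
theorem comm_apply (hy : Commute y (shiftM R m)) (i : ι) (l : Fin (m i)) (j : ι) (n : Fin (m j)) :
    y ⟨i, l⟩ ⟨j, n⟩ =
      if (n : ℕ) ≤ (l : ℕ) then
        y ⟨i, ⟨(l : ℕ) - n, lt_of_le_of_lt (Nat.sub_le _ _) l.2⟩⟩ ⟨j, ⟨0, by have := n.2; omega⟩⟩
      else 0 := by
  have h := congrFun (congrFun (hy.pow_right (n : ℕ)).eq ⟨i, l⟩) ⟨j, ⟨0, by have := n.2; omega⟩⟩
  rw [mul_shiftM_pow, shiftM_pow_mul, dif_pos (by dsimp; have := n.2; omega)] at h
  rw [← h]
  congr 2
  exact Fin.ext (by simp)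

theorem comm_vanish (hy : Commute y (shiftM R m)) (i : ι) (l : Fin (m i)) (j : ι) (hj : 0 < m j)
    (h : (l : ℕ) + m j < m i) : y ⟨i, l⟩ ⟨j, ⟨0, hj⟩⟩ = 0 := by
  have h1 := congrFun (congrFun (hy.pow_right (m j)).eq ⟨i, ⟨(l : ℕ) + m j, h⟩⟩) ⟨j, ⟨0, hj⟩⟩
  rw [mul_shiftM_pow, shiftM_pow_mul, dif_neg (by dsimp; omega), if_pos (by dsimp; omega)] at h1
  rw [h1]
  congr 2
  exact Fin.ext (by simp)

/-- A nilpotent matrix becomes a family of chains in a suitable basis. -/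
theorem exists_shift_form {k : Type*} [Field k] {d : ℕ} (a : Matrix (Fin d) (Fin d) k)
    (ha : IsNilpotent a) :
    ∃ (n : ℕ) (m : Fin n → ℕ) (Q : Matrix (Σ i, Fin (m i)) (Fin d) k)
      (Q' : Matrix (Fin d) (Σ i, Fin (m i)) k), (∀ i, 0 < m i) ∧ Q * Q' = 1 ∧ Q' * Q = 1 ∧
      Q * a * Q' = shiftM k m := by
  classical
  obtain ⟨n, m, v, hm, hv, hli, hsp⟩ := exists_chains d
    (show Module.finrank k (Fin d → k) = d by simp) (Matrix.toLinAlgEquiv' a) (ha.elim fun N hN => ⟨N, by rw [← map_pow, hN, map_zero]⟩)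
  set b := Module.Basis.mk hli hsp with hb
  set e := Pi.basisFun k (Fin d) with he
  refine ⟨n, m, LinearMap.toMatrix e b LinearMap.id, LinearMap.toMatrix b e LinearMap.id, hm, ?_,
    ?_, ?_⟩
  · rw [← LinearMap.toMatrix_comp b e b, LinearMap.comp_id, LinearMap.toMatrix_id]
  · rw [← LinearMap.toMatrix_comp e b e, LinearMap.comp_id, LinearMap.toMatrix_id]
  · have h1 : a = LinearMap.toMatrix e e (Matrix.toLinAlgEquiv' a) := by
      rw [he, LinearMap.toMatrix_eq_toMatrix']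
      exact (LinearMap.toMatrix'_toLin' a).symm
    conv_lhs => rw [h1]
    rw [← LinearMap.toMatrix_comp e e b, ← LinearMap.toMatrix_comp b e b, LinearMap.id_comp,
      LinearMap.comp_id]
    ext r ⟨j, l⟩
    rw [LinearMap.toMatrix_apply, hb, Module.Basis.mk_apply, chainVec, ← Module.End.mul_apply,
      ← pow_succ']
    by_cases h : (l : ℕ) + 1 < m j
    · have : (Matrix.toLinAlgEquiv' a ^ ((l : ℕ) + 1)) (v j) =
          Module.Basis.mk hli hsp ⟨j, ⟨(l : ℕ) + 1, h⟩⟩ := by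
        rw [Module.Basis.mk_apply]; rfl
      rw [this, Module.Basis.repr_self, Finsupp.single_apply, shiftM]
      refine if_congr ⟨fun h' => by subst h'; simp,
        fun h' => (sigma_ext (c := ⟨j, ⟨(l : ℕ) + 1, h⟩⟩) h'.1 h'.2).symm⟩ rfl rfl
    · have h2 : (Matrix.toLinAlgEquiv' a ^ ((l : ℕ) + 1)) (v j) = 0 := by
        rw [show (l : ℕ) + 1 = m j by have := l.2; omega]
        exact hv j
      rw [h2, map_zero, shiftM, if_neg]
      · rfl
      · rintro ⟨h1, h2⟩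
        dsimp at h1 h2
        have := r.2.2
        have e : m r.1 = m j := congrArg m h1
        omega

end Cfsg.Agent.S4643Lib
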