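/-
The rank of a shift plus a map between chains of equal length.
-/
import Cfsg.Agent.Lib.S4643.Shift

set_option linter.unusedSectionVars false
set_option linter.style.haveILetI false

namespace Cfsg.Agent.S4643Lib

open Matrix

variable {ι : Type*} [Fintype ι] [DecidableEq ι] {m : ι → ℕ} {L : Type*} [Field L]

/-- A map between the chains, acting on every level. -/
def liftM (m : ι → ℕ) (Φ : Matrix ι ι L) : Matrix (Σ i, Fin (m i)) (Σ i, Fin (m i)) L :=
  fun r c => if (r.2 : ℕ) = (c.2 : ℕ) then Φ r.1 c.1 else 0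

variable {Φ : Matrix ι ι L} {m₀ p : ℕ}

theorem liftM_mulVec (hΦ : ∀ i j, Φ i j ≠ 0 → m i = m j) (i : ι) (l : Fin (m i))
    (f : ι → ℕ → L) :
    (liftM m Φ *ᵥ fun c => f c.1 (c.2 : ℕ)) ⟨i, l⟩ = ∑ j, Φ i j * f j (l : ℕ) := by
  simp only [mulVec, dotProduct]
  rw [Fintype.sum_sigma]
  refine Finset.sum_congr rfl fun j _ => ?_
  by_cases h0 : Φ i j = 0
  · rw [h0, zero_mul]
    refine Finset.sum_eq_zero fun l' _ => ?_
    simp [liftM, h0]
  · have hl : (l : ℕ) < m j := hΦ i j h0 ▸ l.2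
    rw [Finset.sum_eq_single (⟨(l : ℕ), hl⟩ : Fin (m j))]
    · simp [liftM]
    · intro b _ hb
      rw [liftM, if_neg, zero_mul]
      exact fun h => hb (Fin.ext h.symm)
    · simp

theorem shiftM_mulVec (i : ι) (l : Fin (m i)) (f : ι → ℕ → L) :
    (shiftM L m *ᵥ fun c => f c.1 (c.2 : ℕ)) ⟨i, l⟩ =
      if 1 ≤ (l : ℕ) then f i ((l : ℕ) - 1) else 0 := by
  simp only [mulVec, dotProduct]
  by_cases h : 1 ≤ (l : ℕ)
  · rw [if_pos h, Finset.sum_eq_single
      (⟨i, ⟨(l : ℕ) - 1, by have := l.2; omega⟩⟩ : Σ i, Fin (m i))]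
    · rw [shiftM, if_pos ⟨rfl, by dsimp; omega⟩, one_mul]
    · intro b _ hb
      rw [shiftM, if_neg, zero_mul]
      rintro ⟨h1, h2⟩
      exact hb (sigma_ext h1.symm (by dsimp at h2 ⊢; omega))
    · simp
  · rw [if_neg h]
    refine Finset.sum_eq_zero fun b _ => ?_
    rw [shiftM, if_neg, zero_mul]
    rintro ⟨-, h2⟩
    dsimp at h2
    omega

/-- The entries of the powers at the columns of the tops. -/
theorem pow_shift_add (hΦ : ∀ i j, Φ i j ≠ 0 → m i = m j) (q : ℕ) (j : ι) (hj : 0 < m j)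
    (r : Σ i, Fin (m i)) :
    ((shiftM L m + liftM m Φ) ^ q) r ⟨j, ⟨0, hj⟩⟩ =
      (q.choose (r.2 : ℕ) : L) * (Φ ^ (q - (r.2 : ℕ))) r.1 j := by
  induction q generalizing r with
  | zero =>
    obtain ⟨i, l⟩ := r
    rw [pow_zero, one_apply]
    rcases Nat.eq_zero_or_pos (l : ℕ) with hl | hl
    · simp only [hl, Nat.choose_self, Nat.cast_one, one_mul, Nat.sub_self, pow_zero, one_apply]
      refine if_congr ⟨fun h => by cases h; rfl, fun h => sigma_ext h (by simp [hl])⟩ rfl rfl
    · rw [if_neg, Nat.choose_eq_zero_of_lt hl, Nat.cast_zero, zero_mul]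
      intro h
      cases h
      simp at hl
  | succ q ih =>
    obtain ⟨i, l⟩ := r
    rw [pow_succ', Matrix.mul_apply]
    simp only [ih]
    have h := congrArg₂ (· + ·)
      (shiftM_mulVec (L := L) i l fun c l' => (q.choose l' : L) * (Φ ^ (q - l')) c j)
      (liftM_mulVec hΦ i l fun c l' => (q.choose l' : L) * (Φ ^ (q - l')) c j)
    simp only [mulVec, dotProduct] at h
    rw [← Finset.sum_add_distrib] at h
    simp only [← add_mul] at h
    refine h.trans ?_
    have hmul : ∑ c, Φ i c * ((q.choose (l : ℕ) : L) * (Φ ^ (q - (l : ℕ))) c j) =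
        (q.choose (l : ℕ) : L) * (Φ ^ (q - (l : ℕ) + 1)) i j := by
      rw [pow_succ', Matrix.mul_apply, Finset.mul_sum]
      exact Finset.sum_congr rfl fun c _ => by ring
    rw [hmul]
    rcases Nat.eq_zero_or_pos (l : ℕ) with hl | hl
    · simp [hl]
    · rw [if_pos (Nat.succ_le_of_lt hl)]
      obtain ⟨l', hl'⟩ : ∃ l', (l : ℕ) = l' + 1 := ⟨(l : ℕ) - 1, by omega⟩
      rw [hl', show q + 1 - (l' + 1) = q - l' by omega, show l' + 1 - 1 = l' by omega,
        Nat.choose_succ_succ q l', Nat.cast_add, add_mul]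
      congr 1
      rcases lt_or_ge q (l' + 1) with h | h
      · simp [Nat.choose_eq_zero_of_lt h]
      · rw [show q - (l' + 1) + 1 = q - l' by omega]

/-- The chains not of length `p`. -/
abbrev Short (m : ι → ℕ) (p : ℕ) := {i : ι // m i ≠ p}

/-- The block of `Φ` on the short chains. -/
def shortM (p : ℕ) (m : ι → ℕ) (Φ : Matrix ι ι L) : Matrix (Short m p) (Short m p) L :=
  fun s s' => Φ s.1 s'.1

theorem shortM_mulVec (hΦ : ∀ i j, Φ i j ≠ 0 → m i = m j) (s : Short m p) (x : ι → L) :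
    (shortM p m Φ *ᵥ fun t => x t.1) s = ∑ j, Φ s.1 j * x j := by
  simp only [mulVec, dotProduct, shortM]
  rw [← Finset.sum_subtype (Finset.univ.filter fun j => m j ≠ p) (fun j => by simp)
    (fun j => Φ s.1 j * x j)]
  refine Finset.sum_subset (Finset.subset_univ _) fun j _ hj => ?_
  rcases eq_or_ne (Φ s.1 j) 0 with h | h
  · rw [h, zero_mul]
  · simp only [Finset.mem_filter, Finset.mem_univ, true_and, ne_eq, not_not] at hj
    exact absurd ((hΦ _ _ h).trans hj) s.2

theorem pow_mulVec_short (hΦ : ∀ i j, Φ i j ≠ 0 → m i = m j) (n : ℕ) (s : Short m p)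
    (x : ι → L) :
    ((shortM p m Φ ^ n) *ᵥ fun t => x t.1) s = ∑ j, (Φ ^ n) s.1 j * x j := by
  induction n generalizing x with
  | zero => simp [one_apply]
  | succ n ih =>
    have h1 : (shortM p m Φ *ᵥ fun t => x t.1) = fun t => (Φ *ᵥ x) t.1 :=
      funext fun t => shortM_mulVec hΦ t x
    rw [pow_succ, ← mulVec_mulVec, h1, ih]
    simp only [pow_succ, Matrix.mul_apply, mulVec, dotProduct, Finset.mul_sum, Finset.sum_mul]
    rw [Finset.sum_comm]
    exact Finset.sum_congr rfl fun i _ => Finset.sum_congr rfl fun j _ => by ring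

/-- An injection between kernels compares the ranks. -/
theorem card_add_rank_le {κ κ' τ τ' : Type*} [Fintype κ] [Fintype κ'] [Fintype τ] [Fintype τ']
    (D : Matrix κ' κ L) (T : Matrix τ' τ L) (g : (κ → L) →ₗ[L] (τ → L))
    (hinj : ∀ x, D *ᵥ x = 0 → g x = 0 → x = 0) (hker : ∀ x, D *ᵥ x = 0 → T *ᵥ g x = 0) :
    Fintype.card κ + T.rank ≤ D.rank + Fintype.card τ := by
  classical
  let f : LinearMap.ker D.mulVecLin →ₗ[L] LinearMap.ker T.mulVecLin :=
    (g.comp (LinearMap.ker D.mulVecLin).subtype).codRestrict _ fun x => hker x x.2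
  have hf : Function.Injective f := by
    refine (injective_iff_map_eq_zero _).2 fun x hx => Subtype.ext (hinj x x.2 ?_)
    exact congrArg Subtype.val hx
  have h1 := LinearMap.finrank_le_finrank_of_injective hf
  have h2 := LinearMap.finrank_range_add_finrank_ker D.mulVecLin
  have h3 := LinearMap.finrank_range_add_finrank_ker T.mulVecLin
  rw [Module.finrank_fintype_fun_eq_card] at h2 h3
  simp only [Matrix.rank] at *
  omega

theorem shortM_pow (hΦ : ∀ i j, Φ i j ≠ 0 → m i = m j) (n : ℕ) (s t : Short m p) :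
    (shortM p m Φ ^ n) s t = (Φ ^ n) s.1 t.1 := by
  induction n generalizing t with
  | zero => simp [one_apply, Subtype.ext_iff]
  | succ n ih =>
    rw [pow_succ, pow_succ, Matrix.mul_apply, Matrix.mul_apply]
    simp only [ih, shortM]
    rw [← Finset.sum_subtype (Finset.univ.filter fun j => m j ≠ p) (fun j => by simp)
      (fun j => (Φ ^ n) s.1 j * Φ j t.1)]
    refine Finset.sum_subset (Finset.subset_univ _) fun j _ hj => ?_
    rcases eq_or_ne (Φ j t.1) 0 with h | h
    · rw [h, mul_zero]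
    · simp only [Finset.mem_filter, Finset.mem_univ, true_and, ne_eq, not_not] at hj
      exact absurd ((hΦ _ _ h).symm.trans hj) t.2

/-- The kernel of the shift plus `Φ`. -/
theorem rank_shift_add (hΦ : ∀ i j, Φ i j ≠ 0 → m i = m j) (hpos : ∀ i, 0 < m i)
    (hs : ∀ i, m i ≠ p → m i = m₀) :
    Fintype.card (Σ i, Fin (m i)) + (shortM p m Φ ^ m₀).rank ≤
      (shiftM L m + liftM m Φ).rank + Fintype.card ι := by
  let g : ((Σ i, Fin (m i)) → L) →ₗ[L] (ι → L) :=
    LinearMap.funLeft L L fun i => (⟨i, ⟨m i - 1, by have := hpos i; omega⟩⟩ : Σ i, Fin (m i))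
  have key : ∀ x, (shiftM L m + liftM m Φ) *ᵥ x = 0 → ∃ f : ι → ℕ → L,
      (∀ i (l : Fin (m i)), x ⟨i, l⟩ = f i l) ∧ ∀ i, (∀ l, l + 1 < m i →
        f i l + ∑ j, Φ i j * f j (l + 1) = 0) ∧ ∑ j, Φ i j * f j 0 = 0 := by
    intro x hx
    let f : ι → ℕ → L := fun i l => if h : l < m i then x ⟨i, ⟨l, h⟩⟩ else 0
    have hxf : x = fun c => f c.1 (c.2 : ℕ) := funext fun c => by simp [f]
    refine ⟨f, fun i l => by simp [f], fun i => ⟨fun l hl => ?_, ?_⟩⟩
    · have h := congrFun hx ⟨i, ⟨l + 1, hl⟩⟩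
      rw [hxf, add_mulVec, Pi.add_apply, shiftM_mulVec, liftM_mulVec hΦ] at h
      simpa using h
    · have h := congrFun hx ⟨i, ⟨0, hpos i⟩⟩
      rw [hxf, add_mulVec, Pi.add_apply, shiftM_mulVec, liftM_mulVec hΦ] at h
      simpa using h
  set T' := (Φ ^ m₀).submatrix (Subtype.val : Short m p → ι) id with hT'
  have hT : (shortM p m Φ ^ m₀).rank ≤ T'.rank := by
    have e : shortM p m Φ ^ m₀ = T'.submatrix id Subtype.val := by
      ext s t; rw [shortM_pow hΦ]; rfl
    rw [e]
    exact rank_submatrix_le _ _ _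
  suffices hmain : Fintype.card (Σ i, Fin (m i)) + T'.rank ≤
      (shiftM L m + liftM m Φ).rank + Fintype.card ι by omega
  refine card_add_rank_le _ _ g (fun x hx hg => ?_) fun x hx => ?_
  · obtain ⟨f, hf, hrec⟩ := key x hx
    have hz : ∀ e i, e < m i → f i (m i - 1 - e) = 0 := by
      intro e
      induction e with
      | zero =>
        intro i hi
        rw [Nat.sub_zero]
        exact (hf i ⟨m i - 1, by omega⟩).symm.trans (congrFun hg i)
      | succ e ihe =>
        intro i hi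
        have h := (hrec i).1 (m i - 1 - (e + 1)) (by omega)
        rw [Finset.sum_eq_zero fun j _ => ?_, add_zero] at h
        · exact h
        · rcases eq_or_ne (Φ i j) 0 with h0 | h0
          · rw [h0, zero_mul]
          · have he := hΦ i j h0
            have h5 := ihe j (by omega)
            rw [show m i - 1 - (e + 1) + 1 = m j - 1 - e by omega, h5, mul_zero]
    funext c
    obtain ⟨i, l⟩ := c
    rw [hf i l]
    have hh := hz (m i - 1 - (l : ℕ)) i (by have := l.2; omega)
    rw [show m i - 1 - (m i - 1 - (l : ℕ)) = (l : ℕ) by have := l.2; omega] at hh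
    exact hh
  · obtain ⟨f, hf, hrec⟩ := key x hx
    let u : ℕ → Short m p → L := fun l t => f t.1 l
    have hstep : ∀ l, l + 1 < m₀ → shortM p m Φ *ᵥ u (l + 1) = -u l := by
      intro l hl
      funext t
      rw [shortM_mulVec hΦ t (fun j => f j (l + 1)), Pi.neg_apply]
      exact eq_neg_of_add_eq_zero_right ((hrec t.1).1 l (by rw [hs _ t.2]; exact hl))
    have h0 : shortM p m Φ *ᵥ u 0 = 0 := funext fun t => by
      rw [shortM_mulVec hΦ t (fun j => f j 0), (hrec t.1).2, Pi.zero_apply]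
    have hall : ∀ l, l < m₀ → (shortM p m Φ ^ (l + 1)) *ᵥ u l = 0 := by
      intro l
      induction l with
      | zero => intro _; rw [pow_one]; exact h0
      | succ l ihl =>
        intro hl
        rw [pow_succ, ← mulVec_mulVec, hstep l hl, mulVec_neg, ihl (by omega), neg_zero]
    funext t
    have hm0 : 0 < m₀ := hs _ t.2 ▸ hpos _
    have e : (fun t : Short m p => g x t.1) = u (m₀ - 1) := funext fun t => by
      show x ⟨t.1, ⟨m t.1 - 1, _⟩⟩ = f t.1 (m₀ - 1)
      rw [hf]
      simp [hs _ t.2]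
    have h := hall (m₀ - 1) (by omega)
    rw [Nat.sub_add_cancel hm0, ← e] at h
    have h' := congrFun h t
    rw [pow_mulVec_short hΦ] at h'
    exact h'

/-- The rank of the power `p - 1` of the shift plus `Φ`. -/
theorem rank_shift_add_pow [Fact p.Prime] [CharP L p] (hΦ : ∀ i j, Φ i j ≠ 0 → m i = m j)
    (hpos : ∀ i, 0 < m i) (hle : ∀ i, m i ≤ p) (hs : ∀ i, m i ≠ p → m i = m₀) :
    Fintype.card ι + (shortM p m Φ ^ (p - m₀)).rank ≤
      ((shiftM L m + liftM m Φ) ^ (p - 1)).rank + Fintype.card (Short m p) := by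
  classical
  let r : ι → Σ i, Fin (m i) := fun i => ⟨i, ⟨m i - 1, by have := hpos i; omega⟩⟩
  let c : ι → Σ i, Fin (m i) := fun i => ⟨i, ⟨0, hpos i⟩⟩
  set N := ((shiftM L m + liftM m Φ) ^ (p - 1)).submatrix r c with hN
  have hle' : N.rank ≤ ((shiftM L m + liftM m Φ) ^ (p - 1)).rank := rank_submatrix_le _ r c
  have hentry : ∀ i j, N i j = (-1) ^ (m i - 1) * (Φ ^ (p - m i)) i j := fun i j => by
    rw [hN, submatrix_apply, pow_shift_add hΦ (p - 1) j (hpos j)]
    have := hpos i; have := hle i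
    rw [choose_pred_cast (by show m i - 1 < p; omega),
      show p - 1 - (m i - 1) = p - m i by omega]
  let res : (ι → L) →ₗ[L] (Short m p → L) := LinearMap.funLeft L L Subtype.val
  have h1 : ∀ x, N *ᵥ x = 0 → ∀ i, ∑ j, (Φ ^ (p - m i)) i j * x j = 0 := fun x hx i => by
    have h := congrFun hx i
    simp only [mulVec, dotProduct, hentry, mul_assoc, ← Finset.mul_sum, Pi.zero_apply] at h
    exact (mul_eq_zero.1 h).resolve_left (pow_ne_zero _ (by simp))
  have h := card_add_rank_le N (shortM p m Φ ^ (p - m₀)) res (fun x hx hr => funext fun i => ?_)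
    (fun x hx => funext fun t => ?_)
  · omega
  · by_cases hi : m i = p
    · have h2 := h1 x hx i
      rw [hi, Nat.sub_self, pow_zero] at h2
      simpa [one_apply] using h2
    · exact congrFun hr ⟨i, hi⟩
  · show ((shortM p m Φ ^ (p - m₀)) *ᵥ fun t => x t.1) t = 0
    rw [pow_mulVec_short hΦ, ← hs _ t.2]
    exact h1 x hx t.1

/-- The long chains are untouched. -/
theorem long_entry (hΦ : ∀ i j, Φ i j ≠ 0 → m i = m j) : ∀ n i j, m i ≠ m j → (Φ ^ n) i j = 0 := by
  intro n
  induction n with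
  | zero => intro i j h; rw [pow_zero, one_apply, if_neg]; rintro rfl; exact h rfl
  | succ n ih =>
    intro i j h
    rw [pow_succ, Matrix.mul_apply]
    refine Finset.sum_eq_zero fun c _ => ?_
    rcases eq_or_ne (Φ c j) 0 with h0 | h0
    · rw [h0, mul_zero]
    · rw [ih i c (fun e => h (e.trans (hΦ c j h0))), zero_mul]

end Cfsg.Agent.S4643Lib
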