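/-
Semicontinuity along a chain filtration: a small perturbation of a nilpotent operator by a
commuting one.
-/
import Cfsg.Agent.Lib.S4643.ShiftAdd
import Mathlib.Algebra.Polynomial.Eval.SMul
import Mathlib.Algebra.Polynomial.CoeffList

set_option linter.unusedSectionVars false
set_option linter.style.haveILetI false

namespace Cfsg.Agent.S4643Lib

open Matrix Polynomial

variable {ι : Type*} [Fintype ι] [DecidableEq ι] {m : ι → ℕ} {L : Type*} [Field L]
  {p m₀ : ℕ}

/-- The block at the tops. -/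
def topM (hpos : ∀ i, 0 < m i) (F : Matrix (Σ i, Fin (m i)) (Σ i, Fin (m i)) L) : Matrix ι ι L :=
  fun i j => if m i = m j then F ⟨i, ⟨0, hpos i⟩⟩ ⟨j, ⟨0, hpos j⟩⟩ else 0

/-- The degrees of the chain filtration. -/
def dg (p : ℕ) (c : Σ i, Fin (m i)) : ℕ :=
  if m c.1 = p then 2 * (c.2 : ℕ) else 2 * (c.2 : ℕ) + 1

theorem dg_le_of_ne_zero (hpos : ∀ i, 0 < m i) (hs : ∀ i, m i ≠ p → m i = m₀)
    (hlt : m₀ < p) {F : Matrix (Σ i, Fin (m i)) (Σ i, Fin (m i)) L}
    (hF : Commute F (shiftM L m)) {r c : Σ i, Fin (m i)} (h : F r c ≠ 0) : dg p c ≤ dg p r := by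
  obtain ⟨i, l⟩ := r
  obtain ⟨j, n⟩ := c
  rw [comm_apply hF] at h
  split_ifs at h with hnl
  swap
  · exact absurd rfl h
  have hv : m i ≤ (l : ℕ) - n + m j := by
    by_contra hc
    exact h (comm_vanish hF i _ j (hpos j) (by dsimp; omega))
  simp only [dg]
  split_ifs with h1 h2 <;> try omega
  all_goals
    have := hs j h1
    omega

theorem top_block (hpos : ∀ i, 0 < m i) (hs : ∀ i, m i ≠ p → m i = m₀) (hlt : m₀ < p)
    {F : Matrix (Σ i, Fin (m i)) (Σ i, Fin (m i)) L} (hF : Commute F (shiftM L m))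
    (r c : Σ i, Fin (m i)) :
    (if dg p r ≤ dg p c then F r c else 0) = liftM m (topM hpos F) r c := by
  obtain ⟨i, l⟩ := r
  obtain ⟨j, n⟩ := c
  simp only [liftM, topM]
  by_cases h : F ⟨i, l⟩ ⟨j, n⟩ = 0
  · rw [h, ite_self]
    split_ifs with h1 h2 <;> try rfl
    rw [comm_apply hF, if_pos h1.ge] at h
    rw [← h]
    congr 2
    exact Fin.ext (by simp [h1])
  · have hle := dg_le_of_ne_zero hpos hs hlt hF h
    simp only [dg] at hle ⊢
    by_cases hij : m i = m j
    · by_cases hln : (l : ℕ) = n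
      · rw [if_pos (by rw [hln, hij]), if_pos hln, if_pos hij, comm_apply hF, if_pos hln.ge]
        congr 2
        exact Fin.ext (by simp [hln])
      · rw [if_neg hln, if_neg]
        simp only [hij] at hle ⊢
        split_ifs at hle ⊢ <;> omega
    · have e : (if (l : ℕ) = n then (if m i = m j then F ⟨i, ⟨0, hpos i⟩⟩ ⟨j, ⟨0, hpos j⟩⟩
          else 0) else 0) = (0 : L) := by simp [hij]
      rw [e, if_neg]
      split_ifs at hle ⊢ <;> try omega
      all_goals
        have := hs i ‹_›
        have := hs j ‹_›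
        omega

/-- Semicontinuity: the rank of the perturbation is bounded below through the short top block. -/
theorem perturb [Fact p.Prime] [CharP L p] (hpos : ∀ i, 0 < m i) (hle : ∀ i, m i ≤ p)
    (hs : ∀ i, m i ≠ p → m i = m₀) (hm₀ : m₀ = 1 ∨ m₀ + 1 = p)
    {F : Matrix (Σ i, Fin (m i)) (Σ i, Fin (m i)) L} (hF : Commute F (shiftM L m)) {w : ℕ}
    (h : Fintype.card (Short m p) ≤ (shortM p m (topM hpos F)).rank +
      (shortM p m (topM hpos F) ^ (p - 1)).rank + w) :
    Fintype.card (Σ i, Fin (m i)) ≤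
      (shiftM (FractionRing L[X]) m +
        algebraMap L[X] (FractionRing L[X]) (X ^ 2) •
          F.map ((algebraMap L[X] (FractionRing L[X])).comp C)).rank +
      ((shiftM (FractionRing L[X]) m +
        algebraMap L[X] (FractionRing L[X]) (X ^ 2) •
          F.map ((algebraMap L[X] (FractionRing L[X])).comp C)) ^ (p - 1)).rank + w := by
  classical
  have hp2 : 2 ≤ p := (Fact.out : p.Prime).two_le
  have hlt : m₀ < p := by rcases hm₀ with h | h <;> omega
  set K := FractionRing L[X] with hK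
  set ψ := algebraMap L[X] K with hψ
  have hψi : Function.Injective ψ := IsFractionRing.injective L[X] K
  let D : Matrix (Σ i, Fin (m i)) (Σ i, Fin (m i)) L[X] :=
    shiftM L[X] m + Matrix.of fun r c => X ^ (dg p r - dg p c) * C (F r c)
  have hD0 : D.map (evalRingHom (0 : L)) = shiftM L m + liftM m (topM hpos F) := by
    ext r c
    simp only [D, map_apply, Matrix.add_apply, Matrix.of_apply, coe_evalRingHom, eval_add,
      eval_mul, eval_pow, eval_X, eval_C]
    congr 1
    · simp only [shiftM]; split_ifs <;> simp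
    · rw [← top_block hpos hs hlt hF]
      by_cases hd : dg p r ≤ dg p c
      · rw [if_pos hd, Nat.sub_eq_zero_of_le hd, pow_zero, one_mul]
      · rw [if_neg hd, zero_pow (by omega), zero_mul]
  set P := shiftM K m + ψ (X ^ 2) • F.map (ψ.comp C) with hP
  let Λ : Matrix (Σ i, Fin (m i)) (Σ i, Fin (m i)) K :=
    diagonal fun c => ψ X ^ (2 * p + 1 - dg p c)
  have hx : ψ X ≠ 0 := (map_ne_zero_iff ψ hψi).2 X_ne_zero
  have hdg : ∀ c : Σ i, Fin (m i), dg p c ≤ 2 * p + 1 := fun c => by
    have := c.2.2; have := hle c.1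
    simp only [dg]; split_ifs <;> omega
  have hΛ : Λ.det ≠ 0 := by
    rw [det_diagonal]; exact Finset.prod_ne_zero_iff.2 fun c _ => pow_ne_zero _ hx
  have hconj : P * Λ = (ψ X ^ 2) • (Λ * D.map ψ) := by
    ext r c
    rw [mul_diagonal, Matrix.smul_apply, diagonal_mul, smul_eq_mul]
    simp only [P, D, Matrix.add_apply, Matrix.of_apply, map_apply, Matrix.smul_apply, map_add, map_mul, map_pow,
      RingHom.comp_apply, smul_eq_mul, add_mul, mul_add]
    congr 1
    · simp only [shiftM]
      split_ifs with hrc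
      · obtain ⟨h1, h2⟩ := hrc
        have e : dg p r = dg p c + 2 := by
          have e' : m r.1 = m c.1 := congrArg m h1
          simp only [dg, e']; split_ifs <;> omega
        have := hdg r
        rw [map_one, one_mul, mul_one, ← pow_add]
        congr 1; omega
      · simp
    · rcases eq_or_ne (F r c) 0 with h0 | h0
      · simp [h0]
      · have := dg_le_of_ne_zero hpos hs hlt hF h0
        have := hdg r
        rw [← mul_assoc (ψ X ^ _) (ψ X ^ _), ← pow_add, ← mul_assoc, ← pow_add, mul_right_comm,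
          ← pow_add]
        congr 2
        omega
  have hpow : ∀ q, P ^ q * Λ = (ψ X ^ 2) ^ q • (Λ * (D.map ψ) ^ q) := by
    intro q
    induction q with
    | zero => simp
    | succ q ih =>
      rw [pow_succ, mul_assoc, hconj, Matrix.mul_smul, ← mul_assoc, ih, smul_mul_assoc, smul_smul,
        mul_assoc, ← pow_succ, ← pow_succ']
  have hrank : ∀ q, ((D.map (evalRingHom (0 : L))) ^ q).rank ≤ (P ^ q).rank := by
    intro q
    have e1 : (D.map (evalRingHom (0 : L))) ^ q = (D ^ q).map (evalRingHom (0 : L)) :=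
      (map_pow (evalRingHom (0 : L)).mapMatrix D q).symm
    have e2 : (D ^ q).map ψ = (D.map ψ) ^ q := map_pow ψ.mapMatrix D q
    rw [e1, ← rank_mul_eq_left_of_det_ne_zero Λ (P ^ q) hΛ, hpow,
      rank_smul_of_mem_nonZeroDivisors _ (mem_nonZeroDivisors_of_ne_zero (pow_ne_zero q
        (pow_ne_zero 2 hx))), rank_mul_eq_right_of_det_ne_zero Λ _ hΛ, ← e2]
    exact rank_map_le (evalRingHom (0 : L)) ψ hψi (D ^ q)
  have hΦ : ∀ i j, topM hpos F i j ≠ 0 → m i = m j := fun i j h => by
    by_contra hne; simp [topM, hne] at h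
  have h1 := hrank 1
  rw [pow_one, pow_one, hD0] at h1
  have h2 := hrank (p - 1)
  rw [hD0] at h2
  have g1 := rank_shift_add (m₀ := m₀) (p := p) hΦ hpos hs
  have g2 := rank_shift_add_pow (m₀ := m₀) hΦ hpos hle hs
  set φ := shortM p m (topM hpos F)
  have hrr : (φ ^ m₀).rank + (φ ^ (p - m₀)).rank = φ.rank + (φ ^ (p - 1)).rank := by
    rcases hm₀ with hm | hm
    · rw [hm, pow_one]
    · rw [show p - m₀ = 1 by omega, show m₀ = p - 1 by omega, pow_one, add_comm]
  omega

end Cfsg.Agent.S4643Lib
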