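/-
The sum of the conjugates under an element of order `p`, as an expression in `u - 1`.
-/
import Cfsg.Agent.Lib.S4643.Rank
import Mathlib.Algebra.Algebra.Bilinear
import Mathlib.Algebra.CharP.Algebra

set_option linter.unusedSectionVars false
set_option linter.style.haveILetI false

namespace Cfsg.Agent.S4643Lib

variable {k : Type*} [Field k] {A : Type*} [Ring A] [Nontrivial A] [Algebra k A]
  {p : ℕ} [hp : Fact p.Prime] [CharP k p]

/-- The sum of the monomials of degree `p - 1` in the two multiplications by `a`. -/
def symSum (p : ℕ) (a z : A) : A := ∑ j ∈ Finset.range p, a ^ j * z * a ^ (p - 1 - j)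

variable (k)

theorem charP_end : CharP (Module.End k A) p :=
  charP_of_injective_ringHom (algebraMap k (Module.End k A)).injective p

include k in
theorem symSum_eq (a z : A) :
    ((LinearMap.mulLeft k a - LinearMap.mulRight k a) ^ (p - 1)) z = symSum p a z := by
  haveI := charP_end k (A := A) (p := p)
  have hc : Commute (LinearMap.mulLeft k a) (LinearMap.mulRight k a) :=
    LinearMap.commute_mulLeft_right a a
  rw [sub_pow_pred (p := p) hc, LinearMap.sum_apply]
  refine Finset.sum_congr rfl fun j _ => ?_
  rw [LinearMap.pow_mulLeft, LinearMap.pow_mulRight, Module.End.mul_apply,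
    LinearMap.mulLeft_apply, LinearMap.mulRight_apply, mul_assoc]

include k in
theorem symSum_comm {a : A} (ha : a ^ p = 0) (z : A) : a * symSum p a z = symSum p a z * a := by
  haveI := charP_end k (A := A) (p := p)
  have hc : Commute (LinearMap.mulLeft k a) (LinearMap.mulRight k a) :=
    LinearMap.commute_mulLeft_right a a
  have h : ((LinearMap.mulLeft k a - LinearMap.mulRight k a) ^ p) z = 0 := by
    rw [sub_pow_char_of_commute p hc, LinearMap.pow_mulLeft, LinearMap.pow_mulRight]
    simp [ha]
  rw [show p = p - 1 + 1 from (Nat.sub_add_cancel hp.out.one_le).symm, pow_succ',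
    Module.End.mul_apply, symSum_eq k a z] at h
  exact sub_eq_zero.1 h

include k in
/-- The sum of the conjugates. -/
theorem conj_sum {u v : A} (huv : u * v = 1) (hvu : v * u = 1) (hu : u ^ p = 1) (z : A) :
    ∑ l ∈ Finset.range p, u ^ l * z * v ^ l = symSum p (u - 1) z * u := by
  haveI := charP_end k (A := A) (p := p)
  set a := u - 1 with ha
  have hua : Commute u v := huv.trans hvu.symm
  set T : Module.End k A := LinearMap.mulLeft k u * LinearMap.mulRight k v with hT
  have hTl : ∀ l, (T ^ l) z = u ^ l * z * v ^ l := fun l => by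
    rw [hT, (LinearMap.commute_mulLeft_right u v).mul_pow, LinearMap.pow_mulLeft,
      LinearMap.pow_mulRight, Module.End.mul_apply, LinearMap.mulLeft_apply,
      LinearMap.mulRight_apply, mul_assoc]
  have hT1 : T - 1 = (LinearMap.mulLeft k a - LinearMap.mulRight k a) * LinearMap.mulRight k v := by
    refine LinearMap.ext fun x => ?_
    simp only [hT, ha, LinearMap.sub_apply, Module.End.mul_apply, LinearMap.mulLeft_apply,
      LinearMap.mulRight_apply, Module.End.one_apply, sub_mul, one_mul, mul_sub, mul_one,
      mul_assoc, hvu]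
    abel
  have hc : Commute (LinearMap.mulLeft k a - LinearMap.mulRight k a) (LinearMap.mulRight k v) := by
    refine (LinearMap.commute_mulLeft_right a v).sub_left ?_
    have : Commute a v := (hua.sub_left (Commute.one_left v))
    refine LinearMap.ext fun x => ?_
    simp only [Module.End.mul_apply, LinearMap.mulRight_apply, mul_assoc, this.eq]
  have hsum : (T - 1) ^ (p - 1) = ∑ l ∈ Finset.range p, T ^ l := by
    rw [sub_pow_pred (Commute.one_right T)]
    simp
  rw [← Finset.sum_congr rfl fun l _ => hTl l, ← LinearMap.sum_apply, ← hsum, hT1, hc.mul_pow,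
    Module.End.mul_apply, LinearMap.pow_mulRight, LinearMap.mulRight_apply, symSum_eq k a]
  have hv : v ^ (p - 1) = u := by
    have h1 : v ^ p = 1 := by
      calc v ^ p = v ^ p * u ^ p := by rw [hu, mul_one]
        _ = (v * u) ^ p := (hua.symm.mul_pow p).symm
        _ = 1 := by rw [hvu, one_pow]
    calc v ^ (p - 1) = v ^ (p - 1) * (v * u) := by rw [hvu, mul_one]
      _ = v ^ p * u := by rw [← mul_assoc, ← pow_succ, Nat.sub_add_cancel hp.out.one_le]
      _ = u := by rw [h1, one_mul]
  rw [hv, symSum, symSum, Finset.sum_mul]
  refine Finset.sum_congr rfl fun j _ => ?_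
  have : Commute u (a ^ (p - 1 - j)) := ((Commute.refl u).sub_right (Commute.one_right u)).pow_right _
  simp only [mul_assoc, this.eq]

end Cfsg.Agent.S4643Lib
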