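/-
Sums of conjugates under a unipotent element, in a basis of chains.
-/
import Cfsg.Agent.Lib.S4643.Perturb
import Cfsg.Agent.Lib.S4643.Trace

set_option linter.unusedSectionVars false
set_option linter.style.haveILetI false

namespace Cfsg.Agent.S4643Lib

open Matrix

variable {ι : Type*} [Fintype ι] [DecidableEq ι] {m : ι → ℕ} {k : Type*} [Field k] {p : ℕ}

local notation "J" => (Σ i, Fin (m i))

theorem le_of_shift_pow (h : shiftM k m ^ p = 0) (i : ι) : m i ≤ p := by
  by_contra hc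
  have hc' : p < m i := by omega
  have h1 := congrFun (congrFun h ⟨i, ⟨p, hc'⟩⟩) ⟨i, ⟨0, by omega⟩⟩
  rw [shiftM_pow, if_pos ⟨rfl, by simp⟩] at h1
  exact one_ne_zero h1

theorem symSum_apply (z : Matrix J J k) (i : ι) (l : Fin (m i)) (j : ι) (hj : 0 < m j) :
    symSum p (shiftM k m) z ⟨i, l⟩ ⟨j, ⟨0, hj⟩⟩ =
      ∑ t ∈ Finset.range p, if h : p - 1 - t < m j then
        (if t ≤ (l : ℕ) then z ⟨i, ⟨(l : ℕ) - t, lt_of_le_of_lt (Nat.sub_le _ _) l.2⟩⟩
          ⟨j, ⟨p - 1 - t, h⟩⟩ else 0) else 0 := by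
  simp only [symSum, Matrix.sum_apply]
  refine Finset.sum_congr rfl fun t _ => ?_
  rw [mul_shiftM_pow]
  simp only [Nat.zero_add]
  split_ifs with h h2
  · rw [shiftM_pow_mul, if_pos h2]
  · rw [shiftM_pow_mul, if_neg h2]
  · rfl

variable [hp : Fact p.Prime] [CharP k p]

theorem symSum_shift_vanish (hpos : ∀ i, 0 < m i) (hA : shiftM k m ^ p = 0) (z : Matrix J J k)
    (i : ι) (l : Fin (m i)) (j : ι) (h : (l : ℕ) + m j < p) :
    (symSum p (shiftM k m) z * (1 + shiftM k m)) ⟨i, l⟩ ⟨j, ⟨0, hpos j⟩⟩ = 0 := by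
  haveI : Nonempty J := ⟨⟨i, l⟩⟩
  have h0 : ∀ l' : Fin (m i), (l' : ℕ) + m j < p →
      symSum p (shiftM k m) z ⟨i, l'⟩ ⟨j, ⟨0, hpos j⟩⟩ = 0 := by
    intro l' hl'
    rw [symSum_apply]
    refine Finset.sum_eq_zero fun t _ => ?_
    split_ifs with h1 h2
    · omega
    · rfl
    · rfl
  rw [mul_add, mul_one, Matrix.add_apply, h0 l h, zero_add, ← symSum_comm k hA z]
  have e := shiftM_pow_mul 1 (symSum p (shiftM k m) z) i l ⟨j, ⟨0, hpos j⟩⟩
  rw [pow_one] at e
  rw [e]
  split_ifs
  · exact h0 _ (by dsimp; omega)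
  · rfl

/-- A commuting matrix with zero short block is a sum of the monomials. -/
theorem exists_symSum_eq (hpos : ∀ i, 0 < m i) (hA : shiftM k m ^ p = 0) {m₀ : ℕ}
    (hs : ∀ i, m i ≠ p → m i = m₀) (hm₀ : m₀ = 1 ∨ m₀ + 1 = p) {y : Matrix J J k}
    (hy : Commute y (shiftM k m)) (h0 : shortM p m (topM hpos y) = 0) :
    ∃ z, y = symSum p (shiftM k m) z := by
  classical
  rcases isEmpty_or_nonempty J with hJ | hJ
  · exact ⟨0, Matrix.ext fun r => isEmptyElim r⟩
  have hle := le_of_shift_pow hA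
  have hp2 := hp.out.two_le
  have hlt : m₀ < p := by rcases hm₀ with h | h <;> omega
  let z : Matrix J J k := fun r c =>
    if (c.2 : ℕ) + 1 = m c.1 then
      (if h : (r.2 : ℕ) + (p - m c.1) < m r.1 then
        y ⟨r.1, ⟨(r.2 : ℕ) + (p - m c.1), h⟩⟩ ⟨c.1, ⟨0, hpos c.1⟩⟩ else 0) else 0
  refine ⟨z, ?_⟩
  have hcomm : Commute (symSum p (shiftM k m) z) (shiftM k m) := (symSum_comm k hA z).symm
  have hcol : ∀ i (l : Fin (m i)) j, y ⟨i, l⟩ ⟨j, ⟨0, hpos j⟩⟩ =
      symSum p (shiftM k m) z ⟨i, l⟩ ⟨j, ⟨0, hpos j⟩⟩ := by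
    intro i l j
    have hmj := hle j
    have := hpos j
    rw [symSum_apply, Finset.sum_eq_single (p - m j)]
    · rw [dif_pos (by omega)]
      by_cases h : p - m j ≤ (l : ℕ)
      · rw [if_pos h]
        simp only [z]
        rw [if_pos (by omega), dif_pos (by have := l.2; omega)]
        congr 2
        exact Fin.ext (by dsimp; omega)
      · rw [if_neg h]
        by_contra hne
        have hv : m i ≤ (l : ℕ) + m j := by
          by_contra hc
          exact hne (comm_vanish hy i l j (hpos j) (by omega))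
        have hj := hs j (by omega)
        by_cases hi : m i = p
        · omega
        · have hi' := hs i hi
          have hl0 : (l : ℕ) = 0 := by rcases hm₀ with e | e <;> omega
          apply hne
          have h1 := congrFun (congrFun h0 ⟨i, hi⟩) ⟨j, by omega⟩
          simp only [shortM, topM, hi', hj, Matrix.zero_apply, if_true] at h1
          rw [← h1]
          congr 2
          exact Fin.ext (by simp [hl0])
    · intro t ht hne
      have := Finset.mem_range.1 ht
      split_ifs with h1 h2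
      · simp only [z]
        rw [if_neg (by omega)]
      · rfl
      · rfl
    · intro hh
      exact absurd (Finset.mem_range.2 (by omega)) hh
  ext ⟨i, l⟩ ⟨j, n⟩
  rw [comm_apply hy, comm_apply hcomm]
  split_ifs
  · exact hcol i _ j
  · rfl

variable {v : Matrix (Σ i, Fin (m i)) (Σ i, Fin (m i)) k}

theorem inv_top (hv : (1 + shiftM k m) * v = 1) (i : ι) (hi : 0 < m i) :
    v ⟨i, ⟨0, hi⟩⟩ ⟨i, ⟨0, hi⟩⟩ = 1 := by
  have h := congrFun (congrFun hv (⟨i, ⟨0, hi⟩⟩ : J)) (⟨i, ⟨0, hi⟩⟩ : J)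
  rw [add_mul, one_mul, Matrix.add_apply, one_apply_eq] at h
  have e := shiftM_pow_mul 1 v i ⟨0, hi⟩ ⟨i, ⟨0, hi⟩⟩
  rw [pow_one, if_neg (by simp)] at e
  rwa [e, add_zero] at h

/-- If the commutators which commute are sums of conjugates, the chains shorter than `p` have one
length, `1` or `p - 1`. -/
theorem chain_types (hpos : ∀ i, 0 < m i) (hA : shiftM k m ^ p = 0)
    (hv : (1 + shiftM k m) * v = 1)
    (hperm : ∀ x₀ : Matrix J J k,
      Commute (shiftM k m * x₀ - x₀ * shiftM k m) (shiftM k m) →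
        ∃ z, (shiftM k m * x₀ - x₀ * shiftM k m) * v =
          symSum p (shiftM k m) z * (1 + shiftM k m)) :
    ∃ m₀, (m₀ = 1 ∨ m₀ + 1 = p) ∧ ∀ i, m i ≠ p → m i = m₀ := by
  classical
  have hle := le_of_shift_pow hA
  have hp2 := hp.out.two_le
  set A := shiftM k m with hAdef
  have hA1 : ∀ r c : J, A r c = if r.1 = c.1 ∧ (r.2 : ℕ) = (c.2 : ℕ) + 1 then 1 else 0 :=
    fun _ _ => rfl
  have hmid : ∀ i, m i = 1 ∨ m i + 1 = p ∨ m i = p := by
    intro i
    by_contra hc
    push Not at hc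
    have := hpos i; have := hle i
    let P : Matrix J J k := diagonal fun c => if c.1 = i then 1 else 0
    let x₀ : Matrix J J k := diagonal fun c => if c.1 = i then -((c.2 : ℕ) : k) else 0
    have hPA : P * A = A * P := by
      ext r c
      rw [diagonal_mul, mul_diagonal, hA1]
      split_ifs <;> simp_all
    have hy : A * x₀ - x₀ * A = P * A := by
      ext r c
      rw [Matrix.sub_apply, mul_diagonal, diagonal_mul, diagonal_mul, hA1]
      by_cases hrc : r.1 = c.1 ∧ (r.2 : ℕ) = (c.2 : ℕ) + 1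
      · rw [if_pos hrc]
        obtain ⟨h1, h2⟩ := hrc
        by_cases hci : c.1 = i
        · rw [if_pos hci, if_pos (h1.trans hci), if_pos (h1.trans hci), h2]
          push_cast
          ring
        · rw [if_neg hci, if_neg (h1 ▸ hci), if_neg (h1 ▸ hci)]
          ring
      · simp [hrc]
    have hcomm : Commute (A * x₀ - x₀ * A) A := by
      rw [hy]
      show P * A * A = A * (P * A)
      rw [← mul_assoc A P A, ← hPA]
    obtain ⟨z, hz⟩ := hperm x₀ hcomm
    have h1 := congrFun (congrFun hz ⟨i, ⟨1, by omega⟩⟩) ⟨i, ⟨0, hpos i⟩⟩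
    rw [symSum_shift_vanish hpos hA z i ⟨1, by omega⟩ i (by dsimp; omega), hy, mul_assoc,
      diagonal_mul, if_pos rfl, one_mul] at h1
    have e := shiftM_pow_mul 1 v i ⟨1, by omega⟩ ⟨i, ⟨0, hpos i⟩⟩
    rw [pow_one, if_pos le_rfl] at e
    rw [e] at h1
    exact one_ne_zero ((inv_top hv i (hpos i)).symm.trans h1)
  have hboth : ∀ i j, m i = 1 → m j + 1 = p → m j = 1 := by
    intro i j hi hj
    by_contra hc
    have := hpos j
    let c₀ : J := ⟨i, ⟨0, hpos i⟩⟩
    let r₀ : J := ⟨j, ⟨m j - 1, by omega⟩⟩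
    let r₁ : J := ⟨j, ⟨m j - 2, by omega⟩⟩
    let x₀ : Matrix J J k := fun r c => if r = r₁ ∧ c = c₀ then 1 else 0
    let E : Matrix J J k := fun r c => if r = r₀ ∧ c = c₀ then 1 else 0
    have hxA : x₀ * A = 0 := by
      ext r c
      rw [Matrix.mul_apply, Matrix.zero_apply]
      refine Finset.sum_eq_zero fun b _ => ?_
      simp only [x₀, hA1]
      split_ifs with h1 h2 <;> simp
      obtain ⟨-, rfl⟩ := h1
      exact absurd h2.2 (by simp [c₀])
    have hAx : A * x₀ = E := by
      ext r c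
      rw [Matrix.mul_apply, Finset.sum_eq_single r₁]
      · simp only [x₀, E, hA1]
        by_cases hc : c = c₀
        · subst hc
          simp only [true_and, and_true, if_true, mul_one]
          refine if_congr ⟨fun h => sigma_ext h.1 (by have := h.2; dsimp [r₀, r₁] at *; omega),
            fun h => by subst h; exact ⟨rfl, by dsimp [r₀, r₁]; omega⟩⟩ rfl rfl
        · simp [hc]
      · intro b _ hb
        simp [x₀, hb]
      · simp
    have hEA : E * A = 0 := by
      ext r c
      rw [Matrix.mul_apply, Matrix.zero_apply]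
      refine Finset.sum_eq_zero fun b _ => ?_
      simp only [E, hA1]
      split_ifs with h1 h2 <;> simp
      obtain ⟨-, rfl⟩ := h1
      exact absurd h2.2 (by simp [c₀])
    have hAE : A * E = 0 := by
      ext r c
      rw [Matrix.mul_apply, Matrix.zero_apply]
      refine Finset.sum_eq_zero fun b _ => ?_
      simp only [E, hA1]
      split_ifs with h1 h2 <;> simp
      obtain ⟨h2a, -⟩ := h2
      subst h2a
      obtain ⟨h1a, h1b⟩ := h1
      have e : m r.1 = m j := congrArg m h1a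
      have := r.2.2
      dsimp [r₀] at h1b
      omega
    have hy : A * x₀ - x₀ * A = E := by rw [hAx, hxA, sub_zero]
    obtain ⟨z, hz⟩ := hperm x₀ (by rw [hy]; show E * A = A * E; rw [hEA, hAE])
    have h1 := congrFun (congrFun hz r₀) c₀
    rw [symSum_shift_vanish hpos hA z j ⟨m j - 1, by omega⟩ i (by dsimp; omega), hy,
      Matrix.mul_apply, Finset.sum_eq_single c₀] at h1
    · simp only [E, and_self, if_true, one_mul] at h1
      exact one_ne_zero ((inv_top hv i (hpos i)).symm.trans h1)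
    · intro b _ hb; simp [E, hb]
    · simp
  by_cases h : ∃ i, m i = 1
  · obtain ⟨i, hi⟩ := h
    refine ⟨1, Or.inl rfl, fun j hj => ?_⟩
    rcases hmid j with h | h | h
    · exact h
    · exact hboth i j hi h
    · exact absurd h hj
  · refine ⟨p - 1, Or.inr (by omega), fun j hj => ?_⟩
    rcases hmid j with h' | h' | h'
    · exact absurd ⟨j, h'⟩ h
    · omega
    · exact absurd h' hj

/-- The short top block is multiplicative on the commutant. -/
theorem short_mul (hpos : ∀ i, 0 < m i) {m₀ : ℕ} (hs : ∀ i, m i ≠ p → m i = m₀) (hlt : m₀ < p)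
    {y y' : Matrix J J k} (hy : Commute y (shiftM k m)) (hy' : Commute y' (shiftM k m)) :
    shortM p m (topM hpos (y * y')) = shortM p m (topM hpos y) * shortM p m (topM hpos y') := by
  ext s t
  have hm : ∀ s t : Short m p, m s.1 = m t.1 := fun s t => by rw [hs _ s.2, hs _ t.2]
  simp only [shortM, topM, Matrix.mul_apply, if_pos (hm _ _)]
  rw [Fintype.sum_sigma, ← Finset.sum_subtype (Finset.univ.filter fun c => m c ≠ p)
    (fun c => by simp)
    (fun c => y ⟨s.1, ⟨0, hpos _⟩⟩ ⟨c, ⟨0, hpos c⟩⟩ * y' ⟨c, ⟨0, hpos c⟩⟩ ⟨t.1, ⟨0, hpos _⟩⟩)]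
  refine Eq.trans (Finset.sum_congr rfl fun c _ => ?_)
    (Finset.sum_subset (Finset.subset_univ _) fun c _ hc => ?_).symm
  · rw [Finset.sum_eq_single (⟨0, hpos c⟩ : Fin (m c))]
    · intro n _ hn
      rw [comm_apply hy s.1 ⟨0, hpos _⟩ c n, if_neg, zero_mul]
      intro h
      exact hn (Fin.ext (Nat.le_zero.1 h))
    · simp
  · simp only [Finset.mem_filter, Finset.mem_univ, true_and, ne_eq, not_not] at hc
    rw [comm_vanish hy' c ⟨0, hpos c⟩ t.1 (hpos _)
      (by have := hs _ t.2; dsimp; omega), mul_zero]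

theorem short_symSum (hpos : ∀ i, 0 < m i) (hA : shiftM k m ^ p = 0) {m₀ : ℕ}
    (hs : ∀ i, m i ≠ p → m i = m₀) (hlt : m₀ < p) (z : Matrix J J k) :
    shortM p m (topM hpos (symSum p (shiftM k m) z * (1 + shiftM k m))) = 0 := by
  ext s t
  simp only [shortM, topM, Matrix.zero_apply]
  split_ifs
  · exact symSum_shift_vanish hpos hA z _ _ _ (by rw [hs _ t.2]; simpa using hlt)
  · rfl

theorem short_lift (hpos : ∀ i, 0 < m i) {m₀ : ℕ} (hs : ∀ i, m i ≠ p → m i = m₀)
    (T : Matrix (Short m p) (Short m p) k) :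
    ∃ y : Matrix J J k, Commute y (shiftM k m) ∧ shortM p m (topM hpos y) = T := by
  classical
  let Φ : Matrix ι ι k := fun i j => if h : m i ≠ p ∧ m j ≠ p then T ⟨i, h.1⟩ ⟨j, h.2⟩ else 0
  refine ⟨liftM m Φ, ?_, ?_⟩
  · show liftM m Φ * shiftM k m = shiftM k m * liftM m Φ
    ext ⟨i, l⟩ ⟨j, n⟩
    have e1 := mul_shiftM_pow 1 (liftM m Φ) ⟨i, l⟩ j n
    have e2 := shiftM_pow_mul 1 (liftM m Φ) i l ⟨j, n⟩
    rw [pow_one] at e1 e2
    rw [e1, e2]
    simp only [liftM, Φ]
    have := l.2; have := n.2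
    split_ifs <;> first
      | rfl
      | omega
      | (have := hs i (by tauto); have := hs j (by tauto); omega)
  · ext s t
    simp only [shortM, topM, liftM, Φ, dif_pos (And.intro s.2 t.2), hs _ s.2, hs _ t.2, if_true]

end Cfsg.Agent.S4643Lib
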