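/-
The interface between the Fong–Reynolds reduction and the invariant case.
-/
import Cfsg.Agent.Lib.Blocks.Covering
import Cfsg.Agent.Lib.Blocks.FongSolvable
import Cfsg.Prelude.Def_BlockLocal

set_option linter.unusedSectionVars false
set_option linter.style.haveILetI false

namespace Cfsg.Agent.FongDescent

open Cfsg Cfsg.Agent.Char Cfsg.Agent.Blocks

universe u

variable {G : Type u} [Group G]

/-- A function on `K` read on `K ∩ N` as a subgroup of `N`. -/
def resC (N K : Subgroup G) (θ : K → ℂ) : K.subgroupOf N → ℂ :=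
  fun k => θ ⟨((k : N) : G), k.2⟩

/-- `φ` is a constituent of `θ` on `K ∩ N` of multiplicity prime to `p`. -/
def Corr [Fintype G] (p : ℕ) (N K : Subgroup G) [Fintype (K.subgroupOf N)] (θ : IrrCharacter K)
    (φ : IrrCharacter (K.subgroupOf N)) : Prop :=
  ∀ m : ℕ, classInner (resC N K (θ : K → ℂ)) (φ : K.subgroupOf N → ℂ) = (m : ℂ) → ¬ p ∣ m

/-- The characters lying over `θ`. -/
def overSet [Fintype G] (K : Subgroup G) [Fintype K] (θ : IrrCharacter K) :
    Set (IrrCharacter G) :=
  {χ | classInner (fun k : K => (χ : G → ℂ) k) (θ : K → ℂ) ≠ 0}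

/-- A perfect isometry between the characters over an invariant character of `O_{p'}` and those
over its correspondent in the normaliser of an abelian Sylow subgroup. -/
def InvariantCase (p : ℕ) (M : Ideal AlgInt) : Prop :=
  ∀ (G : Type u) [Group G] [Fintype G] (K : Subgroup G) [K.Normal] [Fintype K] (P : Sylow p G)
    [Fintype (Subgroup.normalizer ((P : Subgroup G) : Set G))]
    [Fintype (K.subgroupOf (Subgroup.normalizer ((P : Subgroup G) : Set G)))]
    (θ : IrrCharacter K),
    K = pPrimeCore p G → IsPSolvable p G →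
    (∀ x ∈ (P : Subgroup G), ∀ y ∈ (P : Subgroup G), x * y = y * x) →
    (K ⊔ (P : Subgroup G)).Normal → (∀ g : G, cjIrr K g θ = θ) →
    ∀ φ : IrrCharacter (K.subgroupOf (Subgroup.normalizer ((P : Subgroup G) : Set G))),
      Corr p (Subgroup.normalizer ((P : Subgroup G) : Set G)) K θ φ →
      ∃ (I : IrrCharacter (Subgroup.normalizer ((P : Subgroup G) : Set G)) → IrrCharacter G)
        (ε : IrrCharacter (Subgroup.normalizer ((P : Subgroup G) : Set G)) → ℤ),
        IsPerfectIsometry p M
          (overSet (K.subgroupOf (Subgroup.normalizer ((P : Subgroup G) : Set G))) φ)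
          (overSet K θ) I ε

end Cfsg.Agent.FongDescent
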