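/-
A block induced from a block over the correspondent covers the invariant character.
-/
import Cfsg.Agent.Lib.S4643.Iface
import Cfsg.Agent.Lib.Blocks.Induced

set_option linter.unusedSectionVars false
set_option linter.style.haveILetI false

namespace Cfsg.Agent.FongDescent

open Cfsg MonoidAlgebra Cfsg.Agent.Char Cfsg.Agent.Blocks
open scoped ComplexConjugate

universe u

variable {G : Type u} [Group G] [Fintype G] {p : ℕ} {M : Ideal AlgInt} [M.IsPrime]
  (K : Subgroup G) [K.Normal] [Fintype K] (N : Subgroup G) [Fintype N] [Fintype (K.subgroupOf N)]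

theorem mem_overSet_of_induced (hM : IsPModular p M) (hK : ¬ p ∣ Nat.card K) {θ : IrrCharacter K}
    (hθ : ∀ g : G, cjIrr K g θ = θ) {φ : IrrCharacter (K.subgroupOf N)}
    (hφ : ∀ n : N, cjIrr (K.subgroupOf N) n φ = φ) (hc : Corr p N K θ φ)
    {c : Set (IrrCharacter N)} {B : Set (IrrCharacter G)} (h : IsInducedBlock M N c B)
    {ξ : IrrCharacter N} (hξ : ξ ∈ c) (hξo : ξ ∈ overSet (K.subgroupOf N) φ) :
    ∀ χ ∈ B, χ ∈ overSet K θ := by
  classical
  intro χ hχ
  by_contra hne
  change ¬ classInner (fun k : K => (χ : G → ℂ) k) (θ : K → ℂ) ≠ 0 at hne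
  push Not at hne
  let z : MonoidAlgebra (locRing M) G := gaOfFun fun g =>
    if hg : g ∈ K then ⟨conj ((θ : K → ℂ) ⟨g, hg⟩), conj_irr_memLocalRing θ _⟩ else 0
  have hz : IsClassElt z := fun g k => by
    have hmem : k * g * k⁻¹ ∈ K ↔ g ∈ K :=
      ⟨fun h' => by simpa [mul_assoc] using (inferInstance : K.Normal).conj_mem _ h' k⁻¹,
        fun h' => (inferInstance : K.Normal).conj_mem _ h' k⟩
    simp only [z, coeff_gaOfFun]
    by_cases hg : g ∈ K
    · rw [dif_pos hg, dif_pos (hmem.2 hg)]
      refine Subtype.ext (congrArg conj ?_)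
      exact congrFun (congrArg Subtype.val (hθ k)) ⟨g, hg⟩
    · rw [dif_neg hg, dif_neg fun h' => hg (hmem.1 h')]
  have eχ : omegaR χ z = 0 := by
    rw [omega_eq_sum_div]
    have e : ∑ g : G, (z.coeff g : ℂ) * (χ : G → ℂ) g =
        ∑ k : K, (χ : G → ℂ) k * conj ((θ : K → ℂ) k) := by
      rw [← Finset.sum_subset (Finset.subset_univ (Finset.univ.filter (· ∈ K)))
        (fun g _ hg => by
          simp only [Finset.mem_filter, Finset.mem_univ, true_and] at hg
          simp [z, coeff_gaOfFun, hg]),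
        Finset.sum_subtype (p := (· ∈ K)) _ (fun g => by simp)]
      exact Finset.sum_congr rfl fun k _ => by simp [z, coeff_gaOfFun, mul_comm]
    unfold classInner at hne
    rw [mul_eq_zero, inv_eq_zero] at hne
    rw [e, hne.resolve_left (Nat.cast_ne_zero.2 Nat.card_pos.ne'), zero_div]
  have eξ : omegaR ξ (restrictElt N z) = (Nat.card (K.subgroupOf N) : ℂ) *
      classInner (fun k : K.subgroupOf N => (ξ : N → ℂ) k) (resC N K (θ : K → ℂ)) /
        (ξ : N → ℂ) 1 := by
    rw [omega_eq_sum_div]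
    congr 1
    unfold classInner
    rw [mul_inv_cancel_left₀ (Nat.cast_ne_zero.2 Nat.card_pos.ne'),
      ← Finset.sum_subset (Finset.subset_univ (Finset.univ.filter (· ∈ K.subgroupOf N)))
        (fun g _ hg => by
          simp only [Finset.mem_filter, Finset.mem_univ, true_and, Subgroup.mem_subgroupOf] at hg
          simp [z, coeff_restrictElt, coeff_gaOfFun, hg]),
      Finset.sum_subtype (p := (· ∈ K.subgroupOf N)) _ (fun g => by simp)]
    refine Finset.sum_congr rfl fun k _ => ?_
    have hk : ((k : N) : G) ∈ K := k.2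
    simp [z, coeff_restrictElt, coeff_gaOfFun, hk, resC, mul_comm]
  set e := classInner (fun k : K.subgroupOf N => (ξ : N → ℂ) k)
    (φ : K.subgroupOf N → ℂ) with he
  have hres : (fun k : K.subgroupOf N => (ξ : N → ℂ) k) =
      e • (φ : K.subgroupOf N → ℂ) := by
    have horb : conjOrbit (K.subgroupOf N) (φ : K.subgroupOf N → ℂ) =
        {(φ : K.subgroupOf N → ℂ)} := by
      ext f
      rw [Finset.mem_singleton, mem_conjOrbit]
      exact ⟨fun ⟨g, hg⟩ => hg.trans (congrArg Subtype.val (hφ g)),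
        fun hf => ⟨1, hf.trans (congrArg Subtype.val (hφ 1)).symm⟩⟩
    rw [clifford (K.subgroupOf N) ξ.2 φ.2 hξo, horb, Finset.sum_singleton]
  have h1 := congrFun hres 1
  simp only [Pi.smul_apply, smul_eq_mul, OneMemClass.coe_one] at h1
  obtain ⟨m, hm⟩ := IsCharacter.exists_classInner_nat
    (IsCharacter.comp (irr_isCharacter θ)
      ((Subgroup.subtype N).comp (K.subgroupOf N).subtype |>.codRestrict K fun k => k.2))
    (irr_isCharacter φ)
  have hm' : classInner (resC N K (θ : K → ℂ)) (φ : K.subgroupOf N → ℂ) = (m : ℂ) := hm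
  have h3 := isInducedBlock_omegaR h hξ hχ hz
  rw [eχ, sub_zero, eξ, hres, classInner_smul_left, ← classInner_conj_symm, hm', map_natCast,
    h1] at h3
  have he0 : e ≠ 0 := hξo
  have h4 := MemLocalIdeal.mul_right h3 (y := (φ : K.subgroupOf N → ℂ) 1)
    (mem_locRing_of_isIntegral (irr_isIntegral φ 1))
  have h5 : MemLocalIdeal M ((Nat.card (K.subgroupOf N) * m : ℕ) : ℂ) := by
    have hφ1 := irr_one_ne_zero φ
    convert h4 using 1
    push_cast
    field_simp
  rw [natCast_memLocalIdeal_iff hM, hM.1.dvd_mul] at h5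
  refine h5.elim (fun h6 => hK (h6.trans ?_)) (hc m hm')
  let f : K.subgroupOf N →* K :=
    (Subgroup.subtype N).comp (K.subgroupOf N).subtype |>.codRestrict K fun k => k.2
  exact Subgroup.card_dvd_of_injective f fun a b hab =>
    Subtype.ext (Subtype.ext (congrArg (Subtype.val : K → G) hab :))

end Cfsg.Agent.FongDescent
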