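/-
The multiplicative group of a fraction field of a factorial ring, modulo units, is a permutation
lattice: one-cocycles are coboundaries.
-/
import Mathlib.RingTheory.UniqueFactorizationDomain.NormalizedFactors
import Mathlib.RingTheory.UniqueFactorizationDomain.FactorSet
import Mathlib.RingTheory.Localization.FractionRing
import Mathlib.Algebra.BigOperators.Field
import Mathlib.Algebra.Order.Ring.Int

set_option autoImplicit false
set_option linter.unusedSectionVars false
set_option linter.style.haveILetI false

namespace Cfsg.Agent.S4643Lib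

open UniqueFactorizationMonoid

variable {R : Type} [CommRing R] [IsDomain R] [UniqueFactorizationMonoid R]
  {F : Type} [Field F] [Algebra R F] [IsFractionRing R F]

/-- The prime divisors of an element, up to units. -/
noncomputable def divisors' (r : R) : Multiset (Associates R) := normalizedFactors (Associates.mk r)

/-- The action of an automorphism on the elements up to units. -/
noncomputable def assocMap (e : R ≃+* R) : Associates R ≃* Associates R where
  toFun := Quotient.map e fun _ _ h => Associated.map (e : R →* R) h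
  invFun := Quotient.map e.symm fun _ _ h => Associated.map (e.symm : R →* R) h
  left_inv := by
    refine Associates.forall_associated.2 fun a => ?_
    exact congrArg Associates.mk (e.symm_apply_apply a)
  right_inv := by
    refine Associates.forall_associated.2 fun a => ?_
    exact congrArg Associates.mk (e.apply_symm_apply a)
  map_mul' := by
    refine Associates.forall_associated.2 fun a => ?_
    refine Associates.forall_associated.2 fun b => ?_
    exact congrArg Associates.mk (map_mul e a b)

theorem assocMap_mk (e : R ≃+* R) (a : R) :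
    assocMap e (Associates.mk a) = Associates.mk (e a) := rfl

theorem divisors'_mul {a b : R} (ha : a ≠ 0) (hb : b ≠ 0) :
    divisors' (a * b) = divisors' a + divisors' b := by
  rw [divisors', ← Associates.mk_mul_mk]
  exact normalizedFactors_mul (Associates.mk_ne_zero.2 ha) (Associates.mk_ne_zero.2 hb)

theorem associated_of_divisors' {a b : R} (ha : a ≠ 0) (hb : b ≠ 0)
    (h : divisors' a = divisors' b) : Associated a b := by
  rw [← Associates.mk_eq_mk_iff_associated,
    ← associated_iff_eq.1 (prod_normalizedFactors (Associates.mk_ne_zero.2 ha)),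
    ← associated_iff_eq.1 (prod_normalizedFactors (Associates.mk_ne_zero.2 hb))]
  exact congrArg Multiset.prod h

theorem divisors'_map (e : R ≃+* R) {a : R} (ha : a ≠ 0) :
    divisors' (e a) = (divisors' a).map (assocMap e) := by
  have h := associated_iff_eq.1 (prod_normalizedFactors (Associates.mk_ne_zero.2 ha))
  rw [divisors', ← assocMap_mk, ← h, map_multiset_prod]
  refine normalizedFactors_prod_of_prime fun q hq => ?_
  obtain ⟨q', hq', rfl⟩ := Multiset.mem_map.1 hq
  exact (MulEquiv.prime_iff (assocMap e)).2 (prime_of_normalized_factor q' hq')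

variable (F) in
theorem algebraMap_ne_zero {a : R} (ha : a ≠ 0) : algebraMap R F a ≠ 0 :=
  (map_ne_zero_iff _ (IsFractionRing.injective R F)).2 ha

variable (R) in
theorem exists_frac (z : F) : ∃ n d : R, d ≠ 0 ∧ algebraMap R F n / algebraMap R F d = z := by
  obtain ⟨n, d, hd, h⟩ := IsFractionRing.div_surjective R z
  exact ⟨n, d, nonZeroDivisors.ne_zero hd, h⟩

/-- The order at a prime. -/
noncomputable def ordAt [DecidableEq (Associates R)] (q : Associates R) (z : F) : ℤ :=
  ((divisors' (exists_frac R z).choose).count q : ℤ) -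
    ((divisors' (exists_frac R z).choose_spec.choose).count q : ℤ)

variable [DecidableEq (Associates R)]

theorem ordAt_div (q : Associates R) {n d : R} (hn : n ≠ 0) (hd : d ≠ 0) :
    ordAt q (algebraMap R F n / algebraMap R F d) =
      ((divisors' n).count q : ℤ) - ((divisors' d).count q : ℤ) := by
  rw [ordAt]
  set h := exists_frac R (algebraMap R F n / algebraMap R F d)
  have hspec := h.choose_spec.choose_spec
  generalize h.choose_spec.choose = d' at hspec ⊢
  generalize h.choose = n' at hspec ⊢
  obtain ⟨hd', he⟩ := hspec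
  rw [div_eq_div_iff (algebraMap_ne_zero F hd') (algebraMap_ne_zero F hd), ← map_mul, ← map_mul]
    at he
  have h1 := IsFractionRing.injective R F he
  have hn' : n' ≠ 0 := fun h0 => mul_ne_zero hn hd' (by rw [← h1, h0, zero_mul])
  have h2 := congrArg (fun r => (divisors' r).count q) h1
  simp only [divisors'_mul hn' hd, divisors'_mul hn hd', Multiset.count_add] at h2
  omega

theorem exists_frac_ne {z : F} (hz : z ≠ 0) :
    ∃ n d : R, n ≠ 0 ∧ d ≠ 0 ∧ algebraMap R F n / algebraMap R F d = z := by
  obtain ⟨n, d, hd, h⟩ := exists_frac R z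
  refine ⟨n, d, fun h0 => hz ?_, hd, h⟩
  rw [← h, h0, map_zero, zero_div]

theorem ordAt_mul (q : Associates R) {x y : F} (hx : x ≠ 0) (hy : y ≠ 0) :
    ordAt q (x * y) = ordAt q x + ordAt q y := by
  obtain ⟨n, d, hn, hd, rfl⟩ := exists_frac_ne (R := R) hx
  obtain ⟨n', d', hn', hd', rfl⟩ := exists_frac_ne (R := R) hy
  rw [div_mul_div_comm, ← map_mul, ← map_mul, ordAt_div q (mul_ne_zero hn hn') (mul_ne_zero hd hd'),
    ordAt_div q hn hd, ordAt_div q hn' hd', divisors'_mul hn hn', divisors'_mul hd hd',
    Multiset.count_add, Multiset.count_add]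
  push_cast
  ring

theorem ordAt_algebraMap (q : Associates R) {n : R} (hn : n ≠ 0) :
    ordAt q (algebraMap R F n) = ((divisors' n).count q : ℤ) := by
  have h := ordAt_div (F := F) q hn one_ne_zero
  rw [map_one, div_one] at h
  rw [h, divisors', divisors', Associates.mk_one, normalizedFactors_one]
  simp

theorem ordAt_unit (q : Associates R) (c : Rˣ) : ordAt q (algebraMap R F c) = 0 := by
  rw [ordAt_algebraMap q c.ne_zero, divisors', Associates.mk_eq_mk_iff_associated.2
    (associated_one_iff_isUnit.2 c.isUnit), Associates.mk_one, normalizedFactors_one]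
  simp

theorem ordAt_one (q : Associates R) : ordAt q (1 : F) = 0 := by
  have h := ordAt_unit (F := F) q 1
  rwa [Units.val_one, map_one] at h

theorem ordAt_inv (q : Associates R) {x : F} (hx : x ≠ 0) : ordAt q x⁻¹ = - ordAt q x := by
  have h := ordAt_mul q hx (inv_ne_zero hx)
  rw [mul_inv_cancel₀ hx, ordAt_one] at h
  omega

theorem ordAt_pow (q : Associates R) {x : F} (hx : x ≠ 0) (n : ℕ) :
    ordAt q (x ^ n) = n * ordAt q x := by
  induction n with
  | zero => simp [ordAt_one]
  | succ n ih =>
    rw [pow_succ, ordAt_mul q (pow_ne_zero _ hx) hx, ih]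
    push_cast
    ring

theorem ordAt_zpow (q : Associates R) {x : F} (hx : x ≠ 0) (n : ℤ) :
    ordAt q (x ^ n) = n * ordAt q x := by
  rcases n with n | n
  · rw [Int.ofNat_eq_natCast, zpow_natCast, ordAt_pow q hx]
  · rw [zpow_negSucc, ordAt_inv q (pow_ne_zero _ hx), ordAt_pow q hx, Int.negSucc_eq]
    push_cast
    ring

theorem ordAt_prod (q : Associates R) {α : Type*} (s : Finset α) (f : α → F)
    (hf : ∀ a ∈ s, f a ≠ 0) : ordAt q (∏ a ∈ s, f a) = ∑ a ∈ s, ordAt q (f a) := by
  classical
  induction s using Finset.induction_on with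
  | empty => simp [ordAt_one]
  | insert a s ha ih =>
    rw [Finset.prod_insert ha, Finset.sum_insert ha, ordAt_mul q (hf a (Finset.mem_insert_self a s))
      (Finset.prod_ne_zero_iff.2 fun b hb => hf b (Finset.mem_insert_of_mem hb)),
      ih fun b hb => hf b (Finset.mem_insert_of_mem hb)]

theorem exists_unit_of_ordAt {z : F} (hz : z ≠ 0) (h : ∀ q : Associates R, ordAt q z = 0) :
    ∃ c : Rˣ, z = algebraMap R F c := by
  obtain ⟨n, d, hn, hd, rfl⟩ := exists_frac_ne (R := R) hz
  have he : divisors' n = divisors' d := Multiset.ext.2 fun q => by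
    have := h q
    rw [ordAt_div q hn hd] at this
    omega
  obtain ⟨c, hc⟩ := (associated_of_divisors' hn hd he).symm
  refine ⟨c, ?_⟩
  rw [← hc, map_mul, mul_div_cancel_left₀ _ (algebraMap_ne_zero F hd)]

variable {H : Type*} [Group H] [Fintype H] (act : H → R ≃+* R) (actF : H → F ≃+* F)

omit [DecidableEq (Associates R)] in
/-- A one-cocycle modulo units is a coboundary modulo units. -/
theorem exists_coboundary (hmul : ∀ g h r, act (g * h) r = act g (act h r))
    (hone : ∀ r, act 1 r = r)
    (hcomm : ∀ h r, actF h (algebraMap R F r) = algebraMap R F (act h r))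
    (f : H → F) (hf : ∀ h, f h ≠ 0)
    (hcoc : ∀ g h, ∃ c : Rˣ, f g * actF g (f h) = algebraMap R F c * f (g * h)) :
    ∃ D : F, D ≠ 0 ∧ ∀ h, ∃ c : Rˣ, f h * actF h D = algebraMap R F c * D := by
  classical
  set N : ℕ := Fintype.card H with hN
  have hN0 : (N : ℤ) ≠ 0 := by exact_mod_cast Fintype.card_ne_zero
  set S := ∏ h, f h with hS
  have hS0 : S ≠ 0 := Finset.prod_ne_zero_iff.2 fun h _ => hf h
  have hinvA : ∀ g (q : Associates R), assocMap (act g) (assocMap (act g⁻¹) q) = q := fun g => by
    refine Associates.forall_associated.2 fun r => ?_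
    rw [assocMap_mk, assocMap_mk, ← hmul, mul_inv_cancel, hone]
  have hact : ∀ g (q : Associates R) {z : F}, z ≠ 0 → ordAt q (actF g z) = ordAt (assocMap (act g⁻¹) q) z := by
    intro g q z hz
    obtain ⟨n, d, hn, hd, rfl⟩ := exists_frac_ne (R := R) hz
    have hn' : act g n ≠ 0 := (map_ne_zero_iff _ (act g).injective).2 hn
    have hd' : act g d ≠ 0 := (map_ne_zero_iff _ (act g).injective).2 hd
    rw [map_div₀, hcomm, hcomm, ordAt_div q hn' hd', ordAt_div _ hn hd,
      divisors'_map _ hn, divisors'_map _ hd]
    conv_lhs => rw [← hinvA g q]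
    rw [Multiset.count_map_eq_count' _ _ (assocMap (act g)).injective,
      Multiset.count_map_eq_count' _ _ (assocMap (act g)).injective]
  have hrel : ∀ g (q : Associates R), (N : ℤ) * ordAt q (f g) + ordAt (assocMap (act g⁻¹) q) S = ordAt q S := by
    intro g q
    choose c hc using hcoc g
    have h1 : f g ^ N * actF g S = algebraMap R F ↑(∏ h, c h) * S := by
      rw [hS, map_prod, hN, ← Finset.card_univ, ← Finset.prod_const, ← Finset.prod_mul_distrib]
      simp only [hc, Finset.prod_mul_distrib]
      rw [Units.coe_prod, map_prod]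
      congr 1
      exact Fintype.prod_equiv (Equiv.mulLeft g) _ _ fun h => rfl
    have h2 := congrArg (ordAt q) h1
    rw [ordAt_mul q (pow_ne_zero _ (hf g)) ((map_ne_zero_iff _ (actF g).injective).2 hS0),
      ordAt_mul q (algebraMap_ne_zero F (Units.ne_zero _)) hS0, ordAt_unit, ordAt_pow q (hf g),
      hact g q hS0, zero_add] at h2
    exact h2
  obtain ⟨nS, dS, hnS, hdS, hSeq⟩ := exists_frac_ne (R := R) hS0
  set sup := (divisors' nS + divisors' dS).toFinset with hsup
  let rep : Associates R → R := fun q => (Associates.mk_surjective q).choose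
  have hrep : ∀ q, Associates.mk (rep q) = q := fun q => (Associates.mk_surjective q).choose_spec
  have hout0 : ∀ q ∈ sup, rep q ≠ 0 := by
    intro q hq h0
    have hp : Prime q := by
      rcases Multiset.mem_add.1 (Multiset.mem_toFinset.1 hq) with h | h <;>
        exact prime_of_normalized_factor q h
    exact hp.ne_zero (by rw [← hrep q, h0, Associates.mk_zero])
  have hordout : ∀ q' ∈ sup, ∀ q : Associates R, ordAt q (algebraMap R F (rep q')) = if q = q' then 1 else 0 := by
    intro q' hq' q
    have hp : Prime q' := by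
      rcases Multiset.mem_add.1 (Multiset.mem_toFinset.1 hq') with h | h <;>
        exact prime_of_normalized_factor q' h
    rw [ordAt_algebraMap q (hout0 q' hq'), divisors', hrep,
      normalizedFactors_irreducible hp.irreducible, normalize_eq, Multiset.count_singleton]
    split_ifs <;> rfl
  let D : F := ∏ q ∈ sup, algebraMap R F (rep q) ^ (ordAt q S / N)
  have hne : ∀ q ∈ sup, algebraMap R F (rep q) ^ (ordAt q S / (N : ℤ)) ≠ 0 := fun q hq =>
    zpow_ne_zero _ (algebraMap_ne_zero F (hout0 q hq))
  have hD0 : D ≠ 0 := Finset.prod_ne_zero_iff.2 hne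
  have hordD : ∀ q : Associates R, ordAt q D = ordAt q S / N := by
    intro q
    rw [ordAt_prod q sup _ hne]
    rw [Finset.sum_congr rfl fun q' hq' => by
      rw [ordAt_zpow q (algebraMap_ne_zero F (hout0 q' hq')), hordout q' hq']]
    simp only [mul_ite, mul_one, mul_zero, Finset.sum_ite_eq]
    split_ifs with h
    · rfl
    · have h0 : ordAt q S = 0 := by
        rw [← hSeq, ordAt_div q hnS hdS]
        have hn := fun hh => h (Multiset.mem_toFinset.2 (Multiset.mem_add.2 (Or.inl hh)))
        have hd := fun hh => h (Multiset.mem_toFinset.2 (Multiset.mem_add.2 (Or.inr hh)))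
        simp [Multiset.count_eq_zero.2 hn, Multiset.count_eq_zero.2 hd]
      simp [h0]
  refine ⟨D, hD0, fun g => ?_⟩
  have hA : actF g D ≠ 0 := (map_ne_zero_iff _ (actF g).injective).2 hD0
  obtain ⟨c, hc⟩ := exists_unit_of_ordAt (R := R) (z := f g * actF g D / D)
    (div_ne_zero (mul_ne_zero (hf g) hA) hD0) fun q => by
      rw [div_eq_mul_inv, ordAt_mul q (mul_ne_zero (hf g) hA) (inv_ne_zero hD0),
        ordAt_mul q (hf g) hA, ordAt_inv q hD0, hact g q hD0, hordD, hordD]
      have h := hrel g q
      rw [show ordAt (assocMap (act g⁻¹) q) S = ordAt q S + -ordAt q (f g) * N by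
        rw [← h]; ring, Int.add_mul_ediv_right _ _ hN0]
      ring
  exact ⟨c, by rw [← hc, div_mul_cancel₀ _ hD0]⟩

end Cfsg.Agent.S4643Lib
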