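/-
Linear extensions of maps on a group, truncations, and orbit sums.
-/
import Cfsg.Agent.Lib.BrauerPairs.Alg

set_option linter.unusedSectionVars false
set_option linter.style.haveILetI false

namespace Cfsg.Agent.S4643Lib

open MonoidAlgebra Cfsg.Agent.Blocks Cfsg.Agent.BrauerPairs

variable {X : Type*} [Group X] [Fintype X] {k : Type*} [Field k]

/-- Supported on `K`. -/
def Supp (K : Subgroup X) (y : MonoidAlgebra k X) : Prop := ∀ g, g ∉ K → y.coeff g = 0

/-- Truncation of the coefficients to a set. -/
noncomputable def trS (S : Set X) (y : MonoidAlgebra k X) : MonoidAlgebra k X :=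
  gaOfFun (S.indicator y.coeff)

theorem coeff_trS (S : Set X) (y : MonoidAlgebra k X) (g : X) :
    (trS S y).coeff g = S.indicator y.coeff g := rfl

theorem trS_trS (S T : Set X) (y : MonoidAlgebra k X) : trS S (trS T y) = trS (S ∩ T) y := by
  classical
  refine gaExt fun g => ?_
  simp only [coeff_trS, Set.indicator_apply, Set.mem_inter_iff]
  split_ifs <;> simp_all

theorem trS_eq_brTrunc (x : X) (y : MonoidAlgebra k X) :
    trS (Subgroup.centralizer ({x} : Set X) : Set X) y = brTrunc (Subgroup.zpowers x) y := by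
  rw [trS, brTrunc, ← Subgroup.centralizer_closure, ← Subgroup.zpowers_eq_closure]

theorem coeff_cj' (x g : X) (y : MonoidAlgebra k X) :
    (cj x y).coeff g = y.coeff (x⁻¹ * g * x) := by
  simp [cj]

variable {A : Type*} [AddCommGroup A] [Module k A]

/-- The linear extension of a map on the group. -/
noncomputable def linf (f : X → A) : MonoidAlgebra k X →ₗ[k] A where
  toFun y := ∑ g, y.coeff g • f g
  map_add' x y := by simp [add_smul, Finset.sum_add_distrib]
  map_smul' c x := by simp [mul_smul, Finset.smul_sum]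

theorem linf_apply (f : X → A) (y : MonoidAlgebra k X) : linf f y = ∑ g, y.coeff g • f g := rfl

theorem linf_single (f : X → A) (g : X) (c : k) : linf f (single g c) = c • f g := by
  classical
  rw [linf_apply, Finset.sum_eq_single g]
  · simp
  · intro b _ hb; simp [hb.symm]
  · simp

theorem linf_map {B : Type*} [AddCommGroup B] [Module k B] (T : A →ₗ[k] B) (f : X → A)
    (y : MonoidAlgebra k X) : linf (fun g => T (f g)) y = T (linf f y) := by
  simp [linf_apply]

theorem linf_congr {K : Subgroup X} {f f' : X → A} (h : ∀ g ∈ K, f g = f' g)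
    {y : MonoidAlgebra k X} (hy : Supp K y) : linf f y = linf f' y := by
  refine Finset.sum_congr rfl fun g _ => ?_
  by_cases hg : g ∈ K
  · rw [h g hg]
  · rw [hy g hg, zero_smul, zero_smul]

section Ring

variable {R : Type*} [Ring R] [Algebra k R]

theorem linf_mul {K : Subgroup X} {f : X → R} (hf : ∀ a ∈ K, ∀ b ∈ K, f (a * b) = f a * f b)
    {x y : MonoidAlgebra k X} (hx : Supp K x) (hy : Supp K y) :
    linf f (x * y) = linf f x * linf f y := by
  simp only [linf_apply, coeff_mul_univ, Finset.sum_smul]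
  rw [Finset.sum_comm, Finset.sum_mul]
  refine Finset.sum_congr rfl fun a _ => ?_
  rw [Finset.mul_sum]
  refine Fintype.sum_equiv (Equiv.mulLeft a⁻¹) _ _ fun g => ?_
  simp only [Equiv.coe_mulLeft]
  by_cases ha : a ∈ K
  · by_cases hb : a⁻¹ * g ∈ K
    · conv_lhs => rw [show g = a * (a⁻¹ * g) by group, hf a ha _ hb]
      rw [smul_mul_smul_comm]
      simp
    · simp [hy _ hb]
  · simp [hx a ha]

theorem linf_one {f : X → R} (hf : f 1 = 1) : linf (k := k) f 1 = 1 := by
  rw [MonoidAlgebra.one_def, linf_single, hf, one_smul]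

theorem supp_cj {K : Subgroup X} {x : X} (hK : ∀ g, g ∈ K ↔ x * g * x⁻¹ ∈ K)
    {y : MonoidAlgebra k X} (hy : Supp K y) : Supp K (cj x y) := fun g hg => by
  rw [coeff_cj']
  refine hy _ fun h => hg ?_
  have := (hK _).1 h
  simpa [mul_assoc] using this

theorem linf_cj {K : Subgroup X} {f : X → R} {x : X} {u v : R} (huv : u * v = 1)
    (h : ∀ g ∈ K, u * f g = f (x * g * x⁻¹) * u)
    {y : MonoidAlgebra k X} (hy : Supp K y) : linf f (cj x y) = u * linf f y * v := by
  simp only [linf_apply, Finset.mul_sum, Finset.sum_mul]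
  refine Fintype.sum_equiv (MulAut.conj x⁻¹).toEquiv _ _ fun g => ?_
  simp only [MulEquiv.toEquiv_eq_coe, MulEquiv.coe_toEquiv, MulAut.conj_apply, inv_inv, coeff_cj']
  by_cases hg : x⁻¹ * g * x ∈ K
  · rw [mul_smul_comm, smul_mul_assoc, h _ hg, mul_assoc (f _) u v, huv, mul_one]
    congr 2
    group
  · simp [hy _ hg]

end Ring

/-- A coefficient-invariant element vanishing on the centraliser is an orbit sum. -/
theorem exists_orbit_sum {p : ℕ} [hp : Fact p.Prime] {K : Subgroup X} {x : X}
    (hxp : ∀ g ∈ K, x ^ p * g = g * x ^ p) {z : MonoidAlgebra k X} (hz : Supp K z)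
    (hinv : cj x z = z) (h0 : ∀ g, x * g = g * x → z.coeff g = 0) :
    ∃ s, Supp K s ∧ ∑ l ∈ Finset.range p, cj (x ^ l) s = z := by
  classical
  let e₀ := Fintype.equivFin X
  let orb : ℕ → X → X := fun l g => (x ^ l)⁻¹ * g * x ^ l
  have horb : ∀ a b g, orb a (orb b g) = orb (b + a) g := fun a b g => by
    simp only [orb, pow_add, mul_inv_rev, mul_assoc]
  have hcoeff : ∀ l g, z.coeff (orb l g) = z.coeff g := by
    intro l g
    induction l with
    | zero => simp [orb]
    | succ l ih =>
      rw [← horb 1 l, ← ih]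
      conv_rhs => rw [← hinv, coeff_cj']
      simp [orb]
  let s : MonoidAlgebra k X := gaOfFun fun g =>
    if ∀ l < p, e₀ g ≤ e₀ (orb l g) then z.coeff g else 0
  refine ⟨s, fun g hg => by simp only [s, coeff_gaOfFun]; rw [hz g hg, ite_self], gaExt fun g => ?_⟩
  simp only [MonoidAlgebra.coeff_sum, Finset.sum_apply', coeff_cj', s, coeff_gaOfFun]
  show ∑ l ∈ Finset.range p, (if ∀ l' < p, e₀ (orb l g) ≤ e₀ (orb l' (orb l g))
    then z.coeff (orb l g) else 0) = z.coeff g
  simp only [hcoeff]
  by_cases hzg : z.coeff g = 0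
  · simp [hzg]
  have hgK : g ∈ K := by by_contra h; exact hzg (hz g h)
  have hgx : x * g ≠ g * x := fun h => hzg (h0 g h)
  have hp1 : orb p g = g := by
    simp only [orb, mul_assoc, inv_mul_eq_iff_eq_mul]
    exact (hxp g hgK).symm
  have hper : ∀ l, orb l g = orb (l % p) g := by
    intro l
    induction l using Nat.strong_induction_on with
    | _ l ih =>
      rcases lt_or_ge l p with h | h
      · rw [Nat.mod_eq_of_lt h]
      · have h2 := ih (l - p) (by have := hp.out.pos; omega)
        rw [← Nat.mod_eq_sub_mod h] at h2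
        rw [← h2, show l = p + (l - p) by omega, ← horb, hp1]
        congr 2
        omega
  have hinj : ∀ a < p, ∀ b < p, orb a g = orb b g → a = b := by
    suffices H : ∀ a b, a < b → b < p → orb a g ≠ orb b g by
      intro a ha b hb hab
      rcases lt_trichotomy a b with h | h | h
      · exact absurd hab (H a b h hb)
      · exact h
      · exact absurd hab.symm (H b a h ha)
    intro a b hab hb heq
    have hd : Commute (x ^ (b - a)) g := by
      have h1 : (x ^ b)⁻¹ = (x ^ a)⁻¹ * (x ^ (b - a))⁻¹ := by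
        rw [← mul_inv_rev, ← pow_add, Nat.sub_add_cancel hab.le]
      have h2 : x ^ b = x ^ (b - a) * x ^ a := by rw [← pow_add, Nat.sub_add_cancel hab.le]
      have h3 : g = (x ^ (b - a))⁻¹ * g * x ^ (b - a) := by
        have := congrArg (fun y => x ^ a * y * (x ^ a)⁻¹) heq
        simp only [orb, h1] at this
        rw [h2] at this
        simpa [mul_assoc] using this
      show x ^ (b - a) * g = g * x ^ (b - a)
      conv_lhs => rw [h3]
      group
    have hcop : (b - a).Coprime p := (hp.out.coprime_iff_not_dvd.2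
      fun hdvd => by have := Nat.le_of_dvd (by omega) hdvd; omega).symm
    have hc := (hd.zpow_left (Nat.gcdA (b - a) p)).mul_left
      ((show Commute (x ^ p) g from hxp g hgK).zpow_left (Nat.gcdB (b - a) p))
    rw [← zpow_natCast, ← zpow_natCast, ← zpow_mul, ← zpow_mul, ← zpow_add,
      ← Nat.gcd_eq_gcd_ab, hcop.gcd_eq_one, Nat.cast_one, zpow_one] at hc
    exact hgx hc.eq
  obtain ⟨l₀, hl₀, hmin⟩ := Finset.exists_min_image (Finset.range p) (fun l => e₀ (orb l g))
    ⟨0, Finset.mem_range.2 hp.out.pos⟩
  rw [Finset.sum_eq_single l₀]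
  · rw [if_pos]
    intro l' _
    rw [horb, hper (l₀ + l')]
    exact hmin _ (Finset.mem_range.2 (Nat.mod_lt _ hp.out.pos))
  · intro l hl hne
    rw [if_neg]
    intro hall
    have hl' := Finset.mem_range.1 hl
    have hl0' := Finset.mem_range.1 hl₀
    have h := hall ((p + l₀ - l) % p) (Nat.mod_lt _ hp.out.pos)
    have e : orb ((p + l₀ - l) % p) (orb l g) = orb l₀ g := by
      rw [horb, hper, Nat.add_mod_mod, show l + (p + l₀ - l) = p + l₀ by omega, Nat.add_mod_left,
        Nat.mod_eq_of_lt hl0']
    rw [e] at h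
    exact hne (hinj l hl' l₀ hl0' (e₀.injective (le_antisymm h (hmin l hl))))
  · intro h; exact absurd hl₀ h

theorem trS_orbit_sum {p : ℕ} [CharP k p] {x : X} (s : MonoidAlgebra k X) :
    trS (Subgroup.centralizer ({x} : Set X) : Set X) (∑ l ∈ Finset.range p, cj (x ^ l) s) = 0 := by
  classical
  refine gaExt fun g => ?_
  rw [coeff_trS, Set.indicator_apply]
  split_ifs with hg
  · simp only [MonoidAlgebra.coeff_sum, Finset.sum_apply', coeff_cj']
    have hx : ∀ l, (x ^ l)⁻¹ * g * x ^ l = g := fun l => by
      rw [mul_assoc, ((Commute.pow_left (show Commute x g from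
        Subgroup.mem_centralizer_singleton_iff.1 hg |>.symm) l)).eq.symm, inv_mul_cancel_left]
    simp [hx]
  · simp

end Cfsg.Agent.S4643Lib
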