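/-
One element of order `p`: the quotient `ker (u - 1) / im (u - 1) ^ (p - 1)` of a full matrix
representation.
-/
import Cfsg.Agent.Lib.S4643.ChainTrace
import Cfsg.Agent.Lib.S4643.GroupLin
import Mathlib.Tactic.NoncommRing
import Mathlib.LinearAlgebra.Matrix.Bilinear

set_option autoImplicit false
set_option linter.unusedSectionVars false
set_option linter.style.haveILetI false

namespace Cfsg.Agent.S4643Lib

open Matrix MonoidAlgebra Cfsg.Agent.Blocks Cfsg.Agent.BrauerPairs

variable {X : Type*} [Group X] [Fintype X] {k : Type} [Field k] {p : ℕ} [hp : Fact p.Prime]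
  [CharP k p]

/-- A map which on `K` is a full matrix representation with idempotent `e`. -/
structure Good (p : ℕ) (K : Subgroup X) {τ : Type*} [Fintype τ] [DecidableEq τ]
    (f : X → Matrix τ τ k) (e : MonoidAlgebra k X) : Prop where
  mul : ∀ a ∈ K, ∀ b ∈ K, f (a * b) = f a * f b
  one : f 1 = 1
  supp : Supp K e
  central : ∀ y : MonoidAlgebra k X, Supp K y → e * y = y * e
  e_one : linf f e = 1
  surj : ∀ T : Matrix τ τ k, ∃ y : MonoidAlgebra k X, Supp K y ∧ linf f y = T
  inj : ∀ y : MonoidAlgebra k X, Supp K y → linf f y = 0 → y * e = 0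
  dim : ¬ p ∣ Fintype.card τ

theorem supp_one (K : Subgroup X) : Supp K (1 : MonoidAlgebra k X) := (InZ.one K).supp

theorem supp_sub {K : Subgroup X} {a b : MonoidAlgebra k X} (ha : Supp K a) (hb : Supp K b) :
    Supp K (a - b) := fun g hg => by simp [ha g hg, hb g hg]

theorem supp_mul {K : Subgroup X} {a b : MonoidAlgebra k X} (ha : Supp K a) (hb : Supp K b) :
    Supp K (a * b) := by
  intro g hg
  rw [coeff_mul_univ]
  refine Finset.sum_eq_zero fun c _ => ?_
  by_cases hc : c ∈ K
  · rw [hb _ fun h => hg (by simpa using mul_mem hc h), mul_zero]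
  · rw [ha c hc, zero_mul]

theorem supp_trS {K : Subgroup X} {a : MonoidAlgebra k X} (ha : Supp K a) (H : Subgroup X) :
    Supp (K ⊓ H) (trS (H : Set X) a) := fun g hg => by
  classical
  rw [coeff_trS, Set.indicator_apply]
  split_ifs with h
  · exact ha g fun hK => hg ⟨hK, h⟩
  · rfl

theorem Good.idem {K : Subgroup X} {τ : Type*} [Fintype τ] [DecidableEq τ] {f : X → Matrix τ τ k}
    {e : MonoidAlgebra k X} (h : Good p K f e) : e * e = e := by
  have h1 := h.inj (e - 1) (supp_sub h.supp (supp_one K))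
    (by rw [map_sub, h.e_one, linf_one h.one, sub_self])
  rwa [sub_mul, one_mul, sub_eq_zero] at h1

/-- The elements fixed by conjugation. -/
theorem isInvElt_zpowers {x : X} {y : MonoidAlgebra k X} (h : cj x y = y) :
    IsInvElt (Subgroup.zpowers x) y := by
  have h' : ∀ g, y.coeff (x * g * x⁻¹) = y.coeff g := fun g => by
    conv_lhs => rw [← h, coeff_cj']
    group
  have hn : ∀ (n : ℕ) g, y.coeff (x ^ n * g * (x ^ n)⁻¹) = y.coeff g := fun n => by
    induction n with
    | zero => simp
    | succ n ih =>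
      intro g
      rw [pow_succ', show x * x ^ n * g * (x * x ^ n)⁻¹ = x * (x ^ n * g * (x ^ n)⁻¹) * x⁻¹ by group,
        h', ih]
  intro u hu g
  obtain ⟨n, rfl⟩ := mem_powers_iff_mem_zpowers.2 hu
  exact hn n g

/-- The step. -/
theorem step {d : ℕ} {K : Subgroup X} {f : X → Matrix (Fin d) (Fin d) k} {e : MonoidAlgebra k X}
    (hG : Good p K f e) {x : X} (hx : IsPGroup p (Subgroup.zpowers x))
    (hK : ∀ g, g ∈ K ↔ x * g * x⁻¹ ∈ K) (hxp : ∀ g ∈ K, x ^ p * g = g * x ^ p)
    {u : Matrix (Fin d) (Fin d) k} (hu : u ^ p = 1)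
    (hint : ∀ g ∈ K, u * f g = f (x * g * x⁻¹) * u) :
    ∃ (w : ℕ) (A : Matrix (Fin w) (Fin d) k) (B : Matrix (Fin d) (Fin w) k),
      A * B = 1 ∧ (∀ T T', Commute u T → Commute u T' → A * (T * T') * B = A * T * B * (A * T' * B)) ∧
      Good p (K ⊓ Subgroup.centralizer ({x} : Set X)) (fun g => A * f g * B)
        (trS (Subgroup.centralizer ({x} : Set X) : Set X) e) ∧
      ∀ (L : Type) [Field L] [CharP L p] (ψ : k →+* L) (G : Matrix (Fin d) (Fin d) L),
        Commute (u.map ψ) G → ∀ w' : ℕ,
          w ≤ (A.map ψ * G * B.map ψ).rank + ((A.map ψ * G * B.map ψ) ^ (p - 1)).rank + w' →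
          ∃ (L' : Type) (_ : Field L') (_ : CharP L' p) (ψ' : L →+* L') (c : L'),
            d ≤ ((u - 1).map (ψ'.comp ψ) + c • G.map ψ').rank +
              (((u - 1).map (ψ'.comp ψ) + c • G.map ψ') ^ (p - 1)).rank + w' := by
  classical
  have hd : 0 < d := by
    by_contra hc
    exact hG.dim (by simp [show d = 0 by omega])
  haveI : Nonempty (Fin d) := ⟨⟨0, hd⟩⟩
  have hp0 := hp.out.pos
  set u' := u ^ (p - 1) with hu'
  have huu' : u * u' = 1 := by rw [hu', ← pow_succ', Nat.sub_add_cancel hp.out.one_le, hu]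
  have hu'u : u' * u = 1 := by rw [hu', ← pow_succ, Nat.sub_add_cancel hp.out.one_le, hu]
  haveI : CharP (Matrix (Fin d) (Fin d) k) p :=
    charP_of_injective_ringHom (algebraMap k (Matrix (Fin d) (Fin d) k)).injective p
  have hnil : (u - 1) ^ p = 0 := by
    rw [sub_pow_char_of_commute p (Commute.one_right u), hu, one_pow, sub_self]
  obtain ⟨n, m, Q, Q', hpos, hQ, hQ', hshift⟩ := exists_shift_form (u - 1) ⟨p, hnil⟩
  -- change of basis
  set C : Matrix (Fin d) (Fin d) k → Matrix (Σ i, Fin (m i)) (Σ i, Fin (m i)) k :=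
    fun T => Q * T * Q' with hC
  have hCmul : ∀ T T', C (T * T') = C T * C T' := fun T T' => by
    simp only [hC, ← Matrix.mul_assoc]
    rw [Matrix.mul_assoc (Q * T) Q' Q, hQ', Matrix.mul_one]
  have hC1 : C 1 = 1 := by simp only [hC, Matrix.mul_one, hQ]
  have hCC : ∀ T, Q' * C T * Q = T := fun T => by
    simp only [hC, ← Matrix.mul_assoc]
    rw [hQ', Matrix.one_mul, Matrix.mul_assoc, hQ', Matrix.mul_one]
  have hCC' : ∀ T, C (Q' * T * Q) = T := fun T => by
    simp only [hC, ← Matrix.mul_assoc]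
    rw [hQ, Matrix.one_mul, Matrix.mul_assoc, hQ, Matrix.mul_one]
  have hCsub : ∀ T T', C (T - T') = C T - C T' := fun T T' => by
    simp only [hC, Matrix.mul_sub, Matrix.sub_mul]
  have hCpow : ∀ T (j : ℕ), C (T ^ j) = C T ^ j := fun T j => by
    induction j with
    | zero => rw [pow_zero, pow_zero, hC1]
    | succ j ih => rw [pow_succ, pow_succ, hCmul, ih]
  have hS : C (u - 1) = shiftM k m := hshift
  have hu1 : C u = 1 + shiftM k m := by rw [← hS, hCsub, hC1]; abel
  have hA : shiftM k m ^ p = 0 := by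
    rw [← hS, ← hCpow, hnil]; simp [hC]
  haveI : Nonempty (Σ i, Fin (m i)) := by
    by_contra hc
    rw [not_nonempty_iff] at hc
    have h0 : C 1 = C 0 := Subsingleton.elim _ _
    have := congrArg (fun T => Q' * T * Q) h0
    simp only [hCC] at this
    exact one_ne_zero this
  have hcard : Fintype.card (Σ i, Fin (m i)) = d := by
    have h1 := rank_mul_le_left Q Q'
    have h2 := rank_mul_le_left Q' Q
    rw [hQ, rank_one] at h1
    rw [hQ', rank_one, Fintype.card_fin] at h2
    have h3 := rank_le_card_height Q'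
    have h4 := rank_le_card_width Q
    simp only [Fintype.card_fin] at h3 h4
    have h5 := rank_le_card_width Q'
    omega
  -- fixed elements
  have hsuppcj : ∀ {y : MonoidAlgebra k X}, Supp K y → Supp K (cj x y) := fun hy => supp_cj hK hy
  have hlcj : ∀ {y : MonoidAlgebra k X}, Supp K y → linf f (cj x y) = u * linf f y * u' :=
    fun hy => linf_cj huu' hint hy
  have hcje : cj x e = e := by
    have h1 : cj x e * e = e := by
      have h2 := hG.inj (cj x e - 1) (supp_sub (hsuppcj hG.supp) (supp_one K))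
        (by rw [map_sub, hlcj hG.supp, hG.e_one, linf_one hG.one, mul_one, huu', sub_self])
      rwa [sub_mul, one_mul, sub_eq_zero] at h2
    let y := cj x⁻¹ e
    have hy : Supp K y := fun g hg => by
      rw [coeff_cj', inv_inv]; exact hG.supp _ fun h => hg ((hK g).2 h)
    have hyx : cj x y = e := gaExt fun g => by simp [y, coeff_cj', mul_assoc]
    have h3 : linf f y = 1 := by
      have h4 := hlcj hy
      rw [hyx, hG.e_one] at h4
      have h5 := congrArg (fun T => u' * T * u) h4
      simp only [mul_one, hu'u] at h5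
      rw [show u' * (u * linf f y * u') * u = u' * u * linf f y * (u' * u) by
        simp only [mul_assoc], hu'u, one_mul, mul_one] at h5
      exact h5.symm
    have h6 := hG.inj (y - 1) (supp_sub hy (supp_one K))
      (by rw [map_sub, h3, linf_one hG.one, sub_self])
    rw [sub_mul, one_mul, sub_eq_zero] at h6
    have h7 := congrArg (cj x) h6
    rw [map_mul, hyx] at h7
    rw [← h7, hG.central _ (hsuppcj hG.supp), h1]
  have hfix : ∀ T : Matrix (Fin d) (Fin d) k, u * T = T * u →
      ∃ z : MonoidAlgebra k X, Supp K z ∧ cj x z = z ∧ linf f z = T := by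
    intro T hT
    obtain ⟨y, hy, hyT⟩ := hG.surj T
    refine ⟨y * e, supp_mul hy hG.supp, ?_,
      by rw [linf_mul hG.mul hy hG.supp, hyT, hG.e_one, mul_one]⟩
    have h := hG.inj (cj x y - y) (supp_sub (hsuppcj hy) hy)
      (by rw [map_sub, hlcj hy, hyT, hT, mul_assoc, huu', mul_one, sub_self])
    rw [sub_mul, sub_eq_zero] at h
    rw [map_mul, hcje, h]
  have hcjpow : ∀ (l : ℕ) {y : MonoidAlgebra k X}, Supp K y →
      Supp K (cj (x ^ l) y) ∧ linf f (cj (x ^ l) y) = u ^ l * linf f y * u' ^ l := by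
    intro l
    induction l with
    | zero =>
      intro y hy
      have e0 : cj (x ^ 0) y = y := gaExt fun g => by simp [coeff_cj']
      refine ⟨by rw [e0]; exact hy, ?_⟩
      rw [e0, pow_zero, pow_zero, one_mul, mul_one]
    | succ l ih =>
      intro y hy
      obtain ⟨h1, h2⟩ := ih hy
      have e1 : cj (x ^ (l + 1)) y = cj x (cj (x ^ l) y) := gaExt fun g => by
        simp only [coeff_cj', pow_succ', _root_.mul_inv_rev, mul_assoc]
      rw [e1]
      refine ⟨hsuppcj h1, ?_⟩
      rw [hlcj h1, h2, pow_succ', pow_succ]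
      simp only [mul_assoc]
  have horbit : ∀ {s : MonoidAlgebra k X}, Supp K s →
      linf f (∑ l ∈ Finset.range p, cj (x ^ l) s) = symSum p (u - 1) (linf f s) * u := by
    intro s hs
    rw [map_sum, Finset.sum_congr rfl fun l _ => (hcjpow l hs).2, conj_sum k huu' hu'u hu]
  have hCsym : ∀ T, C (symSum p (u - 1) T * u) = symSum p (shiftM k m) (C T) * (1 + shiftM k m) := by
    intro T
    rw [hCmul, hu1]
    congr 1
    simp only [symSum]
    rw [hC]
    simp only [Matrix.mul_sum, Matrix.sum_mul]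
    refine Finset.sum_congr rfl fun j _ => ?_
    show C ((u - 1) ^ j * T * (u - 1) ^ (p - 1 - j)) = _
    rw [hCmul, hCmul, hCpow, hCpow, hS]
  -- fixed elements vanishing on the centraliser
  have htrace : ∀ z : MonoidAlgebra k X, Supp K z → cj x z = z → (∀ g, x * g = g * x → z.coeff g = 0) →
      ∃ T, C (linf f z) = symSum p (shiftM k m) T * (1 + shiftM k m) := by
    intro z hz hcz h0
    obtain ⟨s, hs, hsz⟩ := exists_orbit_sum hxp hz hcz h0
    exact ⟨C (linf f s), by rw [← hsz, horbit hs, hCsym]⟩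
  set v := C u' with hv'
  have hv : (1 + shiftM k m) * v = 1 := by rw [hv', ← hu1, ← hCmul, huu', hC1]
  have hcommC : ∀ {T}, u * T = T * u → Commute (C T) (shiftM k m) := by
    intro T hT
    show C T * shiftM k m = shiftM k m * C T
    rw [← hS, ← hCmul, ← hCmul, mul_sub, sub_mul, hT, mul_one, one_mul]
  have hcommC' : ∀ {T}, Commute T (shiftM k m) → u * (Q' * T * Q) = Q' * T * Q * u := by
    intro T hT
    have h1 : C (u * (Q' * T * Q)) = C (Q' * T * Q * u) := by
      rw [hCmul, hCmul, hCC', hu1, add_mul, mul_add, one_mul, mul_one, hT.eq]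
    have h2 := congrArg (fun T => Q' * T * Q) h1
    simpa only [hCC] using h2
  -- the chains
  obtain ⟨m₀, hm₀, hs⟩ := chain_types hpos hA hv (fun x₀ hx₀ => by
    obtain ⟨y₀, hy₀, hy₀x⟩ := hG.surj (Q' * x₀ * Q)
    have hlt : linf f (cj x y₀ - y₀) = Q' * ((shiftM k m * x₀ - x₀ * shiftM k m) * v) * Q := by
      rw [map_sub, hlcj hy₀, hy₀x, ← hCC (u * (Q' * x₀ * Q) * u' - Q' * x₀ * Q)]
      congr 2
      have h1 : v * (1 + shiftM k m) = 1 := by rw [hv', ← hu1, ← hCmul, hu'u, hC1]
      rw [hCsub, hCmul, hCmul, hCC', hu1, ← hv']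
      calc (1 + shiftM k m) * x₀ * v - x₀
          = (1 + shiftM k m) * x₀ * v - x₀ * ((1 + shiftM k m) * v) := by rw [hv, mul_one]
        _ = _ := by noncomm_ring
    have hcv : Commute v (shiftM k m) := hcommC (by rw [huu', hu'u])
    have hc : u * linf f (cj x y₀ - y₀) = linf f (cj x y₀ - y₀) * u := by
      rw [hlt]; exact hcommC' (hx₀.mul_left hcv)
    set z₀ := (cj x y₀ - y₀) * e with hz₀
    have hz₀s : Supp K z₀ := supp_mul (supp_sub (hsuppcj hy₀) hy₀) hG.supp
    have hz₀l : linf f z₀ = linf f (cj x y₀ - y₀) := by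
      rw [hz₀, linf_mul hG.mul (supp_sub (hsuppcj hy₀) hy₀) hG.supp, hG.e_one, mul_one]
    have hz₀c : cj x z₀ = z₀ := by
      obtain ⟨z, hz, hzc, hzl⟩ := hfix _ hc
      have h := hG.inj (z - z₀) (supp_sub hz hz₀s) (by rw [map_sub, hzl, hz₀l, sub_self])
      rw [sub_mul, sub_eq_zero, hz₀, mul_assoc, hG.idem, ← hz₀] at h
      rw [← h, map_mul, hzc, hcje]
    have hform : z₀ = cj x (y₀ * e) - y₀ * e := by rw [hz₀, sub_mul, map_mul, hcje]
    obtain ⟨T, hT⟩ := htrace z₀ hz₀s hz₀c (fun g hg => by
      rw [hform]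
      simp only [MonoidAlgebra.coeff_sub, Finsupp.sub_apply, coeff_cj']
      rw [mul_assoc, ← hg, inv_mul_cancel_left, sub_self])
    exact ⟨T, by rw [← hT, hz₀l, hlt, hCC']⟩)
  have hlt : m₀ < p := by have := hp.out.two_le; rcases hm₀ with h | h <;> omega
  have hmle := le_of_shift_pow hA
  -- the short block
  set w := Fintype.card (Short m p) with hw
  let eS := Fintype.equivFin (Short m p)
  let top : Fin w → Σ i, Fin (m i) := fun a => ⟨(eS.symm a).1, ⟨0, hpos _⟩⟩
  let A := Q.submatrix top id
  let B := Q'.submatrix id top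
  have hblk : ∀ T, A * T * B = (shortM p m (topM hpos (C T))).submatrix eS.symm eS.symm := by
    intro T
    ext a b
    simp only [shortM, topM, submatrix_apply, hs _ (eS.symm a).2, hs _ (eS.symm b).2, if_true]
    simp only [A, B, hC, Matrix.mul_apply, submatrix_apply, id_eq]
    rfl
  have hAB : A * B = 1 := by
    have h := hblk 1
    rw [Matrix.mul_one, hC1] at h
    rw [h]
    ext a b
    simp only [shortM, topM, submatrix_apply, hs _ (eS.symm a).2, hs _ (eS.symm b).2, if_true,
      one_apply]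
    refine if_congr ⟨fun h => eS.symm.injective (Subtype.ext (congrArg Sigma.fst h)),
      fun h => by subst h; rfl⟩ rfl rfl
  have hmulAB : ∀ T T', Commute u T → Commute u T' → A * (T * T') * B = A * T * B * (A * T' * B) := by
    intro T T' hT hT'
    rw [hblk, hblk, hblk, submatrix_mul_equiv, hCmul,
      short_mul hpos hs hlt (hcommC hT.eq) (hcommC hT'.eq)]
  have hzero : ∀ T, (∃ S, C T = symSum p (shiftM k m) S * (1 + shiftM k m)) → A * T * B = 0 := by
    rintro T ⟨S, hST⟩
    rw [hblk, hST, short_symSum hpos hA hs hlt]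
    rfl
  -- the truncation
  set cx := Subgroup.centralizer ({x} : Set X) with hcx
  have hmemcx : ∀ {g}, g ∈ cx ↔ x * g = g * x := fun {g} => by
    rw [hcx, Subgroup.mem_centralizer_singleton_iff]; exact ⟨Eq.symm, Eq.symm⟩
  have hrest : ∀ z : MonoidAlgebra k X, Supp K z → cj x z = z → A * linf f (z - trS (cx : Set X) z) * B = 0 := by
    intro z hz hcz
    refine hzero _ (htrace _ (supp_sub hz fun g hg => (supp_trS hz cx) g fun h => hg h.1) ?_
      fun g hg => by simp [coeff_trS, Set.indicator_of_mem (show g ∈ (cx : Set X) from hmemcx.2 hg)])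
    rw [map_sub, hcz]
    congr 1
    refine gaExt fun g => ?_
    rw [coeff_cj', coeff_trS, coeff_trS, Set.indicator_apply, Set.indicator_apply]
    refine if_congr ?_ (by conv_rhs => rw [← hcz, coeff_cj']) rfl
    simp only [SetLike.mem_coe, hmemcx]
    constructor <;> intro h
    · have h2 := congrArg (fun y => x * y * x⁻¹) h
      simpa [mul_assoc] using h2
    · have : x⁻¹ * g * x = g := by rw [mul_assoc, ← h, inv_mul_cancel_left]
      rw [this, h]
  have hlinAB : ∀ y, linf (fun g => A * f g * B) y = A * linf f y * B := fun y =>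
    linf_map ((mulRightLinearMap (Fin w) k B).comp (mulLeftLinearMap (Fin d) k A)) f y
  have hfixK1 : ∀ {y : MonoidAlgebra k X}, Supp (K ⊓ cx) y → cj x y = y := by
    intro y hy
    refine gaExt fun g => ?_
    rw [coeff_cj']
    by_cases hg : g ∈ cx
    · rw [mul_assoc, ← hmemcx.1 hg, inv_mul_cancel_left]
    · rw [hy g fun h => hg h.2, hy _ fun h => hg ?_]
      have h1 := hmemcx.1 h.2
      rw [hmemcx]
      have h2 := congrArg (fun y => x * y * x⁻¹) h1
      simpa [mul_assoc] using h2
  have hBr : ∀ y z : MonoidAlgebra k X, cj x y = y → cj x z = z →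
      trS (cx : Set X) (y * z) = trS (cx : Set X) y * trS (cx : Set X) z := by
    intro y z hy hz
    simp only [hcx, trS_eq_brTrunc]
    exact brTrunc_mul hx (isInvElt_zpowers hy) (isInvElt_zpowers hz)
  have htrself : ∀ y : MonoidAlgebra k X, Supp (K ⊓ cx) y → trS (cx : Set X) y = y := by
    intro y hy
    refine gaExt fun g => ?_
    rw [coeff_trS, Set.indicator_apply]
    split_ifs with h
    · rfl
    · rw [hy g fun h' => h h'.2]
  have hsK : ∀ {y : MonoidAlgebra k X}, Supp (K ⊓ cx) y → Supp K y :=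
    fun hy g hg => hy g fun h => hg h.1
  have hcomm1 : ∀ g ∈ K ⊓ cx, Commute u (f g) := fun g hg => by
    show u * f g = f g * u
    rw [hint g hg.1, hmemcx.1 hg.2, mul_inv_cancel_right]
  refine ⟨w, A, B, hAB, hmulAB, ⟨fun a ha b hb => ?_, ?_, supp_trS hG.supp cx, fun y hy => ?_, ?_,
    fun T => ?_, fun y hy h0 => ?_, ?_⟩, ?_⟩
  · rw [hG.mul a ha.1 b hb.1]
    exact hmulAB _ _ (hcomm1 a ha) (hcomm1 b hb)
  · show A * f 1 * B = 1
    rw [hG.one, Matrix.mul_one, hAB]
  · have h := hG.central y (hsK hy)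
    have h1 := congrArg (trS (cx : Set X)) h
    rwa [hBr _ _ hcje (hfixK1 hy), hBr _ _ (hfixK1 hy) hcje, htrself y hy] at h1
  · rw [hlinAB]
    have h := hrest e hG.supp hcje
    rw [map_sub, Matrix.mul_sub, Matrix.sub_mul, hG.e_one, Matrix.mul_one, hAB, sub_eq_zero] at h
    exact h.symm
  · obtain ⟨y, hy, hyT⟩ := short_lift hpos hs (T.submatrix eS eS)
    obtain ⟨z, hz, hzc, hzl⟩ := hfix _ (hcommC' hy)
    refine ⟨trS (cx : Set X) z, supp_trS hz cx, ?_⟩
    rw [hlinAB]
    have h := hrest z hz hzc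
    rw [map_sub, Matrix.mul_sub, Matrix.sub_mul, sub_eq_zero] at h
    rw [← h, hzl, hblk, hCC', hyT]
    ext a b
    simp
  · rw [hlinAB, hblk] at h0
    have hsh : shortM p m (topM hpos (C (linf f y))) = 0 := by
      ext s t
      have := congrFun (congrFun h0 (eS s)) (eS t)
      simpa using this
    have hcy : u * linf f y = linf f y * u := by
      have h1 := hlcj (hsK hy)
      rw [hfixK1 hy] at h1
      conv_rhs => rw [h1, mul_assoc, hu'u, mul_one]
    obtain ⟨z, hz⟩ := exists_symSum_eq hpos hA hs hm₀ (hcommC hcy) hsh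
    obtain ⟨s₀, hs₀, hs₀l⟩ := hG.surj (Q' * (z * v) * Q)
    set t := ∑ l ∈ Finset.range p, cj (x ^ l) s₀ with ht
    have hts : Supp K t := fun g hg => by
      rw [ht, MonoidAlgebra.coeff_sum, Finset.sum_apply']
      exact Finset.sum_eq_zero fun l _ => (hcjpow l hs₀).1 g hg
    have hvA : Commute v (shiftM k m) := hcommC (by rw [huu', hu'u])
    have htl : linf f t = linf f y := by
      rw [ht, horbit hs₀, hs₀l, ← hCC (symSum p (u - 1) (Q' * (z * v) * Q) * u), hCsym, hCC',
        ← hCC (linf f y), hz]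
      congr 2
      have h1 : symSum p (shiftM k m) (z * v) = symSum p (shiftM k m) z * v := by
        simp only [symSum, Finset.sum_mul]
        refine Finset.sum_congr rfl fun j _ => ?_
        simp only [mul_assoc]
        rw [(hvA.pow_right (p - 1 - j)).eq]
      rw [h1, mul_assoc, show v * (1 + shiftM k m) = 1 by rw [hv', ← hu1, ← hCmul, hu'u, hC1],
        mul_one]
    have htc : cj x t = t := by
      rw [ht, map_sum]
      have e1 : ∀ l, cj x (cj (x ^ l) s₀) = cj (x ^ (l + 1)) s₀ := fun l => gaExt fun g => by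
        simp only [coeff_cj', pow_succ', _root_.mul_inv_rev, mul_assoc]
      simp only [e1]
      have e2 : cj (x ^ p) s₀ = cj (x ^ 0) s₀ := gaExt fun g => by
        simp only [coeff_cj', pow_zero, inv_one, one_mul, mul_one]
        by_cases hg : g ∈ K
        · rw [mul_assoc, ← hxp g hg, inv_mul_cancel_left]
        · rw [hs₀ g hg]
          by_cases hg' : (x ^ p)⁻¹ * g * x ^ p ∈ K
          · have h2 := hxp _ hg'
            have h3 : (x ^ p)⁻¹ * g * x ^ p = g := by
              calc (x ^ p)⁻¹ * g * x ^ p = x ^ p * ((x ^ p)⁻¹ * g * x ^ p) * (x ^ p)⁻¹ := by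
                    rw [h2, mul_inv_cancel_right]
                _ = g := by group
            exact absurd (h3 ▸ hg') hg
          · exact hs₀ _ hg'
      have h3 := Finset.sum_range_succ' (fun l => cj (x ^ l) s₀) p
      rw [Finset.sum_range_succ, e2] at h3
      exact (add_right_cancel h3).symm
    have h4 := hG.inj (y - t) (supp_sub (hsK hy) hts) (by rw [map_sub, htl, sub_self])
    rw [sub_mul, sub_eq_zero] at h4
    have h5 := congrArg (trS (cx : Set X)) h4
    rw [hBr _ _ (hfixK1 hy) hcje, hBr _ _ htc hcje, htrself y hy, ht, hcx,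
      trS_orbit_sum, zero_mul] at h5
    exact h5
  · rw [Fintype.card_fin]
    intro hdvd
    refine hG.dim ?_
    rw [Fintype.card_fin, ← hcard, Fintype.card_sigma]
    simp only [Fintype.card_fin]
    rw [← Finset.sum_filter_add_sum_filter_not _ (fun i => m i = p),
      Finset.sum_congr rfl (fun i hi => (Finset.mem_filter.1 hi).2),
      Finset.sum_congr rfl (fun i hi => hs i (Finset.mem_filter.1 hi).2)]
    rw [Finset.sum_const, Finset.sum_const, smul_eq_mul, smul_eq_mul]
    refine Nat.dvd_add (dvd_mul_left _ _) (dvd_mul_of_dvd_left ?_ _)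
    rwa [← Fintype.card_subtype]
  · intro L _ _ ψ G hG' w' hle
    have hcu : Commute ((shiftM k m).map ψ) (Q.map ψ * G * Q'.map ψ) := by
      have e : (shiftM k m).map ψ = Q.map ψ * ((u - 1).map ψ) * Q'.map ψ := by
        rw [← hshift, Matrix.map_mul, Matrix.map_mul]
      have hinv : Q'.map ψ * Q.map ψ = 1 := by
        rw [← Matrix.map_mul, hQ', Matrix.map_one _ (map_zero ψ) (map_one ψ)]
      have hcc : (u - 1).map ψ * G = G * (u - 1).map ψ := by
        have : (u - 1).map ψ = u.map ψ - 1 := by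
          rw [Matrix.map_sub _ (map_sub ψ), Matrix.map_one _ (map_zero ψ) (map_one ψ)]
        rw [this, sub_mul, mul_sub, hG'.eq, one_mul, mul_one]
      have key : ∀ U V : Matrix (Fin d) (Fin d) L,
          Q.map ψ * U * Q'.map ψ * (Q.map ψ * V * Q'.map ψ) = Q.map ψ * (U * V) * Q'.map ψ := by
        intro U V
        simp only [← Matrix.mul_assoc]
        rw [Matrix.mul_assoc (Q.map ψ * U) (Q'.map ψ) (Q.map ψ), hinv, Matrix.mul_one]
      show _ * _ = _ * _
      rw [e, key, key, hcc]
    set F := Q.map ψ * G * Q'.map ψ with hF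
    have hF' : Commute F (shiftM L m) := by
      rw [← map_shiftM ψ]
      exact hcu.symm
    have hφ : A.map ψ * G * B.map ψ =
        (shortM p m (topM hpos F)).submatrix eS.symm eS.symm := by
      ext a b
      simp only [shortM, topM, submatrix_apply, hs _ (eS.symm a).2, hs _ (eS.symm b).2, if_true]
      simp only [A, B, hF, Matrix.mul_apply, submatrix_apply, id_eq, Matrix.map_apply]
      rfl
    have hpow : (A.map ψ * G * B.map ψ) ^ (p - 1) =
        (shortM p m (topM hpos F) ^ (p - 1)).submatrix eS.symm eS.symm :=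
      hφ ▸ (map_pow (reindexAlgEquiv L L eS) (shortM p m (topM hpos F)) (p - 1)).symm
    rw [hpow, hφ, rank_submatrix, rank_submatrix, hw] at hle
    have hper := perturb hpos hmle hs hm₀ hF' hle
    refine ⟨FractionRing (Polynomial L), inferInstance,
      charP_of_injective_ringHom
        (f := (algebraMap (Polynomial L) (FractionRing (Polynomial L))).comp Polynomial.C)
        ((IsFractionRing.injective (Polynomial L)
          (FractionRing (Polynomial L))).comp Polynomial.C_injective) p,
      (algebraMap (Polynomial L) (FractionRing (Polynomial L))).comp Polynomial.C,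
      algebraMap (Polynomial L) (FractionRing (Polynomial L)) (Polynomial.X ^ 2), ?_⟩
    set K' := FractionRing (Polynomial L)
    set ψ' := (algebraMap (Polynomial L) K').comp Polynomial.C
    set c := algebraMap (Polynomial L) K' (Polynomial.X ^ 2)
    have hQQ : Q.map (ψ'.comp ψ) * Q'.map (ψ'.comp ψ) = 1 := by
      rw [← Matrix.map_mul, hQ, Matrix.map_one _ (map_zero _) (map_one _)]
    have hQQ' : Q'.map (ψ'.comp ψ) * Q.map (ψ'.comp ψ) = 1 := by
      rw [← Matrix.map_mul, hQ', Matrix.map_one _ (map_zero _) (map_one _)]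
    set P := (u - 1).map (ψ'.comp ψ) + c • G.map ψ' with hP
    have hPconj : shiftM K' m + c • F.map ψ' =
        Q.map (ψ'.comp ψ) * P * Q'.map (ψ'.comp ψ) := by
      rw [hP, Matrix.mul_add, Matrix.add_mul, ← map_shiftM (ψ'.comp ψ), ← hshift, Matrix.map_mul,
        Matrix.map_mul, Matrix.mul_smul, Matrix.smul_mul, hF, Matrix.map_mul, Matrix.map_mul,
        Matrix.map_map, Matrix.map_map]
      rfl
    have hrk : ∀ q, ((shiftM K' m + c • F.map ψ') ^ q).rank ≤ (P ^ q).rank := by
      intro q
      have e : (shiftM K' m + c • F.map ψ') ^ q =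
          Q.map (ψ'.comp ψ) * P ^ q * Q'.map (ψ'.comp ψ) := by
        induction q with
        | zero => rw [pow_zero, pow_zero, Matrix.mul_one, hQQ]
        | succ q ih =>
          rw [pow_succ, ih, hPconj, pow_succ]
          simp only [← Matrix.mul_assoc]
          rw [Matrix.mul_assoc (Q.map (ψ'.comp ψ) * P ^ q) (Q'.map (ψ'.comp ψ))
            (Q.map (ψ'.comp ψ)), hQQ', Matrix.mul_one]
      rw [e]
      exact (rank_mul_le_left _ _).trans (rank_mul_le_right _ _)
    have h1 := hrk 1
    rw [pow_one, pow_one] at h1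
    have h2 := hrk (p - 1)
    rw [hcard] at hper
    exact le_trans hper (Nat.add_le_add_right (Nat.add_le_add h1 h2) _)

end Cfsg.Agent.S4643Lib
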