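/-
Several commuting elements of order `p`, and the specialisation of the generic combination.
-/
import Cfsg.Agent.Lib.S4643.Step
import Mathlib.Algebra.MvPolynomial.CommRing
import Mathlib.RingTheory.MvPolynomial.Basic

set_option autoImplicit false
set_option linter.unusedSectionVars false
set_option linter.style.haveILetI false

namespace Cfsg.Agent.S4643Lib

open Matrix MonoidAlgebra Cfsg.Agent.Blocks Cfsg.Agent.BrauerPairs

variable {X : Type*} [Group X] [Fintype X] {k : Type} [Field k] {p : ℕ} [hp : Fact p.Prime]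
  [CharP k p]

/-- The centraliser of a list. -/
abbrev centL (l : List X) : Subgroup X := Subgroup.centralizer {x | x ∈ l}

theorem mem_centL {l : List X} {g : X} : g ∈ centL l ↔ ∀ x ∈ l, x * g = g * x :=
  Subgroup.mem_centralizer_iff

/-- A combination of the `u x - 1`. -/
noncomputable def combo {L : Type} [Field L] {d : ℕ} (ψ : k →+* L) (c : X → L)
    (u : X → Matrix (Fin d) (Fin d) k) (l : List X) : Matrix (Fin d) (Fin d) L :=
  (l.map fun x => c x • ((u x).map ψ - 1)).sum

theorem combo_conj {L : Type} [Field L] {d w : ℕ} (ψ : k →+* L) (c : X → L)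
    {u : X → Matrix (Fin d) (Fin d) k} {A : Matrix (Fin w) (Fin d) k}
    {B : Matrix (Fin d) (Fin w) k} (hAB : A * B = 1) (l : List X) :
    A.map ψ * combo ψ c u l * B.map ψ = combo ψ c (fun x => A * u x * B) l := by
  induction l with
  | nil => simp [combo]
  | cons x l ih =>
    simp only [combo, List.map_cons, List.sum_cons, Matrix.mul_add, Matrix.add_mul] at ih ⊢
    rw [ih, Matrix.mul_smul, Matrix.smul_mul, Matrix.mul_sub, Matrix.sub_mul, Matrix.mul_one,
      ← Matrix.map_mul, ← Matrix.map_mul, ← Matrix.map_mul, hAB,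
      Matrix.map_one _ (map_zero ψ) (map_one ψ)]

theorem combo_map {L L' : Type} [Field L] [Field L'] {d : ℕ} (ψ : k →+* L) (ψ' : L →+* L')
    (c : X → L) (u : X → Matrix (Fin d) (Fin d) k) (l : List X) :
    (combo ψ c u l).map ψ' = combo (ψ'.comp ψ) (fun x => ψ' (c x)) u l := by
  induction l with
  | nil => simp [combo, Matrix.map_zero]
  | cons x l ih =>
    simp only [combo, List.map_cons, List.sum_cons] at ih ⊢
    rw [Matrix.map_add _ (map_add ψ'), ih]
    congr 1
    ext i j
    simp [one_apply, apply_ite ψ']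

theorem combo_smul {L : Type} [Field L] {d : ℕ} (ψ : k →+* L) (a : L) (c c' : X → L)
    (u : X → Matrix (Fin d) (Fin d) k) (l : List X) (h : ∀ x ∈ l, c' x = a * c x) :
    combo ψ c' u l = a • combo ψ c u l := by
  induction l with
  | nil => simp [combo]
  | cons x l ih =>
    have ih' := ih fun y hy => h y (List.mem_cons_of_mem _ hy)
    simp only [combo, List.map_cons, List.sum_cons] at ih' ⊢
    rw [ih', h x List.mem_cons_self, smul_add, smul_smul]

theorem combo_commute {L : Type} [Field L] {d : ℕ} (ψ : k →+* L) (c : X → L)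
    {u : X → Matrix (Fin d) (Fin d) k} {T : Matrix (Fin d) (Fin d) k} (l : List X)
    (h : ∀ x ∈ l, Commute T (u x)) : Commute (T.map ψ) (combo ψ c u l) := by
  refine Commute.list_sum_right _ _ fun b hb => ?_
  obtain ⟨x, hx, rfl⟩ := List.mem_map.1 hb
  refine Commute.smul_right (Commute.sub_right ?_ (Commute.one_right _)) _
  show T.map ψ * (u x).map ψ = (u x).map ψ * T.map ψ
  rw [← Matrix.map_mul, ← Matrix.map_mul, (h x hx).eq]

/-- Several commuting elements: the final representation and the bound at one point. -/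
theorem exists_point (l : List X) : ∀ {d : ℕ} {K : Subgroup X}
    {f : X → Matrix (Fin d) (Fin d) k} {e : MonoidAlgebra k X}
    (u : X → Matrix (Fin d) (Fin d) k), Good p K f e → l.Nodup →
    (∀ x ∈ l, IsPGroup p (Subgroup.zpowers x) ∧ (∀ g, g ∈ K ↔ x * g * x⁻¹ ∈ K) ∧
      (∀ g ∈ K, x ^ p * g = g * x ^ p) ∧ u x ^ p = 1 ∧
      ∀ g ∈ K, u x * f g = f (x * g * x⁻¹) * u x) →
    (∀ x ∈ l, ∀ y ∈ l, x * y = y * x ∧ u x * u y = u y * u x) →
    ∃ (w : ℕ) (f' : X → Matrix (Fin w) (Fin w) k),
      Good p (K ⊓ centL l) f' (trS (centL l : Set X) e) ∧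
      ∃ (L : Type) (_ : Field L) (_ : CharP L p) (ψ : k →+* L) (c : X → L),
        d ≤ (combo ψ c u l).rank + ((combo ψ c u l) ^ (p - 1)).rank + w := by
  induction l with
  | nil =>
    intro d K f e u hG _ _ _
    have hc : centL ([] : List X) = ⊤ := by
      ext g; simp [mem_centL]
    refine ⟨d, f, ?_, k, inferInstance, inferInstance, RingHom.id k, fun _ => 0, by simp⟩
    have ht : trS ((centL ([] : List X) : Subgroup X) : Set X) e = e :=
      gaExt fun g => by rw [hc, coeff_trS]; simp
    rw [ht, hc, inf_top_eq]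
    exact hG
  | cons x₀ l ih =>
    intro d K f e u hG hnd hyp hcom
    obtain ⟨hx₀, hK₀, hxp₀, hu₀, hint₀⟩ := hyp x₀ List.mem_cons_self
    obtain ⟨w, A, B, hAB, hmul, hG1, hper⟩ := step hG hx₀ hK₀ hxp₀ hu₀ hint₀
    set cx := Subgroup.centralizer ({x₀} : Set X) with hcx
    have hcomm : ∀ x ∈ l, Commute (u x₀) (u x) := fun x hx =>
      (hcom x₀ List.mem_cons_self x (List.mem_cons_of_mem _ hx)).2
    have hcommK : ∀ g ∈ K ⊓ cx, Commute (u x₀) (f g) := fun g hg => by
      show u x₀ * f g = f g * u x₀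
      rw [hint₀ g hg.1, (Subgroup.mem_centralizer_singleton_iff.1 hg.2).symm, mul_inv_cancel_right]
    have hpow : ∀ x ∈ l, ∀ n : ℕ, (A * u x * B) ^ n = A * u x ^ n * B := by
      intro x hx n
      induction n with
      | zero => rw [pow_zero, pow_zero, Matrix.mul_one, hAB]
      | succ n ihn => rw [pow_succ, pow_succ, ihn, ← hmul _ _ ((hcomm x hx).pow_right n) (hcomm x hx)]
    have hK1 : ∀ x ∈ l, ∀ g, g ∈ K ⊓ cx ↔ x * g * x⁻¹ ∈ K ⊓ cx := by
      intro x hx g
      have hxx : x₀ * x = x * x₀ := (hcom x₀ List.mem_cons_self x (List.mem_cons_of_mem _ hx)).1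
      simp only [Subgroup.mem_inf, hcx, Subgroup.mem_centralizer_singleton_iff]
      rw [← (hyp x (List.mem_cons_of_mem _ hx)).2.1 g]
      refine and_congr_right fun _ => ?_
      have hxx' : x₀ * x⁻¹ = x⁻¹ * x₀ := (show Commute x₀ x from hxx).inv_right.eq
      constructor <;> intro h
      · calc x * g * x⁻¹ * x₀ = x * (g * x₀) * x⁻¹ := by
              rw [mul_assoc _ x⁻¹ x₀, ← hxx']; simp only [mul_assoc]
          _ = x * x₀ * g * x⁻¹ := by rw [h]; simp only [mul_assoc]
          _ = x₀ * (x * g * x⁻¹) := by rw [← hxx]; simp only [mul_assoc]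
      · have h2 : x * (g * x₀) * x⁻¹ = x * (x₀ * g) * x⁻¹ := by
          calc x * (g * x₀) * x⁻¹ = x * g * x⁻¹ * x₀ := by
                rw [mul_assoc (x * g) x⁻¹ x₀, ← hxx']; simp only [mul_assoc]
            _ = x₀ * (x * g * x⁻¹) := h
            _ = x * (x₀ * g) * x⁻¹ := by
                rw [← mul_assoc x x₀ g, ← hxx]; simp only [mul_assoc]
        exact mul_left_cancel (mul_right_cancel h2)
    have hint1 : ∀ x ∈ l, ∀ g ∈ K ⊓ cx,
        A * u x * B * (A * f g * B) = A * f (x * g * x⁻¹) * B * (A * u x * B) := by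
      intro x hx g hg
      rw [← hmul _ _ (hcomm x hx) (hcommK g hg),
        ← hmul _ _ (hcommK _ ((hK1 x hx g).1 hg)) (hcomm x hx),
        (hyp x (List.mem_cons_of_mem _ hx)).2.2.2.2 g hg.1]
    obtain ⟨w', f', hG2, L, instL, instC, ψ, c, hle⟩ :=
      ih (u := fun x => A * u x * B) hG1 (List.nodup_cons.1 hnd).2
        (fun x hx => ⟨(hyp x (List.mem_cons_of_mem _ hx)).1, hK1 x hx,
          fun g hg => (hyp x (List.mem_cons_of_mem _ hx)).2.2.1 g hg.1,
          by rw [hpow x hx, (hyp x (List.mem_cons_of_mem _ hx)).2.2.2.1, Matrix.mul_one, hAB],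
          hint1 x hx⟩)
        (fun x hx y hy => ⟨(hcom x (List.mem_cons_of_mem _ hx) y (List.mem_cons_of_mem _ hy)).1,
          by rw [← hmul _ _ (hcomm x hx) (hcomm y hy), ← hmul _ _ (hcomm y hy) (hcomm x hx),
            (hcom x (List.mem_cons_of_mem _ hx) y (List.mem_cons_of_mem _ hy)).2]⟩)
    refine ⟨w', f', ?_, ?_⟩
    · have hcL : centL (x₀ :: l) = cx ⊓ centL l := by
        ext g
        simp only [Subgroup.mem_inf, mem_centL, hcx, Subgroup.mem_centralizer_singleton_iff,
          List.mem_cons, forall_eq_or_imp]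
        exact and_congr_left fun _ => eq_comm
      have ht : trS (centL l : Set X) (trS (cx : Set X) e) = trS (centL (x₀ :: l) : Set X) e := by
        rw [trS_trS, hcL, Subgroup.coe_inf, Set.inter_comm]
      rw [hcL, ← inf_assoc]
      rw [hcL] at ht
      rwa [← ht]
    · rw [← combo_conj ψ c hAB] at hle
      obtain ⟨L', instL', instC', ψ', c₀, hle'⟩ :=
        hper L ψ (combo ψ c u l) (combo_commute ψ c l hcomm) w' hle
      classical
      refine ⟨L', instL', instC', ψ'.comp ψ, fun x => if x = x₀ then 1 else c₀ * ψ' (c x), ?_⟩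
      have e1 : combo (ψ'.comp ψ) (fun x => if x = x₀ then 1 else c₀ * ψ' (c x)) u (x₀ :: l) =
          (u x₀ - 1).map (ψ'.comp ψ) + c₀ • (combo ψ c u l).map ψ' := by
        rw [combo_map, ← combo_smul (ψ'.comp ψ) c₀ (fun x => ψ' (c x))
          (fun x => if x = x₀ then 1 else c₀ * ψ' (c x)) u l
          (fun x hx => if_neg fun (h : x = x₀) => (List.nodup_cons.1 hnd).1 (h ▸ hx))]
        simp only [combo, List.map_cons, List.sum_cons, if_pos, one_smul]
        rw [Matrix.map_sub _ (map_sub (ψ'.comp ψ)), Matrix.map_one _ (map_zero _) (map_one _)]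
      rw [e1]
      exact hle'

/-- The generic combination. -/
noncomputable def genericA {d : ℕ} (E : Finset X) (u : X → Matrix (Fin d) (Fin d) k) :
    Matrix (Fin d) (Fin d) (MvPolynomial E k) :=
  ∑ x : E, (MvPolynomial.X x : MvPolynomial E k) • ((u x).map MvPolynomial.C - 1)

/-- The bound at the generic point. -/
theorem exists_generic {d : ℕ} {K : Subgroup X} {f : X → Matrix (Fin d) (Fin d) k}
    {e : MonoidAlgebra k X} (E : Finset X) (u : X → Matrix (Fin d) (Fin d) k) (hG : Good p K f e)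
    (hyp : ∀ x ∈ E, IsPGroup p (Subgroup.zpowers x) ∧ (∀ g, g ∈ K ↔ x * g * x⁻¹ ∈ K) ∧
      (∀ g ∈ K, x ^ p * g = g * x ^ p) ∧ u x ^ p = 1 ∧
      ∀ g ∈ K, u x * f g = f (x * g * x⁻¹) * u x)
    (hcom : ∀ x ∈ E, ∀ y ∈ E, x * y = y * x ∧ u x * u y = u y * u x)
    {F : Type} [Field F] (ι : MvPolynomial E k →+* F) (hι : Function.Injective ι) :
    ∃ (w : ℕ) (f' : X → Matrix (Fin w) (Fin w) k),
      Good p (K ⊓ Subgroup.centralizer (E : Set X)) f'
        (trS (Subgroup.centralizer (E : Set X) : Set X) e) ∧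
      d ≤ ((genericA E u).map ι).rank + (((genericA E u).map ι) ^ (p - 1)).rank + w := by
  classical
  obtain ⟨w, f', hG', L, instL, instC, ψ, c, hle⟩ :=
    exists_point E.toList u hG E.nodup_toList (fun x hx => hyp x (Finset.mem_toList.1 hx))
      (fun x hx y hy => hcom x (Finset.mem_toList.1 hx) y (Finset.mem_toList.1 hy))
  have hset : {x | x ∈ E.toList} = (E : Set X) := Set.ext fun x => Finset.mem_toList
  have hcL : centL E.toList = Subgroup.centralizer (E : Set X) := by rw [centL, hset]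
  rw [hcL] at hG'
  refine ⟨w, f', hG', hle.trans ?_⟩
  let φ : MvPolynomial E k →+* L := MvPolynomial.eval₂Hom ψ fun x => c x.1
  have hspec : (genericA E u).map φ = combo ψ c u E.toList := by
    rw [genericA, combo, Finset.sum_map_toList,
      ← Finset.sum_coe_sort E (fun x => c x • ((u x).map ψ - 1))]
    rw [← RingHom.mapMatrix_apply, map_sum]
    refine Finset.sum_congr rfl fun x _ => ?_
    ext i j
    simp only [RingHom.mapMatrix_apply, Matrix.map_apply, Matrix.smul_apply, Matrix.sub_apply,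
      smul_eq_mul, map_mul, map_sub, one_apply, apply_ite φ, map_one, map_zero]
    simp [φ]
  have hpow : ((genericA E u) ^ (p - 1)).map φ = (combo ψ c u E.toList) ^ (p - 1) := by
    rw [← hspec]; exact map_pow φ.mapMatrix _ _
  have hpow' : ((genericA E u) ^ (p - 1)).map ι = ((genericA E u).map ι) ^ (p - 1) :=
    map_pow ι.mapMatrix _ _
  have h1 := rank_map_le φ ι hι (genericA E u)
  have h2 := rank_map_le φ ι hι ((genericA E u) ^ (p - 1))
  rw [hspec] at h1
  rw [hpow, hpow'] at h2
  omega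

end Cfsg.Agent.S4643Lib
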