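/-
The generic combination and the sums of conjugates: orbit sums act as zero on the quotient of its
kernel by the image of its power `p - 1`.
-/
import Cfsg.Agent.Lib.S4643.Rec
import Cfsg.Agent.Lib.S4643.Trace
import Mathlib.Algebra.MonoidAlgebra.Basic
import Mathlib.Algebra.Ring.GeomSum

set_option autoImplicit false
set_option linter.unusedSectionVars false
set_option linter.style.haveILetI false

namespace Cfsg.Agent.S4643Lib

open Matrix MonoidAlgebra Cfsg.Agent.Blocks Cfsg.Agent.BrauerPairs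

variable {p : ℕ} [hp : Fact p.Prime]

/-- The two-sided multiplications of a commutative family. -/
noncomputable def bimul {F : Type} [Field F] {Ec : Type*} [CommGroup Ec] {d : ℕ}
    (φ : Ec →* Matrix (Fin d) (Fin d) F) :
    MonoidAlgebra F (Ec × Ec) →ₐ[F] Module.End F (Matrix (Fin d) (Fin d) F) :=
  MonoidAlgebra.lift F (Module.End F (Matrix (Fin d) (Fin d) F)) (Ec × Ec)
    { toFun := fun g => LinearMap.mulLeft F (φ g.1) * LinearMap.mulRight F (φ g.2)
      map_one' := LinearMap.ext fun T => by simp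
      map_mul' := fun g h => LinearMap.ext fun T => by
        simp only [Prod.fst_mul, Prod.snd_mul, map_mul, Module.End.mul_apply,
          LinearMap.mulLeft_apply, LinearMap.mulRight_apply]
        rw [show φ g.2 * φ h.2 = φ h.2 * φ g.2 by rw [← map_mul, ← map_mul, mul_comm]]
        simp only [Matrix.mul_assoc] }

theorem bimul_apply {F : Type} [Field F] {Ec : Type*} [CommGroup Ec] {d : ℕ}
    (φ : Ec →* Matrix (Fin d) (Fin d) F) (g h : Ec) (c : F) (T : Matrix (Fin d) (Fin d) F) :
    bimul φ (single (g, h) c) T = c • (φ g * T * φ h) := by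
  rw [bimul, MonoidAlgebra.lift_single]
  simp [Matrix.mul_assoc]

/-- A sum of conjugates under `e` of an operator commuting with a complement `R` sends the kernel
of the generic combination into the image of its power `p - 1`. -/
theorem symSum_mem_range {F : Type} [Field F] [CharP F p] {Ec : Type*} [CommGroup Ec] {d : ℕ}
    [NeZero d] (φ : Ec →* Matrix (Fin d) (Fin d) F) (hφ : ∀ g, φ g ^ p = 1) {ι : Type*}
    [Fintype ι] (g r : ι → Ec) (n : ι → ℕ) (e : Ec) (hg : ∀ i, g i = r i * e ^ n i)
    (y : ι → F) (hlam : (∑ i, y i * (n i : F)) ≠ 0) (T : Matrix (Fin d) (Fin d) F)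
    (hT : ∀ i, φ (r i) * T = T * φ (r i)) (v : Fin d → F)
    (hv : (∑ i, y i • (φ (g i) - 1)) *ᵥ v = 0) :
    ∃ w, (symSum p (φ e - 1) T * φ e) *ᵥ v = ((∑ i, y i • (φ (g i) - 1)) ^ (p - 1)) *ᵥ w := by
  classical
  haveI : CharP (MonoidAlgebra F (Ec × Ec)) p :=
    charP_of_injective_ringHom (algebraMap F (MonoidAlgebra F (Ec × Ec))).injective p
  set Φ := bimul φ with hΦ
  set a := ∑ i, y i • (φ (g i) - 1) with ha
  let lm : Ec → MonoidAlgebra F (Ec × Ec) := fun x => single (x, 1) 1
  let rm : Ec → MonoidAlgebra F (Ec × Ec) := fun x => single (1, x) 1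
  have hlm : ∀ x T, Φ (lm x) T = φ x * T := fun x T => by
    rw [hΦ, bimul_apply, map_one, one_smul, Matrix.mul_one]
  have hrm : ∀ x T, Φ (rm x) T = T * φ x := fun x T => by
    rw [hΦ, bimul_apply, map_one, one_smul, Matrix.one_mul]
  have hlmul : ∀ x x', lm (x * x') = lm x * lm x' := fun x x' => by
    simp only [lm, MonoidAlgebra.single_mul_single, Prod.mk_mul_mk, mul_one]
  have hrmul : ∀ x x', rm (x * x') = rm x * rm x' := fun x x' => by
    simp only [rm, MonoidAlgebra.single_mul_single, Prod.mk_mul_mk, mul_one]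
  have hlpow : ∀ x (j : ℕ), lm x ^ j = lm (x ^ j) := fun x j => by
    simp only [lm, MonoidAlgebra.single_pow, one_pow, Prod.pow_mk]
  have hrpow : ∀ x (j : ℕ), rm x ^ j = rm (x ^ j) := fun x j => by
    simp only [rm, MonoidAlgebra.single_pow, one_pow, Prod.pow_mk]
  set δ := ∑ i, y i • (lm (g i) - rm (g i)) with hδ
  set δ' := lm e - rm e with hδ'
  set G := ∑ i, y i • (lm (r i) * ∑ j ∈ Finset.range (n i), lm e ^ j * rm e ^ (n i - 1 - j)) with hG
  set N := ∑ i, y i • ((lm (r i) - rm (r i)) * rm e ^ n i) with hN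
  have hsplit : δ = δ' * G + N := by
    rw [hδ, hG, hN, Finset.mul_sum, ← Finset.sum_add_distrib]
    refine Finset.sum_congr rfl fun i _ => ?_
    rw [mul_smul_comm, ← smul_add]
    congr 1
    rw [← mul_assoc, mul_comm δ' (lm (r i)), mul_assoc, mul_comm δ' _, geom_sum₂_mul, hg i, hlmul,
      hrmul, ← hlpow, ← hrpow]
    ring
  have hΦl : ∀ x, Φ (lm x) ^ p = 1 := fun x => by
    refine LinearMap.ext fun T => ?_
    rw [← map_pow, hlpow, hlm, map_pow, hφ, Matrix.one_mul]
    rfl
  have hΦr : ∀ x, Φ (rm x) ^ p = 1 := fun x => by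
    refine LinearMap.ext fun T => ?_
    rw [← map_pow, hrpow, hrm, map_pow, hφ, Matrix.mul_one]
    rfl
  set lam := ∑ i, y i * (n i : F) with hlamdef
  have hGp : Φ (G ^ p) = algebraMap F _ (lam ^ p) := by
    rw [hG, sum_pow_char, hlamdef, sum_pow_char, map_sum, map_sum]
    refine Finset.sum_congr rfl fun i _ => ?_
    rw [smul_pow, mul_pow, sum_pow_char, map_smul, map_mul, map_sum, map_pow, hΦl, one_mul]
    have : ∀ j ∈ Finset.range (n i), Φ ((lm e ^ j * rm e ^ (n i - 1 - j)) ^ p) = 1 := fun j _ => by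
      rw [mul_pow, map_mul, ← pow_mul, ← pow_mul, mul_comm j p, mul_comm (n i - 1 - j) p, pow_mul,
        pow_mul, map_pow, map_pow, map_pow, hΦl, map_pow, hΦr, one_pow, one_pow, one_mul]
    have hn : ((n i : F)) ^ p = (n i : F) := by rw [← frobenius_def, map_natCast]
    rw [Finset.sum_congr rfl this, Finset.sum_const, Finset.card_range, mul_pow, hn, map_mul,
      map_natCast, nsmul_eq_mul, mul_one, Algebra.smul_def]
  let Ginv := (lam ^ p)⁻¹ • G ^ (p - 1)
  have hinv : Φ (G * Ginv) = 1 := by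
    rw [mul_smul_comm, ← pow_succ', Nat.sub_add_cancel hp.out.one_le, map_smul, hGp,
      Algebra.algebraMap_eq_smul_one, smul_smul, inv_mul_cancel₀ (pow_ne_zero _ hlam), one_smul]
  have hNT : Φ N T = 0 := by
    rw [hN, map_sum, LinearMap.sum_apply]
    refine Finset.sum_eq_zero fun i _ => ?_
    rw [map_smul, LinearMap.smul_apply, mul_comm, map_mul, Module.End.mul_apply, map_sub,
      LinearMap.sub_apply, hlm, hrm, hT i, sub_self, map_zero, smul_zero]
  set T' := Φ (Ginv ^ (p - 1)) T with hT'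
  have hNT' : Φ N T' = 0 := by
    rw [hT', ← Module.End.mul_apply, ← map_mul, mul_comm, map_mul, Module.End.mul_apply, hNT,
      map_zero]
  have hpow : ∀ j, Φ (δ ^ j) T' = Φ ((δ' * G) ^ j) T' := by
    intro j
    induction j with
    | zero => rfl
    | succ j ih =>
      have h0 : Φ N (Φ ((δ' * G) ^ j) T') = 0 := by
        rw [← Module.End.mul_apply, ← map_mul, mul_comm N ((δ' * G) ^ j), map_mul,
          Module.End.mul_apply, hNT', map_zero]
      rw [pow_succ', map_mul, Module.End.mul_apply, ih, hsplit, map_add, LinearMap.add_apply, h0,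
        add_zero, ← Module.End.mul_apply, ← map_mul, ← pow_succ']
  have hΦδ : Φ δ = LinearMap.mulLeft F a - LinearMap.mulRight F a := by
    refine LinearMap.ext fun T => ?_
    simp only [hδ, ha, map_sum, map_smul, map_sub, LinearMap.sum_apply, LinearMap.smul_apply,
      LinearMap.sub_apply, hlm, hrm, LinearMap.mulLeft_apply, LinearMap.mulRight_apply,
      Finset.sum_mul, Finset.mul_sum, smul_mul_assoc, mul_smul_comm, sub_mul, mul_sub, one_mul,
      mul_one]
    rw [← Finset.sum_sub_distrib]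
    refine Finset.sum_congr rfl fun i _ => ?_
    rw [← smul_sub, sub_sub_sub_cancel_right]
  have hΦδ' : Φ δ' = LinearMap.mulLeft F (φ e - 1) - LinearMap.mulRight F (φ e - 1) := by
    refine LinearMap.ext fun T => ?_
    simp only [hδ', map_sub, LinearMap.sub_apply, hlm, hrm, LinearMap.mulLeft_apply,
      LinearMap.mulRight_apply, sub_mul, mul_sub, one_mul, mul_one]
    abel
  have key : symSum p a T' = symSum p (φ e - 1) T := by
    rw [← symSum_eq F a, ← hΦδ, ← map_pow, hpow, hT', ← Module.End.mul_apply, ← map_mul, mul_pow,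
      mul_assoc, ← mul_pow, map_mul, map_pow Φ (G * Ginv), hinv, one_pow, mul_one, map_pow, hΦδ',
      symSum_eq]
  refine ⟨T' *ᵥ (φ e *ᵥ v), ?_⟩
  have hcomm : Commute a (φ e) := Commute.sum_left _ _ _ fun i _ =>
    Commute.smul_left (Commute.sub_left ((Commute.all (g i) e).map φ) (Commute.one_left _)) _
  have hv' : a *ᵥ (φ e *ᵥ v) = 0 := by
    rw [mulVec_mulVec, hcomm.eq, ← mulVec_mulVec, hv, mulVec_zero]
  rw [← mulVec_mulVec, ← key, symSum, Matrix.sum_mulVec]
  rw [Finset.sum_eq_single (p - 1)]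
  · simp only [Nat.sub_self, pow_zero, Matrix.mul_one, mulVec_mulVec, Matrix.mul_assoc]
  · intro j hj hne
    have := Finset.mem_range.1 hj
    rw [← mulVec_mulVec, show p - 1 - j = (p - 1 - j - 1) + 1 by omega, pow_succ,
      ← mulVec_mulVec (φ e *ᵥ v) (a ^ (p - 1 - j - 1)) a, hv', mulVec_zero, mulVec_zero]
  · intro h; exact absurd (Finset.mem_range.2 (Nat.sub_lt hp.out.pos one_pos)) h

end Cfsg.Agent.S4643Lib
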