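/-
The Glauberman correspondence between `K` and `K ∩ N(P)`.
-/
import Cfsg.Agent.Lib.S4643.Iface
import Cfsg.Agent.Lib.Char.GlaubermanMod
import Mathlib.GroupTheory.GroupAction.ConjAct

set_option linter.unusedSectionVars false
set_option linter.style.haveILetI false

namespace Cfsg.Agent.FongDescent

open Cfsg Cfsg.Agent.Char Cfsg.Agent.Blocks

universe u

variable {G : Type u} [Group G] [Fintype G] {p : ℕ} [hp : Fact p.Prime] (K : Subgroup G)
  [K.Normal] [Fintype K] (P : Subgroup G)
  [Fintype (K.subgroupOf (Subgroup.normalizer (P : Set G)))]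

/-- The conjugation action of `P` on `K`. -/
noncomputable def act : P →* MulAut K := (MulAut.conjNormal : G →* MulAut K).comp P.subtype

theorem act_apply (u : P) (k : K) : ((act K P u k : K) : G) = (u : G) * k * (u : G)⁻¹ := rfl

theorem isInv_iff (θ : IrrCharacter K) :
    GlaubermanMod.IsInv (act K P) (θ : K → ℂ) ↔ ∀ u ∈ P, cjIrr K u θ = θ :=
  ⟨fun h u hu => Subtype.ext (funext fun k => h ⟨u, hu⟩ k),
    fun h u k => congrFun (congrArg Subtype.val (h u u.2)) k⟩

variable (hP : IsPGroup p P) (hK : ¬ p ∣ Nat.card K)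

include hP hK in
theorem commute_of_mem {n : G} (hnK : n ∈ K) (hnN : n ∈ Subgroup.normalizer (P : Set G))
    {u : G} (hu : u ∈ P) : n * u = u * n := by
  have h1 : n * u * n⁻¹ * u⁻¹ ∈ P ⊓ K := by
    refine ⟨P.mul_mem ((Subgroup.mem_normalizer_iff.1 hnN u).1 hu) (P.inv_mem hu), ?_⟩
    have := K.mul_mem hnK ((inferInstance : K.Normal).conj_mem _ (K.inv_mem hnK) u)
    simpa [mul_assoc] using this
  rw [inf_comm, PBasic.inf_eq_bot_of_coprime ((hp.out.coprime_iff_not_dvd.2 hK).symm) hP,
    Subgroup.mem_bot, mul_inv_eq_one, mul_inv_eq_iff_eq_mul] at h1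
  exact h1

/-- The fixed points are `K ∩ N(P)`. -/
noncomputable def fixEquiv :
    GlaubermanMod.fixedSub (act K P) ≃* K.subgroupOf (Subgroup.normalizer (P : Set G)) where
  toFun c := ⟨⟨((c : K) : G), Subgroup.centralizer_le_normalizer (P : Set G)
    (Subgroup.mem_centralizer_iff.2 fun u hu => by
      have := congrArg Subtype.val (c.2 ⟨u, hu⟩)
      rw [act_apply] at this
      exact mul_inv_eq_iff_eq_mul.1 this)⟩, (c : K).2⟩
  invFun k := ⟨⟨((k : Subgroup.normalizer (P : Set G)) : G), k.2⟩, fun u => Subtype.ext (by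
    rw [act_apply, mul_inv_eq_iff_eq_mul]
    exact (commute_of_mem K P hP hK k.2 (k : Subgroup.normalizer (P : Set G)).2 u.2).symm)⟩
  left_inv _ := rfl
  right_inv _ := rfl
  map_mul' _ _ := rfl

/-- Transport to the fixed points. -/
noncomputable def toFix (φ : IrrCharacter (K.subgroupOf (Subgroup.normalizer (P : Set G)))) :
    IrrCharacter (GlaubermanMod.fixedSub (act K P)) :=
  ⟨fun c => (φ : K.subgroupOf (Subgroup.normalizer (P : Set G)) → ℂ) (fixEquiv K P hP hK c),
    IsIrrCharacter.comp φ.2 (fixEquiv K P hP hK).toMonoidHom (fixEquiv K P hP hK).surjective⟩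

include hP hK in
theorem classInner_eq_mult [Fintype (GlaubermanMod.fixedSub (act K P))] (θ : IrrCharacter K)
    (φ : IrrCharacter (K.subgroupOf (Subgroup.normalizer (P : Set G)))) :
    classInner (resC (Subgroup.normalizer (P : Set G)) K (θ : K → ℂ))
        (φ : K.subgroupOf (Subgroup.normalizer (P : Set G)) → ℂ) =
      (GlaubermanMod.mult (act K P) θ (toFix K P hP hK φ) : ℂ) := by
  rw [← GlaubermanMod.classInner_resC]
  unfold classInner
  rw [Nat.card_congr (fixEquiv K P hP hK).toEquiv]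
  congr 1
  exact (Fintype.sum_equiv (fixEquiv K P hP hK).toEquiv _ _ fun c => rfl).symm

include hP hK in
theorem corr_iff [Fintype (GlaubermanMod.fixedSub (act K P))] (θ : IrrCharacter K)
    (φ : IrrCharacter (K.subgroupOf (Subgroup.normalizer (P : Set G)))) :
    Corr p (Subgroup.normalizer (P : Set G)) K θ φ ↔
      ¬ p ∣ GlaubermanMod.mult (act K P) θ (toFix K P hP hK φ) := by
  unfold Corr
  rw [classInner_eq_mult K P hP hK]
  exact ⟨fun h => h _ rfl, fun h m hm => Nat.cast_inj.1 hm ▸ h⟩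

include hP hK in
theorem toFix_surjective : Function.Surjective (toFix K P hP hK) := fun γ =>
  ⟨⟨fun k => (γ : GlaubermanMod.fixedSub (act K P) → ℂ) ((fixEquiv K P hP hK).symm k),
    IsIrrCharacter.comp γ.2 (fixEquiv K P hP hK).symm.toMonoidHom
      (fixEquiv K P hP hK).symm.surjective⟩, Subtype.ext rfl⟩

theorem toFix_injective : Function.Injective (toFix K P hP hK) := fun _ _ h =>
  Subtype.ext (funext fun k => congrFun (congrArg Subtype.val h) ((fixEquiv K P hP hK).symm k))

include hP hK in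
theorem exists_unique_corr (θ : IrrCharacter K) (hθ : ∀ u ∈ P, cjIrr K u θ = θ) :
    ∃! φ : IrrCharacter (K.subgroupOf (Subgroup.normalizer (P : Set G))),
      Corr p (Subgroup.normalizer (P : Set G)) K θ φ := by
  haveI : Fintype (GlaubermanMod.fixedSub (act K P)) := Fintype.ofFinite _
  obtain ⟨γ, hγ, huniq⟩ := GlaubermanMod.exists_unique_constituent (act K P) hP hK θ
    ((isInv_iff K P θ).2 hθ)
  obtain ⟨φ, rfl⟩ := toFix_surjective K P hP hK γ
  refine ⟨φ, (corr_iff K P hP hK θ φ).2 fun h => ?_, fun φ' h' => ?_⟩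
  · rw [← ZMod.natCast_eq_zero_iff] at h
    rcases hγ with e | e <;> rw [h] at e
    · exact zero_ne_one e
    · exact one_ne_zero (neg_eq_zero.1 e.symm)
  · by_contra hne
    exact (corr_iff K P hP hK θ φ').1 h'
      (huniq _ fun e => hne (toFix_injective K P hP hK e))

include hP hK in
theorem exists_corr_over (φ : IrrCharacter (K.subgroupOf (Subgroup.normalizer (P : Set G)))) :
    ∃ θ : IrrCharacter K, (∀ u ∈ P, cjIrr K u θ = θ) ∧
      Corr p (Subgroup.normalizer (P : Set G)) K θ φ := by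
  haveI : Fintype (GlaubermanMod.fixedSub (act K P)) := Fintype.ofFinite _
  obtain ⟨θ, h1, h2⟩ := GlaubermanMod.exists_over (act K P) hP hK (toFix K P hP hK φ)
  exact ⟨θ, (isInv_iff K P θ).1 h1, (corr_iff K P hP hK θ φ).2 h2⟩

include hP hK in
theorem eq_of_corr {θ θ' : IrrCharacter K} (h : ∀ u ∈ P, cjIrr K u θ = θ)
    (h' : ∀ u ∈ P, cjIrr K u θ' = θ')
    {φ : IrrCharacter (K.subgroupOf (Subgroup.normalizer (P : Set G)))}
    (hc : Corr p (Subgroup.normalizer (P : Set G)) K θ φ)
    (hc' : Corr p (Subgroup.normalizer (P : Set G)) K θ' φ) : θ = θ' := by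
  haveI : Fintype (GlaubermanMod.fixedSub (act K P)) := Fintype.ofFinite _
  exact GlaubermanMod.eq_of_common (act K P) hP hK ((isInv_iff K P θ).2 h)
    ((isInv_iff K P θ').2 h') ((corr_iff K P hP hK θ φ).1 hc) ((corr_iff K P hP hK θ' φ).1 hc')

/-- Conjugation by an element of the normaliser. -/
theorem corr_cjIrr [Fintype (Subgroup.normalizer (P : Set G))]
    (n : Subgroup.normalizer (P : Set G)) {θ : IrrCharacter K}
    {φ : IrrCharacter (K.subgroupOf (Subgroup.normalizer (P : Set G)))}
    (hc : Corr p (Subgroup.normalizer (P : Set G)) K θ φ) :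
    Corr p (Subgroup.normalizer (P : Set G)) K (cjIrr K (n : G) θ)
      (cjIrr (K.subgroupOf (Subgroup.normalizer (P : Set G))) n φ) := by
  intro m hm
  refine hc m ?_
  rw [← hm, ← classInner_conjChar (K.subgroupOf (Subgroup.normalizer (P : Set G))) _ _ n]
  rfl

theorem cjIrr_fixed_of_mem_normalizer {θ : IrrCharacter K} (h : ∀ u ∈ P, cjIrr K u θ = θ) {n : G}
    (hn : n ∈ Subgroup.normalizer (P : Set G)) :
    ∀ u ∈ P, cjIrr K u (cjIrr K n θ) = cjIrr K n θ := by
  intro u hu
  rw [← cjIrr_mul, show n * u = (n * u * n⁻¹) * n by group, cjIrr_mul,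
    h _ ((Subgroup.mem_normalizer_iff.1 hn u).1 hu)]

include hP hK in
/-- The stabiliser of the correspondent. -/
theorem mem_inertia_iff_corr [Fintype (Subgroup.normalizer (P : Set G))] {θ : IrrCharacter K}
    (hθ : ∀ u ∈ P, cjIrr K u θ = θ)
    {φ : IrrCharacter (K.subgroupOf (Subgroup.normalizer (P : Set G)))}
    (hc : Corr p (Subgroup.normalizer (P : Set G)) K θ φ)
    (n : Subgroup.normalizer (P : Set G)) :
    cjIrr K (n : G) θ = θ ↔
      cjIrr (K.subgroupOf (Subgroup.normalizer (P : Set G))) n φ = φ := by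
  constructor
  · intro h
    have h1 := corr_cjIrr K P n hc
    rw [h] at h1
    exact (exists_unique_corr K P hP hK θ hθ).unique h1 hc
  · intro h
    have h1 := corr_cjIrr K P n hc
    rw [h] at h1
    exact eq_of_corr K P hP hK (cjIrr_fixed_of_mem_normalizer K P hθ n.2) hθ h1 hc

end Cfsg.Agent.FongDescent
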