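/-
The reduction of an irreducible character of a `p'`-group: a full matrix representation.
-/
import Cfsg.Agent.Lib.S4643.Step
import Cfsg.Agent.Lib.Blocks.PermTrace
import Cfsg.Agent.Lib.BrauerChar.LocVal
import Cfsg.Agent.Lib.Char.Degree
import Cfsg.Agent.Lib.Blocks.Center

set_option autoImplicit false
set_option maxHeartbeats 1000000
set_option linter.unusedSectionVars false
set_option linter.style.haveILetI false

namespace Cfsg.Agent.S4643Lib

open Cfsg Matrix MonoidAlgebra Cfsg.Agent.Blocks Cfsg.Agent.BrauerPairs Cfsg.Agent.Char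
  Cfsg.Agent.CharX
open scoped ComplexConjugate

universe u

section Complex

variable {G : Type u} [Group G] [Fintype G]

/-- The convolution of an irreducible character with itself. -/
theorem irr_convolution (χ : IrrCharacter G) (g h : G) :
    ∑ j : G, (χ : G → ℂ) (g * j⁻¹) * (χ : G → ℂ) (j * h) =
      (Nat.card G : ℂ) / (χ : G → ℂ) 1 * (χ : G → ℂ) (g * h) := by
  classical
  obtain ⟨f, n, ρ, hρ, rfl⟩ := χ
  haveI := hρ
  have hn : (n : ℂ) ≠ 0 :=
    Nat.cast_ne_zero.2 (by simpa using (finrank_pos_of_irreducible ρ).ne')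
  let A : G → Matrix (Fin n) (Fin n) ℂ := fun x => LinearMap.toMatrix' (ρ x)
  have hA : ∀ x y, A (x * y) = A x * A y := fun x y => by
    simp only [A, map_mul, LinearMap.toMatrix'_mul]
  have htr : ∀ x, ρ.character x = (A x).trace := fun x => by
    rw [Representation.character, LinearMap.trace_eq_matrix_trace ℂ (Pi.basisFun ℂ (Fin n)),
      LinearMap.toMatrix_eq_toMatrix']
  have hA1 : A 1 = 1 := by
    simp only [A, map_one, Module.End.one_eq_id, LinearMap.toMatrix'_id]
  have hT : ∀ T : Matrix (Fin n) (Fin n) ℂ, ∑ j : G, A j * T * A j⁻¹ =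
      ((Nat.card G : ℂ) * T.trace / n) • (1 : Matrix (Fin n) (Fin n) ℂ) := by
    intro T
    set S := ∑ j : G, A j * T * A j⁻¹ with hS
    have hcomm : ∀ x, A x * S = S * A x := by
      intro x
      rw [hS, Finset.mul_sum, Finset.sum_mul]
      refine Fintype.sum_equiv (Equiv.mulLeft x) _ _ fun j => ?_
      rw [Equiv.coe_mulLeft, hA, _root_.mul_inv_rev, hA]
      rw [show A x * A j * T * (A j⁻¹ * A x⁻¹) * A x = A x * A j * T * A j⁻¹ * (A x⁻¹ * A x) by
        simp only [Matrix.mul_assoc], ← hA x⁻¹ x, inv_mul_cancel, hA1, Matrix.mul_one]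
      simp only [Matrix.mul_assoc]
    obtain ⟨c, hc⟩ := schur_scalar ρ (Matrix.toLin' S) fun x v => by
      have h1 := congrArg (fun B => Matrix.toLin' B v) (hcomm x)
      simp only [A, Matrix.toLin'_mul, Matrix.toLin'_toMatrix', LinearMap.comp_apply] at h1
      exact h1.symm
    have hSc : S = c • (1 : Matrix (Fin n) (Fin n) ℂ) := by
      have := congrArg LinearMap.toMatrix' hc
      rwa [LinearMap.toMatrix'_toLin', map_smul, LinearMap.toMatrix'_id] at this
    have h1 : S.trace = (Nat.card G : ℂ) * T.trace := by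
      rw [hS, Matrix.trace_sum, Finset.sum_congr rfl fun j _ => by
        rw [Matrix.trace_mul_comm, ← Matrix.mul_assoc, ← hA, inv_mul_cancel, hA1, Matrix.one_mul],
        Finset.sum_const, Finset.card_univ, Nat.card_eq_fintype_card, nsmul_eq_mul]
    rw [hSc, Matrix.trace_smul, Matrix.trace_one, Fintype.card_fin, smul_eq_mul] at h1
    rw [hSc, ← h1, mul_div_cancel_right₀ _ hn]
  have hent : ∀ r a b s, ∑ j : G, A j r a * A j⁻¹ b s =
      if a = b ∧ r = s then (Nat.card G : ℂ) / n else 0 := by
    intro r a b s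
    have h1 := congrFun (congrFun (hT (Matrix.single a b 1)) r) s
    rw [Matrix.sum_apply] at h1
    rw [Finset.sum_congr rfl fun j _ => show A j r a * A j⁻¹ b s =
      (A j * Matrix.single a b (1 : ℂ) * A j⁻¹ : Matrix (Fin n) (Fin n) ℂ) r s by
        simp [Matrix.mul_apply, Matrix.single_apply, ite_and, Finset.sum_ite_eq]]
    rw [h1]
    by_cases hab : a = b
    · subst hab
      simp [Matrix.trace_single_eq_same, Matrix.one_apply]
    · simp [Matrix.trace_single_eq_of_ne _ _ _ hab, hab]
  show ∑ j : G, ρ.character (g * j⁻¹) * ρ.character (j * h) =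
    (Nat.card G : ℂ) / ρ.character 1 * ρ.character (g * h)
  rw [Representation.char_one, Module.finrank_pi, Fintype.card_fin]
  simp only [htr, hA, Matrix.trace, Matrix.diag_apply, Matrix.mul_apply]
  simp only [Finset.sum_mul, Finset.mul_sum]
  rw [Finset.sum_comm]
  refine Finset.sum_congr rfl fun s _ => ?_
  rw [Finset.sum_comm]
  refine Finset.sum_congr rfl fun b _ => ?_
  rw [Finset.sum_comm, Finset.sum_eq_single s]
  · rw [Finset.sum_comm, Finset.sum_eq_single b]
    · rw [Finset.sum_congr rfl fun j _ => show A g s b * A j⁻¹ b s * (A j s b * A h b s) =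
        A g s b * A h b s * (A j s b * A j⁻¹ b s) by ring, ← Finset.mul_sum, hent,
        if_pos ⟨rfl, rfl⟩]
      ring
    · intro a _ ha
      rw [Finset.sum_congr rfl fun j _ => show A g s a * A j⁻¹ a s * (A j s b * A h b s) =
        A g s a * A h b s * (A j s b * A j⁻¹ a s) by ring, ← Finset.mul_sum, hent,
        if_neg fun hh => ha hh.1.symm, mul_zero]
    · simp
  · intro r _ hr
    rw [Finset.sum_comm, Finset.sum_eq_zero]
    intro a _
    rw [Finset.sum_congr rfl fun j _ => show A g r a * A j⁻¹ a r * (A j s b * A h b s) =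
      A g r a * A h b s * (A j s b * A j⁻¹ a r) by ring, ← Finset.mul_sum, hent,
      if_neg fun hh => hr hh.2.symm, mul_zero]
  · simp

/-- A central element acts by a root of unity. -/
theorem exists_central_root (χ : IrrCharacter G) {z : G} (hz : z ∈ Subgroup.center G) :
    ∃ ω : ℂ, ω ^ orderOf z = 1 ∧ (χ : G → ℂ) z = ω * (χ : G → ℂ) 1 := by
  obtain ⟨f, n, ρ, hρ, rfl⟩ := χ
  haveI := hρ
  obtain ⟨c, hc⟩ := schur_scalar ρ (ρ z) fun g x => by
    rw [← Module.End.mul_apply, ← map_mul, ← Module.End.mul_apply, ← map_mul,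
      (Subgroup.mem_center_iff.1 hz g).symm]
  refine ⟨c, ?_, ?_⟩
  · have hn : 0 < n := by simpa using finrank_pos_of_irreducible ρ
    refine algebraMap_end_injective hn ?_
    rw [map_pow, map_one, Algebra.algebraMap_eq_smul_one, Module.End.one_eq_id, ← hc, ← map_pow,
      pow_orderOf_eq_one, map_one, Module.End.one_eq_id]
  · show ρ.character z = c * ρ.character 1
    simp only [Representation.character, hc, map_one, Module.End.one_eq_id, map_smul, smul_eq_mul]

end Complex

variable {X : Type u} [Group X] [Fintype X] {M : Ideal AlgInt} [M.IsPrime] {p : ℕ}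

/-- A value of a character in the local ring. -/
noncomputable def valR (M : Ideal AlgInt) [M.IsPrime] (C : Subgroup X) (θ : IrrCharacter C)
    (g : C) : locRing M :=
  ⟨(θ : C → ℂ) g, mem_locRing_of_isIntegral (irr_isIntegral θ g)⟩

open Classical in
/-- The idempotent of a character. -/
noncomputable def eRed (M : Ideal AlgInt) [M.IsPrime] (C : Subgroup X) (θ : IrrCharacter C) :
    MonoidAlgebra (resField M) X :=
  gaOfFun fun g => if h : g ∈ C then
    res M (valR M C θ 1) / (Nat.card C : resField M) * res M (valR M C θ ⟨g⁻¹, inv_mem h⟩) else 0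

theorem coeff_eRed (C : Subgroup X) (θ : IrrCharacter C) (g : C) :
    (eRed M C θ).coeff (g : X) =
      res M (valR M C θ 1) / (Nat.card C : resField M) * res M (valR M C θ g⁻¹) := by
  classical
  rw [eRed, coeff_gaOfFun, dif_pos g.2]
  rfl

theorem supp_eRed (C : Subgroup X) (θ : IrrCharacter C) : Supp C (eRed M C θ) := fun g hg => by
  classical
  rw [eRed, coeff_gaOfFun, dif_neg hg]

theorem sum_eq_sum_subgroup {A : Type*} [AddCommMonoid A] (C : Subgroup X) [Fintype C] (F : X → A)
    (hF : ∀ g, g ∉ C → F g = 0) : ∑ g, F g = ∑ g : C, F g := by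
  classical
  rw [← Finset.sum_subset (Finset.subset_univ (Finset.univ.map ⟨Subtype.val, Subtype.val_injective⟩))
    fun g _ hg => hF g fun h => hg (Finset.mem_map.2 ⟨⟨g, h⟩, Finset.mem_univ _, rfl⟩),
    Finset.sum_map]
  rfl

/-- The reduction. -/
theorem good_red (hM : IsPModular p M) (C : Subgroup X) [Fintype C] (hC : ¬ p ∣ Nat.card C)
    (θ : IrrCharacter C) {d : ℕ} (m : C →* Matrix (Fin d) (Fin d) (locRing M))
    (hm : ∀ g, ((m g).trace : ℂ) = (θ : C → ℂ) g)
    (f : X → Matrix (Fin d) (Fin d) (resField M)) (hf : ∀ g : C, f g = (m g).map (res M)) :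
    Good p C f (eRed M C θ) ∧ (d : ℂ) = (θ : C → ℂ) 1 ∧
      ∀ g : C, (f g).trace = res M (valR M C θ g) := by
  classical
  haveI := resField_charP hM
  have hd : (d : ℂ) = (θ : C → ℂ) 1 := by rw [← hm 1, map_one, Matrix.trace_one]; simp
  have hval1 : valR M C θ 1 = (d : locRing M) := Subtype.ext (by simp [valR, hd])
  have hdp : ¬ p ∣ d := by
    intro h
    have h1 : charDegree (θ : C → ℂ) = d := by
      have := irr_one_eq_charDegree θ
      rw [← hd] at this
      exact_mod_cast this.symm
    exact hC (h.trans (h1 ▸ irr_deg_dvd_card θ))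
  have hcard : (Nat.card C : resField M) ≠ 0 := fun h => hC ((CharP.cast_eq_zero_iff _ p _).1 h)
  have hdk : (d : resField M) ≠ 0 := fun h => hdp ((CharP.cast_eq_zero_iff _ p _).1 h)
  have htr : ∀ g : C, (f g).trace = res M (valR M C θ g) := fun g => by
    have h1 : valR M C θ g = (m g).trace := Subtype.ext (hm g).symm
    rw [hf, h1, Matrix.trace, Matrix.trace, map_sum]
    rfl
  have hmul : ∀ a ∈ C, ∀ b ∈ C, f (a * b) = f a * f b := fun a ha b hb => by
    rw [show a * b = ((⟨a, ha⟩ * ⟨b, hb⟩ : C) : X) from rfl, hf, hf ⟨a, ha⟩, hf ⟨b, hb⟩, map_mul,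
      Matrix.map_mul]
  have hone : f 1 = 1 := by
    rw [show (1 : X) = ((1 : C) : X) from rfl, hf, map_one, Matrix.map_one _ (map_zero _) (map_one _)]
  set c : resField M := (d : resField M) / (Nat.card C : resField M) with hc
  have hec : ∀ g : C, (eRed M C θ).coeff (g : X) = c * (f (g : X)⁻¹).trace := fun g => by
    rw [coeff_eRed, hval1, map_natCast, ← htr]
    rfl
  -- the convolution
  have hconv : ∀ g h : C, c * ∑ j : C, res M (valR M C θ (g * j⁻¹)) * res M (valR M C θ (j * h)) =
      res M (valR M C θ (g * h)) := by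
    intro g h
    have h1 : (d : locRing M) * ∑ j : C, valR M C θ (g * j⁻¹) * valR M C θ (j * h) =
        (Nat.card C : locRing M) * valR M C θ (g * h) := by
      refine Subtype.ext ?_
      simp only [Subring.coe_mul, SubringClass.coe_natCast, AddSubmonoidClass.coe_finsetSum, valR]
      rw [irr_convolution θ g h, ← hd]
      have : (d : ℂ) ≠ 0 := by rw [hd]; exact irr_one_ne_zero θ
      field_simp
    have h2 := congrArg (res M) h1
    simp only [map_mul, map_natCast, map_sum] at h2
    rw [hc, div_mul_eq_mul_div, h2, mul_div_cancel_left₀ _ hcard]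
  -- surjectivity
  let cR : ℂ := (d : ℂ) / (Nat.card C : ℂ)
  have hcR : MemLocalRing M cR := by
    show MemLocalRing M ((d : ℂ) / (Nat.card C : ℂ))
    rw [div_eq_mul_inv]
    exact (locRing M).mul_mem (natCast_mem _ d) (inv_natCast_memLocalRing hM hC)
  let P : Matrix C C (locRing M) := Matrix.of fun g h => ⟨cR, hcR⟩ * valR M C θ (g * h⁻¹)
  have hP : P * P = P := by
    ext g h
    simp only [Matrix.mul_apply, P, Matrix.of_apply, AddSubmonoidClass.coe_finsetSum, Subring.coe_mul,
      valR]
    rw [Finset.sum_congr rfl fun j _ => show cR * (θ : C → ℂ) (g * j⁻¹) * (cR * (θ : C → ℂ) (j * h⁻¹)) =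
      cR * cR * ((θ : C → ℂ) (g * j⁻¹) * (θ : C → ℂ) (j * h⁻¹)) by ring, ← Finset.mul_sum,
      irr_convolution θ g h⁻¹, ← hd]
    have h1 : (d : ℂ) ≠ 0 := by rw [hd]; exact irr_one_ne_zero θ
    have h2 : (Nat.card C : ℂ) ≠ 0 := Nat.cast_ne_zero.2 Nat.card_pos.ne'
    simp only [cR]
    field_simp
  have hrank : (P.map (res M)).rank = d * d := by
    have h1 := trace_idem_eq_rank_res hP
    have h2 : ((P.trace : locRing M) : ℂ) = (d : ℂ) * d := by
      simp only [Matrix.trace, Matrix.diag_apply, P, Matrix.of_apply, mul_inv_cancel,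
        AddSubmonoidClass.coe_finsetSum, Subring.coe_mul, valR, ← hd, Finset.sum_const,
        Finset.card_univ, nsmul_eq_mul, ← Nat.card_eq_fintype_card, cR]
      have h2 : (Nat.card C : ℂ) ≠ 0 := Nat.cast_ne_zero.2 Nat.card_pos.ne'
      field_simp
    rw [h2] at h1
    exact_mod_cast h1.symm
  let F : C → (Fin d × Fin d → resField M) := fun g rs => f (g : X) rs.1 rs.2
  have hspan : Submodule.span (resField M) (Set.range F) = ⊤ := by
    refine Submodule.eq_top_of_finrank_eq ?_
    let A : Matrix C (Fin d × Fin d) (resField M) := Matrix.of F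
    let B : Matrix (Fin d × Fin d) C (resField M) :=
      Matrix.of fun rs h => res M ⟨cR, hcR⟩ * f ((h⁻¹ : C) : X) rs.2 rs.1
    have hAB : P.map (res M) = A * B := by
      ext g h
      simp only [Matrix.map_apply, P, Matrix.of_apply, map_mul, ← htr, Matrix.mul_apply, A, B, F,
        Fintype.sum_prod_type]
      rw [Subgroup.coe_mul, hmul _ g.2 _ (h⁻¹).2, Matrix.trace, Finset.mul_sum]
      refine Finset.sum_congr rfl fun r _ => ?_
      rw [Matrix.diag_apply, Matrix.mul_apply, Finset.mul_sum]
      exact Finset.sum_congr rfl fun s _ => by ring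
    have h1 : d * d ≤ A.rank := by rw [← hrank, hAB]; exact Matrix.rank_mul_le_left A B
    have h2 : A.rank = Module.finrank (resField M) (Submodule.span (resField M) (Set.range F)) :=
      A.rank_eq_finrank_span_row
    have h3 := A.rank_le_card_width
    rw [Fintype.card_prod, Fintype.card_fin] at h3
    rw [Module.finrank_pi, Fintype.card_prod, Fintype.card_fin, ← h2]
    omega
  have hsurj : ∀ T : Matrix (Fin d) (Fin d) (resField M), ∃ y : MonoidAlgebra (resField M) X,
      Supp C y ∧ linf f y = T := by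
    intro T
    have hmem : (fun rs : Fin d × Fin d => T rs.1 rs.2) ∈ Submodule.span (resField M) (Set.range F) :=
      hspan ▸ Submodule.mem_top
    obtain ⟨a, ha⟩ := (Submodule.mem_span_range_iff_exists_fun (resField M)).1 hmem
    refine ⟨gaOfFun fun g => if h : g ∈ C then a ⟨g, h⟩ else 0,
      fun g hg => by simp [coeff_gaOfFun, hg], ?_⟩
    rw [linf_apply, sum_eq_sum_subgroup C _ fun g hg => by simp [coeff_gaOfFun, hg]]
    refine Matrix.ext fun r s => ?_
    have h1 := congrFun ha (r, s)
    simp only [Finset.sum_apply, Pi.smul_apply, F] at h1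
    rw [← h1, Matrix.sum_apply]
    exact Finset.sum_congr rfl fun g _ => by simp [coeff_gaOfFun]
  -- the trace form
  have htrlinf : ∀ (a : X) (y : MonoidAlgebra (resField M) X), (f a * linf f y).trace = ∑ g, y.coeff g • (f a * f g).trace := by
    intro a y
    simp [linf_apply, Finset.mul_sum, Matrix.trace_sum]
  have heq : ∀ y : MonoidAlgebra (resField M) X, Supp C y → ∀ g : C,
      (y * eRed M C θ).coeff (g : X) = c * (f ((g⁻¹ : C) : X) * linf f y).trace := by
    intro y hy g
    rw [coeff_mul_univ, htrlinf, Finset.mul_sum]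
    refine Finset.sum_congr rfl fun a _ => ?_
    by_cases ha : a ∈ C
    · rw [show a⁻¹ * (g : X) = ((⟨a, ha⟩⁻¹ * g : C) : X) from rfl, hec]
      simp only [Subgroup.coe_mul, InvMemClass.coe_inv, _root_.mul_inv_rev, inv_inv, smul_eq_mul]
      rw [hmul _ (inv_mem g.2) _ ha]
      ring
    · rw [hy a ha, zero_mul, zero_smul, mul_zero]
  have hinj : ∀ y : MonoidAlgebra (resField M) X, Supp C y → linf f y = 0 → y * eRed M C θ = 0 := by
    intro y hy h0
    refine gaExt fun g => ?_
    by_cases hg : g ∈ C
    · rw [heq y hy ⟨g, hg⟩, h0, mul_zero, Matrix.trace_zero, mul_zero]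
      simp
    · rw [supp_mul hy (supp_eRed C θ) g hg]
      simp
  have hcentral : ∀ y : MonoidAlgebra (resField M) X, Supp C y → eRed M C θ * y = y * eRed M C θ := by
    intro y hy
    refine gaExt fun g => ?_
    by_cases hg : g ∈ C
    · rw [heq y hy ⟨g, hg⟩, coeff_mul_univ, htrlinf, Finset.mul_sum]
      refine Fintype.sum_equiv ((Equiv.inv X).trans (Equiv.mulRight g)) _ _ fun a => ?_
      simp only [Equiv.trans_apply, Equiv.inv_apply, Equiv.coe_mulRight]
      by_cases ha : a ∈ C
      · rw [show a = ((⟨a, ha⟩ : C) : X) from rfl, hec]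
        simp only [InvMemClass.coe_inv, smul_eq_mul]
        rw [Matrix.trace_mul_comm, ← hmul _ (mul_mem (inv_mem ha) hg) _ (inv_mem hg),
          mul_inv_cancel_right]
        ring
      · have h1 : a⁻¹ * g ∉ C := fun h => ha (by
          have := mul_mem hg (inv_mem h)
          simpa using this)
        rw [supp_eRed C θ a ha, hy _ h1, zero_mul, zero_smul, mul_zero]
    · rw [supp_mul (supp_eRed C θ) hy g hg, supp_mul hy (supp_eRed C θ) g hg]
  have he1 : linf f (eRed M C θ) = 1 := by
    set Z := linf f (eRed M C θ) - 1 with hZ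
    have h1 : ∀ a : C, (f (a : X) * Z).trace = 0 := by
      intro a
      rw [hZ, Matrix.mul_sub, Matrix.mul_one, Matrix.trace_sub, htrlinf,
        sum_eq_sum_subgroup C _ fun g hg => by rw [supp_eRed C θ g hg, zero_smul], sub_eq_zero]
      rw [Finset.sum_congr rfl fun (g : C) _ => show (eRed M C θ).coeff (g : X) •
          (f (a : X) * f (g : X)).trace =
          c * (res M (valR M C θ (a * g)) * res M (valR M C θ (g⁻¹ * 1))) by
        rw [hec, ← hmul _ a.2 _ g.2, ← Subgroup.coe_mul, ← InvMemClass.coe_inv, htr, htr, mul_one,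
          smul_eq_mul]
        ring, ← Finset.mul_sum]
      have := hconv a 1
      rw [mul_one, ← htr] at this
      rw [← this]
      congr 1
      exact Fintype.sum_equiv (Equiv.inv C) _ _ fun g => by simp [mul_one]
    have h2 : ∀ T : Matrix (Fin d) (Fin d) (resField M), (T * Z).trace = 0 := by
      intro T
      obtain ⟨y, hy, rfl⟩ := hsurj T
      rw [linf_apply, Finset.sum_mul, Matrix.trace_sum, Finset.sum_eq_zero]
      intro g _
      by_cases hg : g ∈ C
      · rw [smul_mul_assoc, Matrix.trace_smul, h1 ⟨g, hg⟩, smul_zero]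
      · rw [hy g hg, zero_smul, zero_mul, Matrix.trace_zero]
    have h3 : Z = 0 := Matrix.ext fun r s => by
      have := h2 (Matrix.single s r 1)
      rwa [Matrix.trace_single_mul, one_smul] at this
    rwa [hZ, sub_eq_zero] at h3
  exact ⟨{ mul := hmul, one := hone, supp := supp_eRed C θ, central := hcentral, e_one := he1,
           surj := hsurj, inj := hinj, dim := by rwa [Fintype.card_fin] }, hd, htr⟩

/-- Comparison of two full representations. -/
theorem Good.compare [hp : Fact p.Prime] {k : Type} [Field k] [CharP k p] {C : Subgroup X} {d w : ℕ}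
    {f : X → Matrix (Fin d) (Fin d) k} {e : MonoidAlgebra k X} (hG : Good p C f e)
    {τ : X → Matrix (Fin w) (Fin w) k} (hτ : ∀ a ∈ C, ∀ b ∈ C, τ (a * b) = τ a * τ b)
    (hτ1 : τ 1 = 1) (hsurj : ∀ T, ∃ y : MonoidAlgebra k X, Supp C y ∧ linf τ y = T) (hw : ¬ p ∣ w)
    (hne : linf τ e ≠ 0) :
    d = w ∧ (∀ g ∈ C, (τ g).trace = (f g).trace) ∧
      ∀ y : MonoidAlgebra k X, Supp C y → ∀ c : k, linf f y = c • (1 : Matrix (Fin d) (Fin d) k) →
        linf τ y = c • (1 : Matrix (Fin w) (Fin w) k) := by
  classical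
  have hee : e * e = e := hG.idem
  set J := linf τ e with hJ
  have hJc : ∀ T, J * T = T * J := fun T => by
    obtain ⟨y, hy, rfl⟩ := hsurj T
    rw [← linf_mul hτ hG.supp hy, ← linf_mul hτ hy hG.supp, hG.central y hy]
  have hJJ : J * J = J := by rw [← linf_mul hτ hG.supp hG.supp, hee]
  obtain ⟨i₀⟩ : Nonempty (Fin w) := ⟨⟨0, Nat.pos_of_ne_zero fun h => hw (by simp [h])⟩⟩
  obtain ⟨t, ht⟩ : J ∈ Set.range (Matrix.scalar (Fin w)) :=
    Matrix.mem_range_scalar_of_commute_single fun i j _ => (hJc _).symm
  have ht1 : t = 1 := by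
    haveI : Nonempty (Fin w) := ⟨i₀⟩
    rw [← ht, ← map_mul] at hJJ
    rcases eq_or_ne t 0 with h0 | h0
    · exact absurd (by rw [← ht, h0, map_zero]) hne
    · exact (mul_eq_left₀ h0).1 (Matrix.scalar_inj.1 hJJ)
  have hJ1 : J = 1 := by rw [← ht, ht1, map_one]
  have hker : ∀ y : MonoidAlgebra k X, Supp C y → linf f y = 0 → linf τ y = 0 := fun y hy h0 => by
    have h1 := linf_mul hτ hy hG.supp
    rw [hG.inj y hy h0, map_zero, ← hJ, hJ1, mul_one] at h1
    exact h1.symm
  choose y hys hyT using hG.surj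
  let Φ : Matrix (Fin d) (Fin d) k → Matrix (Fin w) (Fin w) k := fun T => linf τ (y T)
  have hΦ : ∀ z : MonoidAlgebra k X, Supp C z → Φ (linf f z) = linf τ z := fun z hz => by
    have h1 := hker (y (linf f z) - z) (supp_sub (hys _) hz) (by rw [map_sub, hyT, sub_self])
    rwa [map_sub, sub_eq_zero] at h1
  have hΦmul : ∀ T T', Φ (T * T') = Φ T * Φ T' := fun T T' => by
    rw [← linf_mul hτ (hys T) (hys T'), ← hΦ _ (supp_mul (hys T) (hys T')),
      linf_mul hG.mul (hys T) (hys T'), hyT, hyT]
  let Φl : Matrix (Fin d) (Fin d) k →ₗ[k] Matrix (Fin w) (Fin w) k :=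
    { toFun := Φ
      map_add' := fun T T' => by
        rw [← map_add, ← hΦ (y T + y T') (fun g hg => by simp [hys T g hg, hys T' g hg]), map_add,
          hyT, hyT]
      map_smul' := fun c T => by
        rw [RingHom.id_apply, ← map_smul, ← hΦ (c • y T) (fun g hg => by simp [hys T g hg]),
          map_smul, hyT] }
  have hΦ1 : Φ 1 = 1 := by
    rw [← hG.e_one, hΦ _ hG.supp, ← hJ, hJ1]
  have hΦsurj : Function.Surjective Φl := fun T => by
    obtain ⟨z, hz, rfl⟩ := hsurj T
    exact ⟨linf f z, hΦ z hz⟩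
  have hΦinj : Function.Injective Φl := by
    refine (injective_iff_map_eq_zero Φl).2 fun T hT => ?_
    by_contra hne0
    obtain ⟨r, s, hrs⟩ : ∃ r s, T r s ≠ 0 := by
      by_contra hh
      push Not at hh
      exact hne0 (Matrix.ext hh)
    have h1 : ∀ i, Φ (Matrix.single i i 1) = 0 := fun i => by
      have e : Matrix.single i i (1 : k) =
          ((T r s)⁻¹ • Matrix.single i r (1 : k)) * (T * Matrix.single s i 1) := by
        ext a b
        simp [Matrix.mul_apply, Matrix.single_apply, ite_and]
        by_cases h : i = a <;> by_cases h' : i = b <;> simp [h, h', hrs]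
      rw [e, hΦmul, hΦmul, show Φ T = 0 from hT, zero_mul, mul_zero]
    have h2 : Φl 1 = 0 := by
      rw [show (1 : Matrix (Fin d) (Fin d) k) = ∑ i, Matrix.single i i 1 by
        ext a b; simp [Matrix.sum_apply, Matrix.single_apply, Matrix.one_apply, ite_and, eq_comm],
        map_sum]
      exact Finset.sum_eq_zero fun i _ => h1 i
    have h3 := congrFun (congrFun (hΦ1.symm.trans h2) i₀) i₀
    simp at h3
  have hdw : d = w := by
    have := (LinearEquiv.ofBijective Φl ⟨hΦinj, hΦsurj⟩).finrank_eq
    simp only [Module.finrank_matrix, Fintype.card_fin, Module.finrank_self, mul_one] at this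
    nlinarith
  refine ⟨hdw, fun g hg => ?_, fun z hz c hc => ?_⟩
  · have hd0 : 0 < d := hdw ▸ i₀.pos
    let j₀ : Fin d := ⟨0, hd0⟩
    have hsw : ∀ A B, (Φ (A * B)).trace = (Φ (B * A)).trace := fun A B => by
      rw [hΦmul, hΦmul, Matrix.trace_mul_comm]
    have hoff : ∀ i j (a : k), i ≠ j → (Φ (Matrix.single i j a)).trace = 0 := fun i j a hij => by
      have := hsw (Matrix.single i i 1) (Matrix.single i j a)
      rw [Matrix.single_mul_single_same, one_mul, Matrix.single_mul_single_of_ne _ _ _ _ hij.symm,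
        show Φ 0 = 0 from map_zero Φl, Matrix.trace_zero] at this
      exact this
    set l := (Φ (Matrix.single j₀ j₀ 1)).trace with hl
    have hdiag : ∀ i, (Φ (Matrix.single i i 1)).trace = l := fun i => by
      have := hsw (Matrix.single i j₀ 1) (Matrix.single j₀ i 1)
      rwa [Matrix.single_mul_single_same, Matrix.single_mul_single_same, one_mul] at this
    have hall : ∀ T, (Φ T).trace = l * T.trace := by
      intro T
      have e : (Φl T).trace = ∑ i, ∑ j, (Φl (Matrix.single i j (T i j))).trace := by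
        conv_lhs => rw [Matrix.matrix_eq_sum_single T]
        simp only [map_sum, Matrix.trace_sum]
      show (Φl T).trace = _
      rw [e, Matrix.trace, Finset.mul_sum]
      refine Finset.sum_congr rfl fun i _ => ?_
      rw [Finset.sum_eq_single i]
      · rw [show Matrix.single i i (T i i) = T i i • Matrix.single i i 1 by
          rw [Matrix.smul_single, smul_eq_mul, mul_one], map_smul, Matrix.trace_smul,
          show (Φl (Matrix.single i i 1)).trace = l from hdiag i, smul_eq_mul, Matrix.diag_apply, mul_comm]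
      · exact fun j _ hj => hoff i j _ hj.symm
      · simp
    have hl1 : l = 1 := by
      have := hall 1
      rw [hΦ1, Matrix.trace_one, Matrix.trace_one, Fintype.card_fin, Fintype.card_fin, hdw] at this
      have hwk : (w : k) ≠ 0 := fun h => hw ((CharP.cast_eq_zero_iff k p w).1 h)
      exact (mul_eq_right₀ hwk).1 this.symm
    have hs : Supp C (MonoidAlgebra.single g (1 : k)) := fun a ha => by
      have : g ≠ a := fun h => ha (h ▸ hg)
      simp [Finsupp.single_apply, this]
    have h1 := hΦ _ hs
    rw [linf_single, linf_single, one_smul, one_smul] at h1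
    rw [← h1, hall, hl1, one_mul]
  · have h1 := hΦ z hz
    rw [hc] at h1
    rw [← h1, show Φ (c • 1) = c • Φ 1 from map_smul Φl c 1, hΦ1]

end Cfsg.Agent.S4643Lib
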