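/-
Fixed elements vanishing on the centraliser act as zero on the quotient of the kernel of the
generic combination.
-/
import Cfsg.Agent.Lib.S4643.Generic
import Mathlib.Data.Nat.Prime.Int

set_option autoImplicit false
set_option linter.unusedSectionVars false
set_option linter.style.haveILetI false

namespace Cfsg.Agent.S4643Lib

open Matrix MonoidAlgebra Cfsg.Agent.Blocks Cfsg.Agent.BrauerPairs

variable {X : Type*} [Group X] [Fintype X] {k : Type} [Field k] {p : ℕ} [hp : Fact p.Prime]
  [CharP k p] {d : ℕ}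

/-! Class sums, without assuming split centres. -/

theorem coeff_classSumIn_pos' {N : Subgroup X} {t x : X} (h : ∃ n ∈ N, n * t * n⁻¹ = x) :
    (classSumIn k N t).coeff x = 1 := by
  rw [classSumIn, coeff_gaOfFun, Set.indicator_of_mem (by exact h), Pi.one_apply]

theorem coeff_classSumIn_neg' {N : Subgroup X} {t x : X} (h : ¬ ∃ n ∈ N, n * t * n⁻¹ = x) :
    (classSumIn k N t).coeff x = 0 := by
  rw [classSumIn, coeff_gaOfFun, Set.indicator_of_notMem (by exact h)]

theorem isInvElt_classSumIn' (N : Subgroup X) (t : X) : IsInvElt N (classSumIn k N t) := by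
  intro u hu x
  by_cases h : ∃ n ∈ N, n * t * n⁻¹ = x
  · obtain ⟨n, hn, rfl⟩ := h
    rw [coeff_classSumIn_pos' ⟨n, hn, rfl⟩, coeff_classSumIn_pos' ⟨u * n, mul_mem hu hn, by group⟩]
  · rw [coeff_classSumIn_neg' h, coeff_classSumIn_neg']
    rintro ⟨n, hn, hnx⟩
    refine h ⟨u⁻¹ * n, mul_mem (inv_mem hu) hn, ?_⟩
    calc u⁻¹ * n * t * (u⁻¹ * n)⁻¹ = u⁻¹ * (n * t * n⁻¹) * u := by group
      _ = x := by rw [hnx]; group

/-- Peeling off the classes in the support of an `N`-invariant element. -/
theorem invElt_induction' {N : Subgroup X} {Q : MonoidAlgebra k X → Prop} (h0 : Q 0)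
    (hstep : ∀ (y : MonoidAlgebra k X) (t : X), IsInvElt N y → y.coeff t ≠ 0 →
      (∀ x, (y - y.coeff t • classSumIn k N t).coeff x ≠ 0 → y.coeff x ≠ 0) →
      Q (y - y.coeff t • classSumIn k N t) → Q y) :
    ∀ y, IsInvElt N y → Q y := by
  classical
  suffices h : ∀ (n : ℕ) (y : MonoidAlgebra k X), IsInvElt N y →
      (Finset.univ.filter fun x => y.coeff x ≠ 0).card ≤ n → Q y from
    fun y hy => h _ y hy le_rfl
  intro n
  induction n with
  | zero =>
    intro y _ hc
    convert h0
    refine gaExt fun x => ?_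
    by_contra hx
    have hne : (Finset.univ.filter fun x => y.coeff x ≠ 0).Nonempty := ⟨x, by simpa using hx⟩
    have := Finset.card_pos.2 hne
    omega
  | succ n ih =>
    intro y hy hc
    by_cases hzero : y = 0
    · exact hzero ▸ h0
    obtain ⟨t, ht⟩ : ∃ t, y.coeff t ≠ 0 := by
      by_contra hh
      push Not at hh
      exact hzero (gaExt fun x => by simp [hh x])
    have hval : ∀ x, (∃ n ∈ N, n * t * n⁻¹ = x) → y.coeff x = y.coeff t := by
      rintro _ ⟨m, hm, rfl⟩
      exact hy m hm t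
    have hsub : ∀ x, (y - y.coeff t • classSumIn k N t).coeff x ≠ 0 → y.coeff x ≠ 0 := by
      intro x hx h
      apply hx
      by_cases hh : ∃ n ∈ N, n * t * n⁻¹ = x
      · simp [coeff_classSumIn_pos' hh, h, ← hval x hh]
      · simp [coeff_classSumIn_neg' hh, h]
    refine hstep y t hy ht hsub (ih _ (fun u hu x => ?_) ?_)
    · simp [hy u hu x, isInvElt_classSumIn' N t u hu x]
    · have hlt : (Finset.univ.filter fun x => (y - y.coeff t • classSumIn k N t).coeff x ≠ 0).card <
          (Finset.univ.filter fun x => y.coeff x ≠ 0).card := by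
        refine Finset.card_lt_card ((Finset.ssubset_iff_of_subset fun x hx => ?_).2
          ⟨t, Finset.mem_filter.2 ⟨Finset.mem_univ _, ht⟩, ?_⟩)
        · simp only [Finset.mem_filter, Finset.mem_univ, true_and] at hx ⊢
          exact hsub x hx
        · have h1 : (classSumIn k N t).coeff t = 1 :=
            coeff_classSumIn_pos' ⟨1, N.one_mem, by group⟩
          intro hmem
          exact (Finset.mem_filter.1 hmem).2 (by simp [h1])
      omega

theorem isInvElt_iff_cj' {P : Subgroup X} {y : MonoidAlgebra k X} :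
    IsInvElt P y ↔ ∀ u ∈ P, cj u y = y := by
  refine ⟨fun h u hu => gaExt fun g => ?_, fun h u hu g => ?_⟩
  · rw [coeff_cj']
    simpa using h _ (inv_mem hu) g
  · conv_lhs => rw [← h u hu, coeff_cj']
    group

/-- The data of a stage: a full representation of `K`, multiplicative on `D`, and a commuting
family `E` of elements of order `p` in their action. -/
structure Family (p : ℕ) (K D : Subgroup X) (f : X → Matrix (Fin d) (Fin d) k) (E : Finset X) :
    Prop where
  le : K ≤ D
  mem : ∀ x ∈ E, x ∈ D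
  mul : ∀ a ∈ D, ∀ b ∈ D, f (a * b) = f a * f b
  one : f 1 = 1
  norm : ∀ h ∈ D, ∀ g, g ∈ K ↔ h * g * h⁻¹ ∈ K
  pgroup : ∀ x ∈ E, IsPGroup p (Subgroup.zpowers x)
  powK : ∀ x ∈ E, ∀ g ∈ K, x ^ p * g = g * x ^ p
  pow : ∀ x ∈ E, f x ^ p = 1
  comm : ∀ x ∈ E, ∀ y ∈ E, x * y = y * x

variable {K D : Subgroup X} {f : X → Matrix (Fin d) (Fin d) k} {E : Finset X}

theorem Family.inv_left (h : Family p K D f E) {a : X} (ha : a ∈ D) : f a * f a⁻¹ = 1 := by
  rw [← h.mul a ha a⁻¹ (inv_mem ha), mul_inv_cancel, h.one]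

theorem Family.conj (h : Family p K D f E) {a g : X} (ha : a ∈ D) (hg : g ∈ D) :
    f a * f g = f (a * g * a⁻¹) * f a := by
  rw [← h.mul a ha g hg, ← h.mul _ (mul_mem (mul_mem ha hg) (inv_mem ha)) a ha,
    inv_mul_cancel_right]

theorem Family.linf_cj (h : Family p K D f E) {a : X} (ha : a ∈ D) {y : MonoidAlgebra k X}
    (hy : Supp K y) : linf f (cj a y) = f a * linf f y * f a⁻¹ :=
  S4643Lib.linf_cj (h.inv_left ha) (fun g hg => h.conj ha (h.le hg)) hy

/-- The polynomials in as many variables as `E` has elements. -/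
abbrev PolyE (k : Type) [Field k] (E : Finset X) : Type := MvPolynomial (Fin E.card) k

/-- The rational functions. -/
abbrev FracE (k : Type) [Field k] (E : Finset X) : Type := FractionRing (PolyE k E)

/-- The variable of an element. -/
noncomputable def varE (k : Type) [Field k] (E : Finset X) (i : E) : PolyE k E :=
  MvPolynomial.X (E.equivFin i)

/-- From the polynomials indexed by `E` to the rational functions. -/
noncomputable def iotaE (k : Type) [Field k] (E : Finset X) : MvPolynomial E k →+* FracE k E :=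
  (algebraMap (PolyE k E) (FracE k E)).comp (MvPolynomial.rename E.equivFin).toRingHom

theorem iotaE_injective (E : Finset X) : Function.Injective (iotaE k E) := by
  rw [iotaE, RingHom.coe_comp]
  exact (IsFractionRing.injective (PolyE k E) (FracE k E)).comp
    (MvPolynomial.rename_injective _ E.equivFin.injective)

/-- The combination at the generic point. -/
noncomputable def genF (f : X → Matrix (Fin d) (Fin d) k) (E : Finset X) :
    Matrix (Fin d) (Fin d) (FracE k E) :=
  (genericA E f).map (iotaE k E)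

/-- The constants. -/
noncomputable def kap (k : Type) [Field k] (E : Finset X) : k →+* FracE k E :=
  (algebraMap (PolyE k E) (FracE k E)).comp MvPolynomial.C

theorem iotaE_X (E : Finset X) (i : E) :
    iotaE k E (MvPolynomial.X i) = algebraMap (PolyE k E) (FracE k E) (varE k E i) := by
  simp [iotaE, varE]

theorem iotaE_C (E : Finset X) (c : k) : iotaE k E (MvPolynomial.C c) = kap k E c := by
  simp [iotaE, kap]

theorem kap_injective (E : Finset X) : Function.Injective (kap k E) := by
  rw [kap, RingHom.coe_comp]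
  exact (IsFractionRing.injective (PolyE k E) (FracE k E)).comp
    (MvPolynomial.C_injective (Fin E.card) k)

theorem genF_eq (f : X → Matrix (Fin d) (Fin d) k) (E : Finset X) :
    genF f E = ∑ x : E, algebraMap (PolyE k E) (FracE k E) (varE k E x) •
      ((f x).map (kap k E) - 1) := by
  rw [genF, genericA, ← RingHom.mapMatrix_apply, map_sum]
  refine Finset.sum_congr rfl fun x _ => ?_
  ext i j
  simp only [RingHom.mapMatrix_apply, Matrix.map_apply, Matrix.smul_apply, Matrix.sub_apply,
    smul_eq_mul, map_mul, map_sub, one_apply, apply_ite (iotaE k E), map_one,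
    map_zero, iotaE_X, iotaE_C]

theorem symSum_map {F : Type} [Field F] (ψ : k →+* F) (a z : Matrix (Fin d) (Fin d) k) :
    (symSum p a z).map ψ = symSum p (a.map ψ) (z.map ψ) := by
  simp only [symSum, ← RingHom.mapMatrix_apply, map_sum, map_mul, map_pow]

/-- Fixed elements vanishing on the centraliser send the kernel into the image. -/
theorem orbit_range (hd : d ≠ 0) (h : Family p K D f E) :
    ∀ z : MonoidAlgebra k X, Supp K z → (∀ x ∈ E, cj x z = z) →
      (∀ g, g ∈ Subgroup.centralizer (E : Set X) → z.coeff g = 0) →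
      ∀ v, genF f E *ᵥ v = 0 →
        ∃ w, (linf f z).map (kap k E) *ᵥ v = (genF f E ^ (p - 1)) *ᵥ w := by
  classical
  haveI : NeZero d := ⟨hd⟩
  set F := FracE k E with hF
  haveI : CharP F p := charP_of_injective_ringHom (kap_injective E) p
  set N := Subgroup.closure (E : Set X) with hN
  have hND : N ≤ D := (Subgroup.closure_le D).2 fun x hx => h.mem x hx
  have hNc : ∀ a ∈ N, ∀ b ∈ N, a * b = b * a := by
    have h1 : N ≤ Subgroup.centralizer (E : Set X) := (Subgroup.closure_le _).2 fun x hx =>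
      Subgroup.mem_centralizer_iff.2 fun y hy => h.comm y hy x hx
    intro a ha b hb
    have h2 : a ∈ Subgroup.centralizer (N : Set X) := by
      rw [hN, Subgroup.centralizer_closure]; exact h1 ha
    exact (Subgroup.mem_centralizer_iff.1 h2 b hb).symm
  letI : CommGroup N :=
    { (inferInstance : Group N) with mul_comm := fun a b => Subtype.ext (hNc a a.2 b b.2) }
  intro z hz hfix
  have hinvN : IsInvElt N z := by
    intro a ha
    induction ha using Subgroup.closure_induction with
    | mem x hx =>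
      intro g
      conv_lhs => rw [← hfix x hx, coeff_cj']
      group
    | one => simp
    | mul a b _ _ iha ihb =>
      intro g
      rw [show a * b * g * (a * b)⁻¹ = a * (b * g * b⁻¹) * a⁻¹ by group, iha, ihb]
    | inv a _ iha =>
      intro g
      rw [← iha (a⁻¹ * g * a⁻¹⁻¹)]
      group
  revert hz hfix
  suffices H : ∀ z : MonoidAlgebra k X, IsInvElt N z → Supp K z →
      (∀ g, g ∈ Subgroup.centralizer (E : Set X) → z.coeff g = 0) →
      ∀ v, genF f E *ᵥ v = 0 →
        ∃ w, (linf f z).map (kap k E) *ᵥ v = (genF f E ^ (p - 1)) *ᵥ w from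
    fun hz _ => H z hinvN hz
  refine fun z hz => invElt_induction' (N := N) (Q := fun z => Supp K z →
    (∀ g, g ∈ Subgroup.centralizer (E : Set X) → z.coeff g = 0) →
    ∀ v, genF f E *ᵥ v = 0 →
      ∃ w, (linf f z).map (kap k E) *ᵥ v = (genF f E ^ (p - 1)) *ᵥ w) ?_ ?_ z hz
  · intro _ _ v _
    exact ⟨0, by simp⟩
  intro y t hy ht hsub ih hyK hy0 v hv
  obtain ⟨w₁, hw₁⟩ := ih (fun g hg => by by_contra hne; exact hsub g hne (hyK g hg))
    (fun g hg => by by_contra hne; exact hsub g hne (hy0 g hg)) v hv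
  have htK : t ∈ K := by by_contra hne; exact ht (hyK t hne)
  obtain ⟨x, hxE, hxt⟩ : ∃ x ∈ E, x * t ≠ t * x := by
    by_contra hc
    push Not at hc
    exact ht (hy0 t (Subgroup.mem_centralizer_iff.2 hc))
  let x' : N := ⟨x, Subgroup.subset_closure hxE⟩
  -- powers `p` centralise `K`
  have hpN : ∀ a ∈ N, ∀ g ∈ K, a ^ p * g = g * a ^ p := by
    intro a ha
    induction ha using Subgroup.closure_induction with
    | mem x hx => exact h.powK x hx
    | one => simp
    | mul a b ha hb iha ihb =>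
      intro g hg
      rw [(show Commute a b from hNc a ha b hb).mul_pow, mul_assoc, ihb g hg, ← mul_assoc, iha g hg,
        mul_assoc]
    | inv a _ iha =>
      intro g hg
      rw [inv_pow]
      exact (show Commute (a ^ p) g from iha g hg).inv_left.eq
  let st : Subgroup N := (Subgroup.centralizer ({t} : Set X)).subgroupOf N
  have hst : ∀ {a : N}, a ∈ st ↔ (a : X) * t = t * a := fun {a} => by
    simp only [st, Subgroup.mem_subgroupOf, Subgroup.mem_centralizer_singleton_iff]
  let Ok : Set (Subgroup N) := {R | st ≤ R ∧ x' ∉ R}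
  haveI : Finite (Subgroup N) := Finite.of_injective (fun H => (H : Set N)) SetLike.coe_injective
  obtain ⟨R, ⟨hstR, hxR⟩, hmax⟩ := (Set.toFinite Ok).exists_maximal
    ⟨st, le_rfl, fun hh => hxt (hst.1 hh)⟩
  have hpR : ∀ a : N, a ^ p ∈ R := fun a => hstR (hst.2 (by
    simpa using hpN a a.2 t htK))
  have hcover : ∀ a : N, ∃ r ∈ R, ∃ n < p, a = r * x' ^ n := by
    intro a
    by_cases haR : a ∈ R
    · exact ⟨a, haR, 0, hp.out.pos, by simp⟩
    have hbig : x' ∈ R ⊔ Subgroup.zpowers a := by
      by_contra hh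
      exact haR ((hmax ⟨hstR.trans le_sup_left, hh⟩ le_sup_left)
        (Subgroup.mem_sup_right (Subgroup.mem_zpowers a)))
    obtain ⟨r, hr, b, hb, hrb⟩ := Subgroup.mem_sup.1 hbig
    obtain ⟨i, rfl⟩ := Subgroup.mem_zpowers_iff.1 hb
    have hi : ¬ (p : ℤ) ∣ i := fun ⟨c, hc⟩ => hxR (by
      rw [← hrb, hc, _root_.zpow_mul, zpow_natCast]
      exact mul_mem hr (zpow_mem (hpR a) c))
    obtain ⟨α, β, hab⟩ : ∃ α β : ℤ, α * i + β * (p : ℤ) = 1 :=
      ((Prime.coprime_iff_not_dvd (Nat.prime_iff_prime_int.1 hp.out)).2 hi).symm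
    refine ⟨a * (x' ^ (α % p).toNat)⁻¹, ?_, (α % p).toNat, ?_, by rw [inv_mul_cancel_right]⟩
    · have ha1 : a = x' ^ α * (r ^ α)⁻¹ * (a ^ p) ^ β := by
        rw [← hrb, mul_zpow, mul_comm (r ^ α), mul_assoc _ (r ^ α), mul_inv_cancel, mul_one,
          ← _root_.zpow_mul, ← zpow_natCast a p, ← _root_.zpow_mul, ← zpow_add, mul_comm i α,
          mul_comm (p : ℤ) β, hab, zpow_one]
      have hmod : x' ^ α = x' ^ (α % p).toNat * (x' ^ p) ^ (α / p) := by
        conv_lhs => rw [← Int.emod_add_mul_ediv α p]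
        rw [zpow_add, _root_.zpow_mul, zpow_natCast, ← zpow_natCast x' (α % p).toNat,
          Int.toNat_of_nonneg (Int.emod_nonneg _ (by exact_mod_cast hp.out.ne_zero))]
      conv => arg 2; arg 1; rw [ha1, hmod]
      rw [show x' ^ (α % ↑p).toNat * (x' ^ p) ^ (α / ↑p) * (r ^ α)⁻¹ * (a ^ p) ^ β *
        (x' ^ (α % ↑p).toNat)⁻¹ = (x' ^ p) ^ (α / ↑p) * (r ^ α)⁻¹ * (a ^ p) ^ β by
          rw [mul_assoc (x' ^ (α % ↑p).toNat), mul_assoc (x' ^ (α % ↑p).toNat), mul_comm,
            inv_mul_cancel_left]]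
      exact mul_mem (mul_mem (zpow_mem (hpR x') _) (inv_mem (zpow_mem hr _))) (zpow_mem (hpR a) _)
    · have := Int.emod_lt_of_pos α (show (0 : ℤ) < p by exact_mod_cast hp.out.pos)
      have := Int.emod_nonneg α (show (p : ℤ) ≠ 0 by exact_mod_cast hp.out.ne_zero)
      omega
  have hdiff : ∀ l < p, ∀ l' < p, ∀ r ∈ R, ∀ r' ∈ R, r * x' ^ l = r' * x' ^ l' → l = l' := by
    intro l hl l' hl' r hr r' hr' he
    by_contra hne
    have h1 : x' ^ ((l : ℤ) - l') ∈ R := by
      have e : x' ^ ((l : ℤ) - l') = r⁻¹ * r' := by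
        rw [zpow_sub, zpow_natCast, zpow_natCast, eq_inv_mul_iff_mul_eq, ← mul_assoc, he,
          mul_inv_cancel_right]
      exact e ▸ mul_mem (inv_mem hr) hr'
    have h2 : x' ^ ((p : ℤ)) ∈ R := by rw [zpow_natCast]; exact hpR x'
    have hi : ¬ (p : ℤ) ∣ ((l : ℤ) - l') := fun hd' => by
      have := Int.natAbs_dvd_natAbs.2 hd'
      have := Nat.le_of_dvd (by omega) this
      omega
    obtain ⟨α, β, hab⟩ : ∃ α β : ℤ, α * ((l : ℤ) - l') + β * (p : ℤ) = 1 :=
      ((Prime.coprime_iff_not_dvd (Nat.prime_iff_prime_int.1 hp.out)).2 hi).symm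
    exact hxR (by
      have h3 := mul_mem (zpow_mem h1 α) (zpow_mem h2 β)
      rwa [← _root_.zpow_mul, ← _root_.zpow_mul, ← zpow_add, mul_comm _ α, mul_comm (p : ℤ) β, hab,
        zpow_one] at h3)
  -- the orbit
  set RX := R.map N.subtype with hRX
  set T0 := classSumIn k RX t with hT0
  have hRXN : RX ≤ N := Subgroup.map_subtype_le R
  have hcoe : ∀ (r : N) (l : ℕ), ((r * x' ^ l : N) : X) = (r : X) * x ^ l := fun r l => by simp [x']
  have hT0K : Supp K T0 := fun g hg => coeff_classSumIn_neg' fun ⟨r, hr, he⟩ =>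
    hg (he ▸ (h.norm r (hND (hRXN hr)) t).1 htK)
  have horbit : classSumIn k N t = ∑ l ∈ Finset.range p, cj (x ^ l) T0 := by
    refine gaExt fun g => ?_
    simp only [MonoidAlgebra.coeff_sum, Finset.sum_apply', coeff_cj']
    by_cases hg : ∃ a ∈ N, a * t * a⁻¹ = g
    · rw [coeff_classSumIn_pos' hg]
      obtain ⟨a, ha, rfl⟩ := hg
      obtain ⟨r, hr, n, hn, har⟩ := hcover ⟨a, ha⟩
      have har' : a = (r : X) * x ^ n := by rw [← hcoe, ← har]
      rw [Finset.sum_eq_single n]
      · rw [hT0, coeff_classSumIn_pos' ⟨(r : X), Subgroup.mem_map_of_mem N.subtype hr, ?_⟩]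
        rw [har', hNc r r.2 (x ^ n) (pow_mem (Subgroup.subset_closure hxE) n)]
        group
      · intro l hl hne
        rw [hT0, coeff_classSumIn_neg']
        rintro ⟨_, ⟨r', hr', rfl⟩, he⟩
        refine hne (hdiff n hn l (Finset.mem_range.1 hl) r hr
          ((r * x' ^ n) * (r' * x' ^ l)⁻¹ * r') ?_ ?_).symm
        · refine mul_mem (hstR (hst.2 ?_)) hr'
          have hb : ((r' * x' ^ l : N) : X) * t * ((r' * x' ^ l : N) : X)⁻¹ =
              ((r * x' ^ n : N) : X) * t * ((r * x' ^ n : N) : X)⁻¹ := by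
            rw [hcoe r n, ← har', hcoe, hNc r' r'.2 (x ^ l) (pow_mem (Subgroup.subset_closure hxE) l)]
            have := congrArg (fun y => x ^ l * y * (x ^ l)⁻¹) he
            simp only [N.coe_subtype] at this
            rw [show x ^ l * ((x ^ l)⁻¹ * (a * t * a⁻¹) * x ^ l) * (x ^ l)⁻¹ = a * t * a⁻¹ by group]
              at this
            rw [← this]; group
          rw [mul_comm (r * x' ^ n), Subgroup.coe_mul, Subgroup.coe_inv]
          generalize ((r * x' ^ n : N) : X) = A at hb ⊢
          generalize ((r' * x' ^ l : N) : X) = B at hb ⊢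
          calc B⁻¹ * A * t = B⁻¹ * (A * t * A⁻¹) * A := by group
            _ = B⁻¹ * (B * t * B⁻¹) * A := by rw [hb]
            _ = t * (B⁻¹ * A) := by group
        · rw [mul_assoc (r * x' ^ n * (r' * x' ^ l)⁻¹), inv_mul_cancel_right]
      · intro hh; exact absurd (Finset.mem_range.2 hn) hh
    · rw [coeff_classSumIn_neg' hg, Finset.sum_eq_zero]
      intro l _
      rw [hT0, coeff_classSumIn_neg']
      rintro ⟨r', hr', he⟩
      exact hg ⟨x ^ l * r', mul_mem (pow_mem (Subgroup.subset_closure hxE) l) (hRXN hr'), by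
        rw [show x ^ l * r' * t * (x ^ l * r')⁻¹ = x ^ l * (r' * t * r'⁻¹) * (x ^ l)⁻¹ by group, he]
        group⟩
  -- the matrices
  set κ := kap k E with hκ
  let φ : N →* Matrix (Fin d) (Fin d) F :=
    { toFun := fun a => (f a).map κ
      map_one' := by simp [h.one]
      map_mul' := fun a b => by
        rw [Subgroup.coe_mul, h.mul _ (hND a.2) _ (hND b.2), Matrix.map_mul] }
  have hφp : ∀ a : N, φ a ^ p = 1 := by
    rintro ⟨a, ha⟩
    induction ha using Subgroup.closure_induction with
    | mem y hy =>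
      show ((f y).map κ) ^ p = 1
      rw [← RingHom.mapMatrix_apply, ← map_pow, h.pow y hy, map_one]
    | one => rw [show (⟨1, _⟩ : N) = 1 from rfl, map_one, one_pow]
    | mul a b ha hb iha ihb =>
      rw [show (⟨a * b, _⟩ : N) = ⟨a, ha⟩ * ⟨b, hb⟩ from rfl, map_mul,
        ((Commute.all (⟨a, ha⟩ : N) ⟨b, hb⟩).map φ).mul_pow, iha, ihb, one_mul]
    | inv a ha iha =>
      have h1 : φ (⟨a, ha⟩ : N)⁻¹ ^ p * φ (⟨a, ha⟩ : N) ^ p = 1 := by
        rw [← ((Commute.all (⟨a, ha⟩ : N)⁻¹ ⟨a, ha⟩).map φ).mul_pow, ← map_mul, inv_mul_cancel,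
          map_one, one_pow]
      rw [iha, mul_one] at h1
      exact h1
  choose r hr n hn hrn using fun i : E => hcover ⟨i, Subgroup.subset_closure i.2⟩
  have hlam : (∑ i : E, algebraMap (PolyE k E) F (varE k E i) * (n i : F)) ≠ 0 := by
    have e : (∑ i : E, algebraMap (PolyE k E) F (varE k E i) * (n i : F)) =
        algebraMap (PolyE k E) F (∑ i : E, varE k E i * (n i : PolyE k E)) := by
      rw [map_sum]
      exact Finset.sum_congr rfl fun i _ => by rw [map_mul, map_natCast]
    rw [e, map_ne_zero_iff _ (IsFractionRing.injective (PolyE k E) F)]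
    intro h0
    have h1 := congrArg (MvPolynomial.eval fun j : Fin E.card =>
      if (E.equivFin.symm j : X) = x then (1 : k) else 0) h0
    simp only [map_sum, map_mul, varE, MvPolynomial.eval_X, map_natCast, map_zero,
      Equiv.symm_apply_apply] at h1
    rw [Finset.sum_eq_single (⟨x, hxE⟩ : E), if_pos rfl, one_mul] at h1
    · have hn1 : n ⟨x, hxE⟩ = 1 := hdiff _ (hn _) 1 hp.out.one_lt _ (hr _) 1 (one_mem R)
        (by rw [← hrn, pow_one, one_mul])
      rw [hn1, Nat.cast_one] at h1
      exact one_ne_zero h1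
    · intro b _ hb
      rw [if_neg (fun hh => hb (Subtype.ext hh)), zero_mul]
    · simp
  have hTc : ∀ i, φ (r i) * (linf f T0).map κ = (linf f T0).map κ * φ (r i) := by
    intro i
    have hc : cj (r i : X) T0 = T0 :=
      (isInvElt_iff_cj'.1 (isInvElt_classSumIn' RX t)) _ ⟨r i, hr i, rfl⟩
    have h2 := h.linf_cj (hND (r i).2) hT0K
    rw [hc] at h2
    show (f (r i : X)).map κ * _ = _ * (f (r i : X)).map κ
    rw [← Matrix.map_mul, ← Matrix.map_mul]
    conv_rhs => rw [h2, mul_assoc, ← h.mul _ (inv_mem (hND (r i).2)) _ (hND (r i).2),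
      inv_mul_cancel, h.one, mul_one]
  have hA : genF f E = ∑ i : E, algebraMap (PolyE k E) F (varE k E i) •
      (φ ⟨i, Subgroup.subset_closure i.2⟩ - 1) := genF_eq f E
  obtain ⟨w₂, hw₂⟩ := symSum_mem_range φ hφp (fun i : E => ⟨i, Subgroup.subset_closure i.2⟩) r n x'
    hrn _ hlam _ hTc v (by rw [← hA]; exact hv)
  rw [← hA] at hw₂
  have hlin : (linf f (classSumIn k N t)).map κ =
      symSum p (φ x' - 1) ((linf f T0).map κ) * φ x' := by
    have hu : f x ^ p = 1 := h.pow x hxE
    have hu' : f x * f x ^ (p - 1) = 1 := by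
      rw [← pow_succ', Nat.sub_add_cancel hp.out.one_le, hu]
    have hu'' : f x ^ (p - 1) * f x = 1 := by
      rw [← pow_succ, Nat.sub_add_cancel hp.out.one_le, hu]
    have hinv : f x⁻¹ = f x ^ (p - 1) := (left_inv_eq_right_inv hu'' (h.inv_left (h.mem x hxE))).symm
    have hpl : ∀ l : ℕ, f (x ^ l) = f x ^ l ∧ f (x ^ l)⁻¹ = (f x ^ (p - 1)) ^ l := by
      intro l
      induction l with
      | zero => simp [h.one]
      | succ l ihl =>
        refine ⟨?_, ?_⟩
        · rw [pow_succ, h.mul _ (pow_mem (h.mem x hxE) l) _ (h.mem x hxE), ihl.1, pow_succ]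
        · rw [pow_succ', _root_.mul_inv_rev, h.mul _ (inv_mem (pow_mem (h.mem x hxE) l)) _
            (inv_mem (h.mem x hxE)), ihl.2, hinv, ← pow_succ]
    rw [horbit, map_sum, Finset.sum_congr rfl fun l _ => by
      rw [h.linf_cj (pow_mem (h.mem x hxE) l) hT0K, (hpl l).1, (hpl l).2],
      conj_sum k hu' hu'' hu, Matrix.map_mul, symSum_map]
    rw [Matrix.map_sub _ (map_sub κ), Matrix.map_one _ (map_zero κ) (map_one κ)]
    rfl
  have hsplit : (linf f y).map κ = (linf f (y - y.coeff t • classSumIn k N t)).map κ +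
      κ (y.coeff t) • (linf f (classSumIn k N t)).map κ := by
    ext i j
    simp
  refine ⟨w₁ + κ (y.coeff t) • w₂, ?_⟩
  rw [hsplit, Matrix.add_mulVec, Matrix.smul_mulVec, hlin, hw₂, hw₁, Matrix.mulVec_add,
    Matrix.mulVec_smul]

end Cfsg.Agent.S4643Lib
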