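/-
One stage: the quotient of the kernel of the generic combination by the image of its power `p - 1`
is a twisted representation of the stabiliser of the family, which untwists.
-/
import Cfsg.Agent.Lib.S4643.Orbit
import Cfsg.Agent.Lib.S4643.Frac
import Mathlib.RingTheory.MvPolynomial.Basic
import Mathlib.Algebra.MvPolynomial.Nilpotent
import Mathlib.RingTheory.Polynomial.UniqueFactorization
import Mathlib.RingTheory.Localization.FractionRing
import Mathlib.Data.Matrix.Basis
import Mathlib.LinearAlgebra.FiniteDimensional.Lemmas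

set_option autoImplicit false
set_option maxHeartbeats 1000000
set_option linter.unusedSectionVars false
set_option linter.style.haveILetI false

namespace Cfsg.Agent.S4643Lib

open Matrix MonoidAlgebra Cfsg.Agent.Blocks Cfsg.Agent.BrauerPairs

variable {X : Type*} [Group X] [Fintype X] {k : Type} [Field k] {p : ℕ} [hp : Fact p.Prime]
  [CharP k p] {d : ℕ} {K D : Subgroup X} {f : X → Matrix (Fin d) (Fin d) k} {E : Finset X}

/-- An element normalising `K` and intertwining the representation fixes its idempotent. -/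
theorem Family.cj_e (h : Family p K D f E) {e : MonoidAlgebra k X} (hG : Good p K f e) {a : X}
    (ha : a ∈ D) : cj a e = e := by
  have key : ∀ b ∈ D, cj b e * e = e := by
    intro b hb
    have hs : Supp K (cj b e) := supp_cj (h.norm b hb) hG.supp
    have h2 := hG.inj (cj b e - 1) (supp_sub hs (supp_one K))
      (by rw [map_sub, h.linf_cj hb hG.supp, hG.e_one, linf_one hG.one, mul_one, h.inv_left hb,
        sub_self])
    rwa [sub_mul, one_mul, sub_eq_zero] at h2
  have h1 := congrArg (cj a) (key a⁻¹ (inv_mem ha))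
  rw [map_mul, show cj a (cj a⁻¹ e) = e from gaExt fun g => by simp [coeff_cj', mul_assoc]] at h1
  rw [← h1, hG.central _ (supp_cj (h.norm a ha) hG.supp), key a ha]

theorem Family.genF_pow (h : Family p K D f E) (hd : d ≠ 0) : genF f E ^ p = 0 := by
  classical
  haveI : Nonempty (Fin d) := ⟨⟨0, Nat.pos_of_ne_zero hd⟩⟩
  haveI : CharP (FracE k E) p := charP_of_injective_ringHom (kap_injective E) p
  haveI : CharP (Matrix (Fin d) (Fin d) (FracE k E)) p :=
    charP_of_injective_ringHom (algebraMap (FracE k E) (Matrix (Fin d) (Fin d) (FracE k E))).injective p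
  rw [genF_eq]
  set c : E → Matrix (Fin d) (Fin d) (FracE k E) := fun x =>
    algebraMap (PolyE k E) (FracE k E) (varE k E x) • ((f x).map (kap k E) - 1) with hc
  have hcomm : ∀ x y : E, Commute (c x) (c y) := by
    intro x y
    refine ((Commute.sub_left ?_ (Commute.one_left _)).smul_left _).smul_right _
    refine Commute.sub_right ?_ (Commute.one_right _)
    show (f x).map (kap k E) * (f y).map (kap k E) = (f y).map (kap k E) * (f x).map (kap k E)
    rw [← Matrix.map_mul, ← Matrix.map_mul, ← h.mul _ (h.mem x x.2) _ (h.mem y y.2),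
      ← h.mul _ (h.mem y y.2) _ (h.mem x x.2), h.comm x x.2 y y.2]
  have hzero : ∀ x : E, c x ^ p = 0 := by
    intro x
    simp only [hc]
    rw [_root_.smul_pow, sub_pow_char_of_commute p (Commute.one_right _), one_pow,
      ← RingHom.mapMatrix_apply, ← map_pow (kap k E).mapMatrix, h.pow x x.2, map_one, sub_self,
      smul_zero]
  suffices H : ∀ s : Finset E, (∑ x ∈ s, c x) ^ p = 0 from H Finset.univ
  intro s
  induction s using Finset.induction_on with
  | empty => rw [Finset.sum_empty, zero_pow hp.out.ne_zero]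
  | insert x s hx ih =>
    rw [Finset.sum_insert hx, add_pow_char_of_commute p (Commute.sum_right _ _ _ fun y _ => hcomm x y),
      hzero, ih, add_zero]

/-- A matrix with vanishing power `p` in a dimension prime to `p` has a kernel vector outside
the image of its power `p - 1`. -/
theorem exists_ker_not_range {F : Type*} [Field F] {d : ℕ} {a : Matrix (Fin d) (Fin d) F}
    (ha : a ^ p = 0) (hd : ¬ p ∣ d) :
    ∃ v, a *ᵥ v = 0 ∧ ¬ ∃ u, (a ^ (p - 1)) *ᵥ u = v := by
  classical
  by_contra hcon
  push Not at hcon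
  obtain ⟨n, m, Q, Q', hm, hQ, hQ', hS⟩ := exists_shift_form a ⟨p, ha⟩
  have hQa : ∀ j : ℕ, Q * a ^ j = shiftM F m ^ j * Q := by
    intro j
    induction j with
    | zero => simp
    | succ j ih =>
      rw [pow_succ, pow_succ, ← Matrix.mul_assoc, ih, ← hS]
      simp only [Matrix.mul_assoc, hQ', Matrix.mul_one]
  have hSp : shiftM F m ^ p = 0 := by
    have h := congrArg (fun T => T * Q') (hQa p)
    simpa [ha, Matrix.mul_assoc, hQ] using h.symm
  have hall : ∀ i, m i = p := by
    intro i
    refine le_antisymm ?_ ?_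
    · by_contra hlt
      push Not at hlt
      have := congrFun (congrFun hSp ⟨i, ⟨p, hlt⟩⟩) ⟨i, ⟨0, hm i⟩⟩
      rw [shiftM_pow, if_pos ⟨rfl, by simp⟩] at this
      exact one_ne_zero this
    · set b : Σ i, Fin (m i) := ⟨i, ⟨m i - 1, Nat.sub_lt (hm i) one_pos⟩⟩ with hb
      have hSb : shiftM F m *ᵥ Pi.single b (1 : F) = 0 := by
        funext r
        rw [Matrix.mulVec_single, Pi.zero_apply]
        simp only [shiftM, Pi.smul_apply, Matrix.col_apply, op_smul_eq_smul, smul_eq_mul, one_mul]
        rw [if_neg]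
        rintro ⟨h1, h2⟩
        have hr : (r.2 : ℕ) < m r.1 := r.2.2
        have e : m r.1 = m i := congrArg m h1
        have hb2 : (b.2 : ℕ) = m i - 1 := rfl
        omega
      have hav : a *ᵥ (Q' *ᵥ Pi.single b (1 : F)) = 0 := by
        have h := congrArg (fun T => Q' * T) (hQa 1)
        rw [pow_one, pow_one, ← Matrix.mul_assoc, hQ', Matrix.one_mul] at h
        rw [h, Matrix.mulVec_mulVec, Matrix.mul_assoc, Matrix.mul_assoc, hQ, Matrix.mul_one,
          ← Matrix.mulVec_mulVec, hSb, Matrix.mulVec_zero]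
      obtain ⟨u, hu⟩ := hcon _ hav
      have h := congrArg (fun v => Q *ᵥ v) hu
      simp only [Matrix.mulVec_mulVec, hQa, hQ, Matrix.one_mulVec] at h
      rw [← Matrix.mulVec_mulVec] at h
      have hb1 := congrFun h b
      rw [Pi.single_eq_same] at hb1
      by_contra hlt
      push Not at hlt
      rw [Matrix.mulVec, dotProduct, Finset.sum_eq_zero] at hb1
      · exact zero_ne_one hb1
      · intro c _
        rw [shiftM_pow, if_neg, zero_mul]
        rintro ⟨-, h2⟩
        have hb2 : (b.2 : ℕ) = m i - 1 := rfl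
        have := hm i
        have := hp.out.two_le
        omega
  have hcard : Fintype.card (Σ i, Fin (m i)) = d := by
    have h1 := rank_mul_le_left Q Q'
    have h2 := rank_mul_le_left Q' Q
    rw [hQ, rank_one] at h1
    rw [hQ', rank_one, Fintype.card_fin] at h2
    have h3 := rank_le_card_height Q'
    have h4 := rank_le_card_width Q
    simp only [Fintype.card_fin] at h3 h4
    have h5 := rank_le_card_width Q'
    omega
  exact hd (Dvd.intro_left n (by simpa [Fintype.card_sigma, hall] using hcard))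

/-- A frame of the quotient. -/
theorem exists_frame (h : Family p K D f E) {e : MonoidAlgebra k X} (hG : Good p K f e) :
    ∃ (w : ℕ) (f' : X → Matrix (Fin w) (Fin w) k) (b : Fin w → (Fin d → FracE k E)),
      Good p (K ⊓ Subgroup.centralizer (E : Set X)) f'
        (trS (Subgroup.centralizer (E : Set X) : Set X) e) ∧
      (∀ j, genF f E *ᵥ b j = 0) ∧
      (∀ v, genF f E *ᵥ v = 0 →
        ∃ c : Fin w → FracE k E, ∃ u, v - ∑ i, c i • b i = (genF f E ^ (p - 1)) *ᵥ u) ∧
      (∀ c : Fin w → FracE k E, (∃ u, ∑ i, c i • b i = (genF f E ^ (p - 1)) *ᵥ u) → c = 0) ∧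
      ∀ y : MonoidAlgebra k X, Supp (K ⊓ Subgroup.centralizer (E : Set X)) y → ∀ j,
        ∃ u, (linf f y).map (kap k E) *ᵥ b j -
          ∑ i, kap k E (linf f' y i j) • b i = (genF f E ^ (p - 1)) *ᵥ u := by
  classical
  set F := FracE k E with hF
  set κ := kap k E with hκ
  set a := genF f E with ha
  have hd : d ≠ 0 := fun h0 => hG.dim (by simp [h0])
  obtain ⟨w, f', hG', hle⟩ := exists_generic E f hG
    (fun x hx => ⟨h.pgroup x hx, h.norm x (h.mem x hx), h.powK x hx, h.pow x hx,
      fun g hg => h.conj (h.mem x hx) (h.le hg)⟩)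
    (fun x hx y hy => ⟨h.comm x hx y hy, by
      rw [← h.mul _ (h.mem x hx) _ (h.mem y hy), ← h.mul _ (h.mem y hy) _ (h.mem x hx),
        h.comm x hx y hy]⟩) (iotaE k E) (iotaE_injective E)
  change d ≤ a.rank + (a ^ (p - 1)).rank + w at hle
  haveI : CharP F p := charP_of_injective_ringHom (kap_injective E) p
  have hap : a ^ p = 0 := h.genF_pow hd
  set C := K ⊓ Subgroup.centralizer (E : Set X) with hC
  set e' := trS (Subgroup.centralizer (E : Set X) : Set X) e with he'
  let N : Submodule F (Fin d → F) := LinearMap.ker a.mulVecLin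
  let R' : Submodule F (Fin d → F) := LinearMap.range (a ^ (p - 1)).mulVecLin
  have hR : ∀ {v}, v ∈ R' ↔ ∃ u, (a ^ (p - 1)) *ᵥ u = v := fun {v} => Iff.rfl
  have hN : ∀ {v}, v ∈ N ↔ a *ᵥ v = 0 := fun {v} => Iff.rfl
  have hRN : R' ≤ N := by
    rintro v ⟨u, rfl⟩
    show a *ᵥ ((a ^ (p - 1)) *ᵥ u) = 0
    rw [Matrix.mulVec_mulVec, ← pow_succ', Nat.sub_add_cancel hp.out.one_le, hap, Matrix.zero_mulVec]
  let op : MonoidAlgebra k X → Matrix (Fin d) (Fin d) F := fun y => (linf f y).map κ
  have hCK : ∀ {y : MonoidAlgebra k X}, Supp C y → Supp K y := fun hy g hg => hy g fun hh => hg hh.1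
  have hmulK : ∀ a ∈ K, ∀ b ∈ K, f (a * b) = f a * f b := fun a ha b hb =>
    h.mul a (h.le ha) b (h.le hb)
  have hopmul : ∀ {y y'}, Supp K y → Supp K y' → op (y * y') = op y * op y' := fun hy hy' => by
    simp only [op, linf_mul hmulK hy hy', Matrix.map_mul]
  have hopC : ∀ {y}, Supp C y → Commute (op y) a := by
    intro y hy
    rw [ha, genF_eq]
    refine Commute.sum_right _ _ _ fun x _ => (Commute.sub_right ?_ (Commute.one_right _)).smul_right _
    show op y * (f x).map κ = (f x).map κ * op y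
    simp only [op, ← Matrix.map_mul]
    congr 1
    rw [linf_apply, Finset.sum_mul, Finset.mul_sum]
    refine Finset.sum_congr rfl fun g _ => ?_
    by_cases hg : g ∈ C
    · rw [smul_mul_assoc, mul_smul_comm, ← h.mul g (h.le hg.1) _ (h.mem x x.2),
        ← h.mul _ (h.mem x x.2) g (h.le hg.1), Subgroup.mem_centralizer_iff.1 hg.2 x x.2]
    · simp [hy g hg]
  have hopN : ∀ {y}, Supp C y → ∀ {v}, v ∈ N → op y *ᵥ v ∈ N := fun hy v hv => by
    rw [hN, Matrix.mulVec_mulVec, ← (hopC hy).eq, ← Matrix.mulVec_mulVec, hN.1 hv, Matrix.mulVec_zero]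
  have hopR : ∀ {y}, Supp C y → ∀ {v}, v ∈ R' → op y *ᵥ v ∈ R' := by
    intro y hy v hv
    obtain ⟨u, rfl⟩ := hR.1 hv
    exact hR.2 ⟨op y *ᵥ u, by
      rw [Matrix.mulVec_mulVec, Matrix.mulVec_mulVec, ((hopC hy).pow_right _).eq]⟩
  -- the unit acts as the identity
  have he1 : ∀ v ∈ N, op e' *ᵥ v - v ∈ R' := by
    intro v hv
    have hz : Supp K (e - e') := supp_sub hG.supp fun g hg => by
      rw [he', coeff_trS, Set.indicator_apply]; split_ifs <;> simp [hG.supp g hg]
    have hfix : ∀ x ∈ E, cj x (e - e') = e - e' := by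
      intro x hx
      rw [map_sub, h.cj_e hG (h.mem x hx)]
      congr 1
      refine gaExt fun g => ?_
      rw [coeff_cj', he', coeff_trS, coeff_trS, Set.indicator_apply, Set.indicator_apply]
      refine if_congr ?_ (by conv_rhs => rw [← h.cj_e hG (h.mem x hx), coeff_cj']) rfl
      have hxc : x ∈ Subgroup.centralizer (E : Set X) :=
        Subgroup.mem_centralizer_iff.2 fun y hy => h.comm y hy x hx
      simp only [SetLike.mem_coe]
      rw [Subgroup.mul_mem_cancel_right _ hxc, Subgroup.mul_mem_cancel_left _ (inv_mem hxc)]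
    obtain ⟨u, hu⟩ := orbit_range hd h (e - e') hz hfix (fun g hg => by
      simp [he', coeff_trS, Set.indicator_of_mem (show g ∈ (Subgroup.centralizer (E : Set X) : Set X) from hg)])
      v (hN.1 hv)
    refine hR.2 ⟨-u, ?_⟩
    rw [Matrix.mulVec_neg, ← hu]
    show -((linf f (e - e')).map κ *ᵥ v) = (linf f e').map κ *ᵥ v - v
    simp only [op, map_sub, hG.e_one, Matrix.map_sub _ (map_sub κ),
      Matrix.map_one _ (map_zero κ) (map_one κ), Matrix.sub_mulVec, Matrix.one_mulVec, neg_sub]
  -- the corner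
  have he's : Supp C e' := supp_trS hG.supp _
  choose y hys hyT using fun T => hG'.surj T
  let z : Matrix (Fin w) (Fin w) k → MonoidAlgebra k X := fun T => y T * e'
  have hzs : ∀ T, Supp C (z T) := fun T => supp_mul (hys T) he's
  have huniq : ∀ {y₀ : MonoidAlgebra k X}, Supp C y₀ → y₀ * e' = z (linf f' y₀) := by
    intro y₀ hy₀
    have := hG'.inj (y₀ - y (linf f' y₀)) (supp_sub hy₀ (hys _))
      (by rw [map_sub, hyT, sub_self])
    rwa [sub_mul, sub_eq_zero] at this
  have hzl : ∀ T, linf f' (z T) = T := fun T => by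
    rw [linf_mul hG'.mul (hys T) he's, hyT, hG'.e_one, mul_one]
  have hze : ∀ T, z T * e' = z T := fun T => by simp only [z, mul_assoc, hG'.idem]
  have hzmul : ∀ T T', z T * z T' = z (T * T') := fun T T' => by
    have h1 := huniq (supp_mul (hzs T) (hzs T'))
    rwa [mul_assoc, hze, linf_mul hG'.mul (hzs T) (hzs T'), hzl, hzl] at h1
  have hzadd : ∀ T T', z (T + T') = z T + z T' := fun T T' => by
    have h1 := huniq (y₀ := z T + z T') (fun g hg => by simp [hzs T g hg, hzs T' g hg])
    rw [map_add, hzl, hzl, add_mul, hze, hze] at h1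
    exact h1.symm
  have hzsmul : ∀ (c : k) T, z (c • T) = c • z T := fun c T => by
    have h1 := huniq (y₀ := c • z T) (fun g hg => by simp [hzs T g hg])
    rw [map_smul, hzl, smul_mul_assoc, hze] at h1
    exact h1.symm
  let zl : Matrix (Fin w) (Fin w) k →ₗ[k] MonoidAlgebra k X :=
    { toFun := z, map_add' := hzadd, map_smul' := hzsmul }
  have hz1 : z 1 = e' := by
    have h1 := huniq he's
    rwa [hG'.e_one, hG'.idem, eq_comm] at h1
  have hopz : ∀ (s : Finset (Fin w)) (c : Fin w → k) (T : Fin w → Matrix (Fin w) (Fin w) k) v,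
      op (z (∑ i ∈ s, c i • T i)) *ᵥ v = ∑ i ∈ s, κ (c i) • (op (z (T i)) *ᵥ v) := by
    intro s c T v
    have e1 : z (∑ i ∈ s, c i • T i) = ∑ i ∈ s, c i • z (T i) := by
      show zl _ = _
      rw [map_sum]
      exact Finset.sum_congr rfl fun i _ => map_smul zl _ _
    simp only [op, e1, map_sum, map_smul, ← RingHom.mapMatrix_apply]
    rw [Matrix.sum_mulVec]
    refine Finset.sum_congr rfl fun i _ => ?_
    rw [← Matrix.smul_mulVec]
    congr 1
    ext r s; simp
  -- a vector
  obtain ⟨x₀, hx₀, hx₀R⟩ : ∃ v ∈ N, v ∉ R' := by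
    obtain ⟨v, hv, hv'⟩ := exists_ker_not_range hap (by simpa using hG.dim)
    exact ⟨v, hN.2 hv, fun hh => hv' (hR.1 hh)⟩
  obtain ⟨i₀, hi₀⟩ : ∃ i₀, op (z (Matrix.single i₀ i₀ 1)) *ᵥ x₀ ∉ R' := by
    by_contra hc
    push Not at hc
    have h1 : op e' *ᵥ x₀ ∈ R' := by
      have hs : (1 : Matrix (Fin w) (Fin w) k) = ∑ i, (1 : k) • Matrix.single i i 1 := by
        ext r s
        simp [Matrix.sum_apply, Matrix.single_apply, Matrix.one_apply, ite_and, eq_comm]
      rw [← hz1, hs, hopz]
      exact Submodule.sum_mem _ fun i _ => Submodule.smul_mem _ _ (hc i)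
    exact hx₀R (by simpa using R'.sub_mem h1 (he1 x₀ hx₀))
  let b : Fin w → (Fin d → F) := fun j => op (z (Matrix.single j i₀ 1)) *ᵥ x₀
  have hbN : ∀ j, b j ∈ N := fun j => hopN (hzs _) hx₀
  have hb0 : b i₀ ∉ R' := hi₀
  have hbact : ∀ T j, op (z T) *ᵥ b j = ∑ i, κ (T i j) • b i := by
    intro T j
    have hT : T * Matrix.single j i₀ 1 = ∑ i, T i j • Matrix.single i i₀ (1 : k) := by
      ext r s
      simp only [Matrix.mul_apply, Matrix.single_apply, Matrix.sum_apply, Matrix.smul_apply,
        smul_eq_mul, mul_ite, mul_one, mul_zero, ite_and]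
      simp
    simp only [b]
    rw [Matrix.mulVec_mulVec, ← hopmul (hCK (hzs T)) (hCK (hzs _)), hzmul, hT, hopz]
  have hindep : ∀ c : Fin w → F, (∑ i, c i • b i) ∈ R' → c = 0 := by
    intro c hc
    funext j
    by_contra hj
    have h1 := hopR (hzs (Matrix.single i₀ j 1)) hc
    rw [Matrix.mulVec_sum] at h1
    simp only [Matrix.mulVec_smul, hbact] at h1
    rw [Finset.sum_eq_single j, Finset.sum_eq_single i₀] at h1
    · simp only [Matrix.single_apply, and_self, if_true, map_one, one_smul] at h1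
      exact hb0 (by
        have h2 := R'.smul_mem (c j)⁻¹ h1
        rwa [inv_smul_smul₀ hj] at h2)
    · intro i _ hi
      simp [Matrix.single_apply, hi.symm]
    · simp
    · intro i _ hi
      simp [Matrix.single_apply, hi.symm]
    · simp
  let S : Submodule F (Fin d → F) := Submodule.span F (Set.range b)
  have hli : LinearIndependent F b := Fintype.linearIndependent_iff.2 fun c hc i => by
    rw [hindep c (by rw [hc]; exact R'.zero_mem), Pi.zero_apply]
  have hdisj : R' ⊓ S = ⊥ := by
    rw [eq_bot_iff]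
    rintro v ⟨hv, hvS⟩
    obtain ⟨c, rfl⟩ := Submodule.mem_span_range_iff_exists_fun F |>.1 hvS
    simp [hindep c hv]
  have hsup : R' ⊔ S = N := by
    refine Submodule.eq_of_le_of_finrank_le (sup_le hRN (Submodule.span_le.2 ?_)) ?_
    · rintro _ ⟨j, rfl⟩; exact hbN j
    · have h1 := Submodule.finrank_sup_add_finrank_inf_eq R' S
      rw [hdisj, finrank_bot, finrank_span_eq_card hli, Fintype.card_fin] at h1
      have h2 : Module.finrank F N + a.rank = d := by
        rw [Matrix.rank, add_comm]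
        exact (LinearMap.finrank_range_add_finrank_ker a.mulVecLin).trans (by simp)
      have h3 : Module.finrank F R' = (a ^ (p - 1)).rank := rfl
      omega
  refine ⟨w, f', b, hG', fun j => hN.1 (hbN j), ?_, ?_, ?_⟩
  · intro v hv
    obtain ⟨r, hr, s, hs, hrs⟩ := Submodule.mem_sup.1 (hsup ▸ hN.2 hv : v ∈ R' ⊔ S)
    obtain ⟨c, rfl⟩ := Submodule.mem_span_range_iff_exists_fun F |>.1 hs
    obtain ⟨u, hu⟩ := hR.1 hr
    exact ⟨c, u, by rw [hu, ← hrs, add_sub_cancel_right]⟩
  · rintro c ⟨u, hu⟩
    exact hindep c (hR.2 ⟨u, hu.symm⟩)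
  · intro y₀ hy₀ j
    have h1 : op (y₀ * e') *ᵥ b j = ∑ i, κ (linf f' y₀ i j) • b i := by rw [huniq hy₀, hbact]
    rw [hopmul (hCK hy₀) (hCK he's), ← Matrix.mulVec_mulVec] at h1
    obtain ⟨u, hu⟩ := hR.1 (R'.neg_mem (hopR hy₀ (he1 (b j) (hbN j))))
    refine ⟨u, ?_⟩
    rw [hu, Matrix.mulVec_sub, h1, neg_sub]

/-- One stage. -/
theorem stage (h : Family p K D f E) {e : MonoidAlgebra k X} (hG : Good p K f e) {Y : Subgroup X}
    (hYD : Y ≤ D) (hYE : ∀ g ∈ Y, ∀ x ∈ E, g * x * g⁻¹ ∈ E) (hEY : ∀ x ∈ E, x ∈ Y)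
    (hCY : K ⊓ Subgroup.centralizer (E : Set X) ≤ Y) :
    ∃ (w : ℕ) (τ : X → Matrix (Fin w) (Fin w) k),
      Good p (K ⊓ Subgroup.centralizer (E : Set X)) τ
        (trS (Subgroup.centralizer (E : Set X) : Set X) e) ∧
      (∀ a ∈ Y, ∀ b ∈ Y, τ (a * b) = τ a * τ b) ∧ (∀ x ∈ E, τ x = 1) ∧
      ∀ z ∈ Y, (∀ x ∈ E, z * x = x * z) → ∀ c : k, f z = c • (1 : Matrix (Fin d) (Fin d) k) →
        τ z = c • (1 : Matrix (Fin w) (Fin w) k) := by
  classical
  set F := FracE k E with hF
  set R := PolyE k E with hR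
  obtain ⟨w, f', b, hG', hbN, hspan, hindep, hact⟩ := exists_frame h hG
  set κ := kap k E with hκ
  set a := genF f E with ha
  set q := p - 1
  set C := K ⊓ Subgroup.centralizer (E : Set X) with hC
  have hw : ¬ p ∣ w := by simpa using hG'.dim
  haveI : Nonempty (Fin w) := ⟨⟨0, Nat.pos_of_ne_zero fun h0 => hw (by simp [h0])⟩⟩
  have hinj : Function.Injective κ := kap_injective E
  -- the action on the variables
  have hYE' : ∀ g ∈ Y, ∀ x ∈ E, g⁻¹ * x * g ∈ E := fun g hg x hx => by
    simpa using hYE g⁻¹ (inv_mem hg) x hx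
  let perm : Y → Equiv.Perm E := fun g =>
    { toFun := fun x => ⟨g * x * (g : X)⁻¹, hYE g g.2 x x.2⟩
      invFun := fun x => ⟨(g : X)⁻¹ * x * g, hYE' g g.2 x x.2⟩
      left_inv := fun x => Subtype.ext (by simp [mul_assoc])
      right_inv := fun x => Subtype.ext (by simp [mul_assoc]) }
  let act : Y → R ≃+* R := fun g =>
    (MvPolynomial.renameEquiv k (E.equivFin.permCongr (perm g))).toRingEquiv
  have hact' : ∀ g r, act g r = MvPolynomial.rename (E.equivFin.permCongr (perm g)) r :=
    fun _ _ => rfl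
  have hactX : ∀ g x, act g (varE k E x) = varE k E (perm g x) := fun g x => by
    rw [hact', varE, MvPolynomial.rename_X, varE]
    simp [Equiv.permCongr_apply]
  have hactC : ∀ g (c : k), act g (MvPolynomial.C c) = MvPolynomial.C c := fun g c => by
    rw [hact', MvPolynomial.rename_C]
  have hact_mul : ∀ g h r, act (g * h) r = act g (act h r) := by
    intro g h r
    rw [hact', hact', hact', MvPolynomial.rename_rename]
    congr 2
    funext i
    have : perm (g * h) = (perm h).trans (perm g) := Equiv.ext fun x => Subtype.ext (by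
      simp [perm, mul_assoc])
    simp [this]
  have hperm1 : ∀ g : Y, (∀ x ∈ E, (g : X) * x = x * g) → ∀ r, act g r = r := by
    intro g hg r
    have : perm g = Equiv.refl E := Equiv.ext fun x => Subtype.ext (by
      simp [perm, hg x x.2])
    rw [hact', this]
    have hid : ((E.equivFin.permCongr (Equiv.refl E) : Equiv.Perm (Fin E.card)) :
        Fin E.card → Fin E.card) = id := funext fun i => by simp [Equiv.permCongr_apply]
    rw [hid, MvPolynomial.rename_id_apply]
  let σ : Y → F ≃+* F := fun g => IsFractionRing.ringEquivOfRingEquiv (act g)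
  have hσalg : ∀ g r, σ g (algebraMap R F r) = algebraMap R F (act g r) := fun g r =>
    IsFractionRing.ringEquivOfRingEquiv_algebraMap _ _
  have hσκ : ∀ g c, σ g (κ c) = κ c := fun g c => by
    show σ g (algebraMap R F (MvPolynomial.C c)) = algebraMap R F (MvPolynomial.C c)
    rw [hσalg, hactC]
  have hσmul : ∀ g h t, σ (g * h) t = σ g (σ h t) := by
    intro g h t
    have e : (σ (g * h) : F →+* F) = (σ g : F →+* F).comp (σ h : F →+* F) :=
      IsLocalization.ringHom_ext (nonZeroDivisors R) (RingHom.ext fun r => by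
        simp [hσalg, hact_mul])
    exact RingHom.congr_fun e t
  have hσone : ∀ g : Y, (∀ x ∈ E, (g : X) * x = x * g) → ∀ t, σ g t = t := by
    intro g hg t
    have e : (σ g : F →+* F) = RingHom.id F :=
      IsLocalization.ringHom_ext (nonZeroDivisors R) (RingHom.ext fun r => by
        simp [hσalg, hperm1 g hg])
    exact RingHom.congr_fun e t
  -- the semilinear action
  have hσf : ∀ (g : Y) (T : Matrix (Fin d) (Fin d) k), (T.map κ).map (σ g) = T.map κ := fun g T =>
    Matrix.ext fun i j => hσκ g _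
  have hint : ∀ g : Y, (f g).map κ * a.map (σ g) = a * (f g).map κ := by
    intro g
    rw [ha, genF_eq]
    rw [show (∑ x : E, algebraMap R F (varE k E x) • ((f x).map κ - 1)).map (σ g) =
      ∑ x : E, algebraMap R F (varE k E (perm g x)) • ((f x).map κ - 1) from by
        show (σ g : F →+* F).mapMatrix _ = _
        rw [map_sum]
        refine Finset.sum_congr rfl fun x _ => ?_
        ext i j
        simp only [RingHom.mapMatrix_apply, Matrix.map_apply, Matrix.smul_apply, Matrix.sub_apply,
          smul_eq_mul, map_mul, map_sub, Matrix.one_apply, RingHom.coe_coe, hσκ, hσalg, hactX]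
        split_ifs <;> simp]
    rw [Finset.mul_sum, Finset.sum_mul]
    refine Fintype.sum_equiv (perm g) _ _ fun x => ?_
    rw [mul_smul_comm, smul_mul_assoc, mul_sub, sub_mul, mul_one, one_mul, ← Matrix.map_mul,
      ← Matrix.map_mul, h.conj (hYD g.2) (h.mem x x.2)]
    rfl
  have hintp : ∀ (g : Y) (n : ℕ), (f g).map κ * (a ^ n).map (σ g) = a ^ n * (f g).map κ := by
    intro g n
    induction n with
    | zero => simp
    | succ n ih =>
      rw [pow_succ, Matrix.map_mul, ← Matrix.mul_assoc, ih, Matrix.mul_assoc, hint, ← Matrix.mul_assoc]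
  let S : Y → (Fin d → F) → (Fin d → F) := fun g v => (f g).map κ *ᵥ (σ g ∘ v)
  have hσvec : ∀ g (T : Matrix (Fin d) (Fin d) F) v, σ g ∘ (T *ᵥ v) = T.map (σ g) *ᵥ (σ g ∘ v) :=
    fun g T v => funext fun i => RingHom.map_mulVec (σ g : F →+* F) T v i
  have hSmul : ∀ g h v, S (g * h) v = S g (S h v) := by
    intro g₁ g₂ v
    simp only [S]
    rw [hσvec, hσf, Matrix.mulVec_mulVec, ← Matrix.map_mul, Subgroup.coe_mul,
      h.mul _ (hYD g₁.2) _ (hYD g₂.2)]
    congr 1
    exact funext fun i => hσmul g₁ g₂ (v i)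
  have hSadd : ∀ g v v', S g (v + v') = S g v + S g v' := fun g v v' => by
    simp only [S]
    rw [← Matrix.mulVec_add]
    congr 1
    exact funext fun i => map_add _ _ _
  have hSsmul : ∀ g (t : F) v, S g (t • v) = σ g t • S g v := fun g t v => by
    simp only [S]
    rw [← Matrix.mulVec_smul]
    congr 1
    exact funext fun i => map_mul _ _ _
  have hSR : ∀ g u, S g ((a ^ q) *ᵥ u) = (a ^ q) *ᵥ (S g u) := fun g u => by
    simp only [S]
    rw [hσvec, Matrix.mulVec_mulVec, hintp, Matrix.mulVec_mulVec]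
  have hSN : ∀ g v, a *ᵥ v = 0 → a *ᵥ S g v = 0 := fun g v hv => by
    simp only [S]
    rw [Matrix.mulVec_mulVec, ← hint g, ← Matrix.mulVec_mulVec, ← hσvec, hv]
    rw [show σ g ∘ (0 : Fin d → F) = 0 from funext fun i => map_zero _, Matrix.mulVec_zero]
  -- coordinates
  let Co : (Fin d → F) → (Fin w → F) → Prop := fun v c =>
    ∃ u, v - ∑ i, c i • b i = (a ^ q) *ᵥ u
  have hCo : ∀ {v c c'}, Co v c → Co v c' → c = c' := by
    rintro v c c' ⟨u, hu⟩ ⟨u', hu'⟩
    refine sub_eq_zero.1 (hindep (c - c') ⟨u' - u, ?_⟩)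
    rw [Matrix.mulVec_sub, ← hu, ← hu']
    simp [sub_smul, Finset.sum_sub_distrib]
  have hex : ∀ (g : Y) (j : Fin w), ∃ c, Co (S g (b j)) c := fun g j => hspan _ (hSN g _ (hbN j))
  choose col hcol using hex
  let M : Y → Matrix (Fin w) (Fin w) F := fun g => Matrix.of fun i j => col g j i
  have hMlin : ∀ g (c : Fin w → F), Co (S g (∑ j, c j • b j)) (M g *ᵥ (σ g ∘ c)) := by
    intro g c
    choose u hu using fun j => hcol g j
    refine ⟨∑ j, σ g (c j) • u j, ?_⟩
    have e1 : S g (∑ j, c j • b j) = ∑ j, σ g (c j) • S g (b j) := by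
      let Sl : (Fin d → F) →+ (Fin d → F) := AddMonoidHom.mk' (S g) (hSadd g)
      show Sl _ = _
      rw [map_sum]
      exact Finset.sum_congr rfl fun j _ => hSsmul g _ _
    have e2 : ∑ i, (M g *ᵥ (σ g ∘ c)) i • b i = ∑ j, σ g (c j) • ∑ i, col g j i • b i := by
      simp only [Matrix.mulVec, dotProduct, M, Matrix.of_apply, Function.comp_apply, Finset.smul_sum,
        Finset.sum_smul, smul_smul]
      rw [Finset.sum_comm]
      refine Finset.sum_congr rfl fun j _ => ?_
      first
        | exact Finset.sum_congr rfl fun i _ => by rw [mul_comm]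
        | (rw [Finset.sum_smul]; exact Finset.sum_congr rfl fun i _ => by rw [mul_comm])
    rw [e1, e2, ← Finset.sum_sub_distrib, Matrix.mulVec_sum]
    refine Finset.sum_congr rfl fun j _ => ?_
    rw [← smul_sub, hu j, Matrix.mulVec_smul]
  have hCoS : ∀ g {v c}, Co v c → Co (S g v) (M g *ᵥ (σ g ∘ c)) := by
    intro g v c ⟨u, hu⟩
    obtain ⟨u', hu'⟩ := hMlin g c
    refine ⟨S g u + u', ?_⟩
    have e : v = (a ^ q) *ᵥ u + ∑ i, c i • b i := by rw [← hu, sub_add_cancel]
    rw [e, hSadd, hSR, Matrix.mulVec_add, ← hu', add_sub_assoc]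
  have hMmul : ∀ g h, M (g * h) = M g * (M h).map (σ g) := by
    intro g h
    refine Matrix.ext fun i j => ?_
    have h1 := hCoS g (hcol h j)
    rw [← hSmul] at h1
    exact congrFun (hCo (hcol (g * h) j) h1) i
  -- centralising elements
  have hMc : ∀ (g : Y) (T : Matrix (Fin w) (Fin w) k), (∀ x ∈ E, (g : X) * x = x * g) →
      (∀ j, Co ((f g).map κ *ᵥ b j) fun i => κ (T i j)) → M g = T.map κ := by
    intro g T hg hT
    refine Matrix.ext fun i j => ?_
    have e : S g (b j) = (f g).map κ *ᵥ b j := by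
      simp only [S]
      congr 1
      exact funext fun l => hσone g hg _
    exact congrFun (hCo (hcol g j) (e ▸ hT j)) i
  have hMC : ∀ g : Y, (g : X) ∈ C → M g = (f' g).map κ := by
    intro g hg
    refine hMc g _ (fun x hx => (Subgroup.mem_centralizer_iff.1 hg.2 x hx).symm) fun j => ?_
    have h1 := hact (MonoidAlgebra.single (g : X) 1) (fun l hl => by
      have : (g : X) ≠ l := fun hh => hl (hh ▸ hg)
      simp [Finsupp.single_apply, this]) j
    simpa [linf_single] using h1
  have hMz : ∀ (g : Y) (c : k), (∀ x ∈ E, (g : X) * x = x * g) →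
      f g = c • (1 : Matrix (Fin d) (Fin d) k) → M g = (c • (1 : Matrix (Fin w) (Fin w) k)).map κ := by
    intro g c hg hc
    refine hMc g _ hg fun j => ⟨0, ?_⟩
    rw [Matrix.mulVec_zero, sub_eq_zero, hc]
    have e : (c • (1 : Matrix (Fin d) (Fin d) k)).map κ = κ c • 1 := by
      ext r s; simp [Matrix.one_apply, apply_ite κ]
    rw [e, Matrix.smul_mulVec, Matrix.one_mulVec]
    rw [Finset.sum_eq_single j]
    · simp
    · intro i _ hi; simp [Matrix.one_apply, hi]
    · simp
  have hM1 : M 1 = 1 := by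
    rw [hMC 1 C.one_mem, Subgroup.coe_one, hG'.one, Matrix.map_one _ (map_zero κ) (map_one κ)]
  have hMinv : ∀ g, IsUnit (M g) := fun g => by
    refine (Matrix.isUnit_iff_isUnit_det _).2 (Matrix.isUnit_det_of_right_inverse
      (B := (M g⁻¹).map (σ g)) ?_)
    rw [← hMmul, mul_inv_cancel, hM1]
  -- conjugation of the corner
  have hCn : ∀ (g : Y) (l : X), l ∈ C ↔ (g : X) * l * (g : X)⁻¹ ∈ C := by
    intro g l
    simp only [hC, Subgroup.mem_inf, Subgroup.mem_centralizer_iff, SetLike.mem_coe,
      ← h.norm g (hYD g.2) l]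
    refine and_congr_right fun _ => ⟨fun hl x hx => ?_, fun hl x hx => ?_⟩
    · have := hl _ (hYE' g g.2 x hx)
      have := congrArg (fun t => (g : X) * t * (g : X)⁻¹) this
      simpa [mul_assoc] using this
    · have := hl _ (hYE g g.2 x hx)
      have := congrArg (fun t => (g : X)⁻¹ * t * g) this
      simpa [mul_assoc] using this
  have hcomm : ∀ (g : Y) (y : MonoidAlgebra k X), Supp C y →
      M g * (linf f' y).map κ = (linf f' (cj (g : X) y)).map κ * M g := by
    intro g y hy
    have hy' : Supp C (cj (g : X) y) := supp_cj (hCn g) hy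
    have hyK : Supp K y := fun l hl => hy l fun hh => hl hh.1
    refine Matrix.ext fun i j => ?_
    have h1 : Co ((linf f y).map κ *ᵥ b j) (fun i => κ (linf f' y i j)) := hact y hy j
    have h2 := hCoS g h1
    have hl : linf f (cj (g : X) y) * f g = f g * linf f y := by
      rw [h.linf_cj (hYD g.2) hyK, mul_assoc]
      have h3 := h.inv_left (inv_mem (hYD g.2))
      rw [inv_inv] at h3
      rw [h3, mul_one]
    have e : S g ((linf f y).map κ *ᵥ b j) = (linf f (cj (g : X) y)).map κ *ᵥ S g (b j) := by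
      simp only [S]
      rw [hσvec, hσf, Matrix.mulVec_mulVec, Matrix.mulVec_mulVec, ← Matrix.map_mul, ← Matrix.map_mul,
        hl]
    have hop : ∀ {v c}, Co v c →
        Co ((linf f (cj (g : X) y)).map κ *ᵥ v) ((linf f' (cj (g : X) y)).map κ *ᵥ c) := by
      intro v c ⟨u, hu⟩
      choose u' hu' using fun j => hact _ hy' j
      have hcm : Commute ((linf f (cj (g : X) y)).map κ) (a ^ q) := by
        refine Commute.pow_right ?_ q
        rw [ha, genF_eq]
        refine Commute.sum_right _ _ _ fun x _ =>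
          (Commute.sub_right ?_ (Commute.one_right _)).smul_right _
        show _ * (f x).map κ = (f x).map κ * _
        rw [← Matrix.map_mul, ← Matrix.map_mul]
        congr 1
        rw [linf_apply, Finset.sum_mul, Finset.mul_sum]
        refine Finset.sum_congr rfl fun l _ => ?_
        by_cases hlC : l ∈ C
        · rw [smul_mul_assoc, mul_smul_comm, ← h.mul l (h.le hlC.1) _ (h.mem x x.2),
            ← h.mul _ (h.mem x x.2) l (h.le hlC.1), Subgroup.mem_centralizer_iff.1 hlC.2 x x.2]
        · simp [hy' l hlC]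
      refine ⟨(linf f (cj (g : X) y)).map κ *ᵥ u + ∑ j, c j • u' j, ?_⟩
      have e1 : v = (a ^ q) *ᵥ u + ∑ i, c i • b i := by rw [← hu, sub_add_cancel]
      have e2 : ∑ i, ((linf f' (cj (g : X) y)).map κ *ᵥ c) i • b i =
          ∑ j, c j • ∑ i, κ (linf f' (cj (g : X) y) i j) • b i := by
        simp only [Matrix.mulVec, dotProduct, Matrix.map_apply, Finset.smul_sum, Finset.sum_smul,
          smul_smul]
        rw [Finset.sum_comm]
        exact Finset.sum_congr rfl fun j _ => Finset.sum_congr rfl fun i _ => by rw [mul_comm]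
      rw [e1, e2, Matrix.mulVec_add, Matrix.mulVec_sum, Matrix.mulVec_mulVec, hcm.eq,
        ← Matrix.mulVec_mulVec, Matrix.mulVec_add, add_sub_assoc, ← Finset.sum_sub_distrib,
        Matrix.mulVec_sum]
      refine congrArg _ (Finset.sum_congr rfl fun j _ => ?_)
      rw [Matrix.mulVec_smul, ← smul_sub, hu' j, Matrix.mulVec_smul]
    have h3 := hop (hcol g j)
    rw [← e] at h3
    have h4 := congrFun (hCo h2 h3) i
    simp only [Matrix.mulVec, dotProduct, Function.comp_apply, hσκ] at h4
    exact h4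
  choose y hys hyT using fun T => hG'.surj T
  have hθ : ∀ g : Y, ∃ (β : Matrix (Fin w) (Fin w) k) (t : F),
      IsUnit β ∧ t ≠ 0 ∧ M g = t • β.map κ := by
    intro g
    let θ : Matrix (Fin w) (Fin w) k → Matrix (Fin w) (Fin w) k := fun T => linf f' (cj (g : X) (y T))
    have hθM : ∀ T, M g * T.map κ = (θ T).map κ * M g := fun T => by
      rw [← hcomm g _ (hys T), hyT]
    have hθmul : ∀ T T', θ (T * T') = θ T * θ T' := by
      intro T T'
      refine Matrix.map_injective hinj ?_
      show (θ (T * T')).map κ = (θ T * θ T').map κ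
      rw [← (hMinv g).mul_left_inj, ← hθM, Matrix.map_mul, Matrix.map_mul, ← Matrix.mul_assoc, hθM,
        Matrix.mul_assoc, hθM, Matrix.mul_assoc]
    have hθlin : ∀ (s : Finset (Fin w)) (c : Fin w → k) (T : Fin w → Matrix (Fin w) (Fin w) k),
        θ (∑ i ∈ s, c i • T i) = ∑ i ∈ s, c i • θ (T i) := by
      intro s c T
      refine Matrix.map_injective hinj ?_
      show (θ (∑ i ∈ s, c i • T i)).map κ = (∑ i ∈ s, c i • θ (T i)).map κ
      rw [← (hMinv g).mul_left_inj, ← hθM, ← RingHom.mapMatrix_apply, ← RingHom.mapMatrix_apply,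
        map_sum, map_sum, Finset.mul_sum, Finset.sum_mul]
      refine Finset.sum_congr rfl fun i _ => ?_
      have e : ∀ T : Matrix (Fin w) (Fin w) k, κ.mapMatrix (c i • T) = κ (c i) • T.map κ := fun T => by
        ext r s; simp
      rw [e, e, mul_smul_comm, smul_mul_assoc, hθM]
    have hθ0 : θ 0 = 0 := by simpa using hθlin ∅ (fun _ => 0) (fun _ => 0)
    set i₀ : Fin w := Classical.arbitrary _
    have hne : θ (Matrix.single i₀ i₀ 1) ≠ 0 := by
      intro h0
      have h1 := hθM (Matrix.single i₀ i₀ 1)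
      rw [h0, Matrix.map_zero _ (map_zero κ), zero_mul, (hMinv g).mul_right_eq_zero] at h1
      have h2 := congrFun (congrFun h1 i₀) i₀
      simp at h2
    obtain ⟨c, hc⟩ : ∃ c, θ (Matrix.single i₀ i₀ 1) *ᵥ c ≠ 0 := by
      by_contra hh
      push Not at hh
      exact hne (Matrix.ext_iff_mulVec.2 fun v => by rw [hh, Matrix.zero_mulVec])
    let β : Matrix (Fin w) (Fin w) k :=
      Matrix.of fun r j => (θ (Matrix.single j i₀ 1) *ᵥ c) r
    have hβT : ∀ T, β * T = θ T * β := by
      intro T
      refine Matrix.ext fun r j => ?_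
      have hT : T * Matrix.single j i₀ 1 = ∑ i, T i j • Matrix.single i i₀ (1 : k) := by
        ext r s
        simp only [Matrix.mul_apply, Matrix.single_apply, Matrix.sum_apply, Matrix.smul_apply,
          smul_eq_mul, mul_ite, mul_one, mul_zero, ite_and]
        simp
      have h1 : (θ T * β) r j = (θ (T * Matrix.single j i₀ 1) *ᵥ c) r := by
        rw [hθmul, ← Matrix.mulVec_mulVec]; rfl
      rw [h1, hT, hθlin, Matrix.sum_mulVec, Finset.sum_apply, Matrix.mul_apply]
      refine Finset.sum_congr rfl fun i _ => ?_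
      rw [Matrix.smul_mulVec, Pi.smul_apply, smul_eq_mul, mul_comm]
      rfl
    have hβu : IsUnit β := by
      rw [← Matrix.mulVec_injective_iff_isUnit]
      intro v v' hvv
      by_contra hne'
      obtain ⟨l, hl⟩ := Function.ne_iff.1 hne'
      have h0 : β *ᵥ (v - v') = 0 := by rw [Matrix.mulVec_sub, sub_eq_zero]; exact hvv
      have h1 : θ (Matrix.single i₀ l 1) *ᵥ (β *ᵥ (v - v')) = 0 := by rw [h0, Matrix.mulVec_zero]
      rw [Matrix.mulVec_mulVec, ← hβT, ← Matrix.mulVec_mulVec] at h1
      have e : Matrix.single i₀ l (1 : k) *ᵥ (v - v') = (v l - v' l) • Pi.single i₀ 1 := by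
        funext r
        simp [Matrix.mulVec, dotProduct, Matrix.single_apply, Pi.single_apply, ite_and, eq_comm]
      rw [e, Matrix.mulVec_smul, smul_eq_zero] at h1
      rcases h1 with h1 | h1
      · exact hl (sub_eq_zero.1 h1)
      · refine hc (funext fun r => ?_)
        have := congrFun h1 r
        simpa [β] using this
    have hβκ : IsUnit (β.map κ) := by
      rw [← RingHom.mapMatrix_apply]; exact hβu.map κ.mapMatrix
    obtain ⟨Z, hMZ⟩ : ∃ Z, M g = β.map κ * Z := ⟨(β.map κ)⁻¹ * M g, by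
      rw [Matrix.mul_nonsing_inv_cancel_left _ _ ((Matrix.isUnit_iff_isUnit_det _).1 hβκ)]⟩
    obtain ⟨t, ht⟩ : Z ∈ Set.range (Matrix.scalar (Fin w)) := by
      refine Matrix.mem_range_scalar_of_commute_single fun i j _ => ?_
      have h1 := hθM (Matrix.single i j 1)
      have hs : (Matrix.single i j (1 : k)).map κ = Matrix.single i j (1 : F) := by
        ext r s; simp [Matrix.single_apply, apply_ite κ]
      rw [hMZ, ← Matrix.mul_assoc, ← Matrix.map_mul, ← hβT, Matrix.map_mul, Matrix.mul_assoc,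
        Matrix.mul_assoc, hs, hβκ.mul_right_inj] at h1
      exact h1.symm
    have hM : M g = t • β.map κ := by
      rw [hMZ, ← ht, Matrix.scalar_apply]
      ext r s
      simp [Matrix.mul_diagonal, mul_comm]
    refine ⟨β, t, hβu, fun h0 => ?_, hM⟩
    have h1 := hMinv g
    rw [hM, h0, zero_smul] at h1
    exact not_isUnit_zero h1
  choose β lam hβ hlam hMβ using hθ
  have hMσ : ∀ g h, M (g * h) = (lam g * σ g (lam h)) • (β g * β h).map κ := by
    intro g h
    rw [hMmul, hMβ g, hMβ h, Matrix.map_mul]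
    ext r s
    simp only [Matrix.mul_apply, Matrix.smul_apply, Matrix.map_apply, map_mul, hσκ, smul_eq_mul,
      Finset.mul_sum]
    exact Finset.sum_congr rfl fun i _ => by ring
  haveI : Fintype Y := Fintype.ofFinite Y
  obtain ⟨Dn, hDn, hDc⟩ := exists_coboundary act σ hact_mul
    (fun r => hperm1 1 (fun x _ => by simp) r) hσalg lam hlam (fun g h => by
      obtain ⟨r, s, hrs⟩ : ∃ r s, (β g * β h) r s ≠ 0 := by
        by_contra hh
        push Not at hh
        exact not_isUnit_zero (M₀ := Matrix (Fin w) (Fin w) k)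
          (by simpa [show β g * β h = 0 from Matrix.ext hh] using (hβ g).mul (hβ h))
      have h1 := congrFun (congrFun ((hMσ g h).symm.trans (hMβ (g * h))) r) s
      simp only [Matrix.smul_apply, Matrix.map_apply, smul_eq_mul] at h1
      have hne : β (g * h) r s ≠ 0 := by
        intro h0
        rw [h0, map_zero, mul_zero] at h1
        exact (mul_ne_zero (mul_ne_zero (hlam g) ((map_ne_zero_iff _ (σ g).injective).2 (hlam h)))
          ((map_ne_zero_iff _ hinj).2 hrs)) h1
      have hu : IsUnit (MvPolynomial.C (β (g * h) r s / (β g * β h) r s) : R) :=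
        (IsUnit.mk0 _ (div_ne_zero hne hrs)).map MvPolynomial.C
      refine ⟨hu.unit, ?_⟩
      show lam g * σ g (lam h) = κ (β (g * h) r s / (β g * β h) r s) * lam (g * h)
      rw [map_div₀, div_mul_eq_mul_div, eq_div_iff ((map_ne_zero_iff _ hinj).2 hrs), h1, mul_comm])
  have hex : ∀ g : Y, ∃ T : Matrix (Fin w) (Fin w) k, σ g Dn • M g = Dn • T.map κ := by
    intro g
    obtain ⟨c, hc⟩ := hDc g
    obtain ⟨r, -, hr⟩ := (MvPolynomial.isUnit_iff_eq_C_of_isReduced).1 c.isUnit
    refine ⟨r • β g, ?_⟩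
    rw [hMβ, smul_smul, mul_comm, hc, hr]
    show (κ r * Dn) • (β g).map κ = _
    ext i j
    simp only [Matrix.smul_apply, Matrix.map_apply, smul_eq_mul, map_mul]
    ring
  choose T hT using hex
  have hcancel : ∀ {U V : Matrix (Fin w) (Fin w) k}, Dn • U.map κ = Dn • V.map κ → U = V :=
    fun hUV => Matrix.map_injective hinj ((smul_right_injective _ hDn) hUV)
  have hTmul : ∀ g h, T (g * h) = T g * T h := by
    intro g h
    refine hcancel ?_
    have h1 : σ (g * h) Dn • (M h).map (σ g) = σ g Dn • (T h).map κ := by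
      have h0 := congrArg (fun A : Matrix (Fin w) (Fin w) F => A.map (σ g)) (hT h)
      ext i j
      have h0' := congrFun (congrFun h0 i) j
      simp only [Matrix.map_apply, Matrix.smul_apply, smul_eq_mul, map_mul, hσκ, ← hσmul] at h0'
      simpa using h0'
    rw [← hT (g * h), hMmul, ← mul_smul_comm, h1, mul_smul_comm, ← smul_mul_assoc, hT g,
      smul_mul_assoc, Matrix.map_mul]
  let τ : X → Matrix (Fin w) (Fin w) k := fun g => if hg : g ∈ Y then T ⟨g, hg⟩ else 0
  have hτ : ∀ g : Y, τ g = T g := fun g => by simp [τ]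
  have hτmul : ∀ a ∈ Y, ∀ b ∈ Y, τ (a * b) = τ a * τ b := by
    intro a ha b hb
    rw [show τ (a * b) = τ ((⟨a, ha⟩ * ⟨b, hb⟩ : Y) : X) from rfl, hτ, hTmul, ← hτ, ← hτ]
  have hTcent : ∀ (g : Y) U, (∀ x ∈ E, (g : X) * x = x * g) → M g = U.map κ → T g = U :=
    fun g U hg hU => hcancel (by rw [← hT g, hσone g hg, hU])
  have hτC : ∀ g ∈ C, τ g = f' g := fun g hg => by
    rw [show g = ((⟨g, hCY hg⟩ : Y) : X) from rfl, hτ]
    exact hTcent _ _ (fun x hx => (Subgroup.mem_centralizer_iff.1 hg.2 x hx).symm) (hMC _ hg)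
  have hGτ : Good p C τ (trS (Subgroup.centralizer (E : Set X) : Set X) e) :=
    { mul := fun a ha b hb => hτmul a (hCY ha) b (hCY hb)
      one := by rw [hτC 1 C.one_mem, hG'.one]
      supp := hG'.supp
      central := hG'.central
      e_one := (linf_congr hτC hG'.supp).trans hG'.e_one
      surj := fun U => by
        obtain ⟨y, hy, hyl⟩ := hG'.surj U
        exact ⟨y, hy, (linf_congr hτC hy).trans hyl⟩
      inj := fun y hy h0 => hG'.inj y hy ((linf_congr hτC hy).symm.trans h0)
      dim := hG'.dim }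
  have hτz : ∀ z ∈ Y, (∀ x ∈ E, z * x = x * z) → ∀ c : k, f z = c • (1 : Matrix (Fin d) (Fin d) k) →
      τ z = c • (1 : Matrix (Fin w) (Fin w) k) := by
    intro z hz hzE c hc
    rw [show z = ((⟨z, hz⟩ : Y) : X) from rfl, hτ]
    exact hTcent _ _ hzE (hMz _ c hzE hc)
  refine ⟨w, τ, hGτ, hτmul, fun x hx => ?_, hτz⟩
  have hxc : ∀ y ∈ E, x * y = y * x := fun y hy => h.comm x hx y hy
  obtain ⟨c, hc⟩ : τ x ∈ Set.range (Matrix.scalar (Fin w)) := by
    refine Matrix.mem_range_scalar_of_commute_single fun i j _ => ?_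
    obtain ⟨y, hy, hyl⟩ := hG'.surj (Matrix.single i j 1)
    have hcjy : cj x y = y := gaExt fun l => by
      rw [coeff_cj']
      by_cases hlC : l ∈ C
      · rw [mul_assoc, ← Subgroup.mem_centralizer_iff.1 hlC.2 x hx, inv_mul_cancel_left]
      · rw [hy l hlC, hy]
        intro hh
        have := (hCn ⟨x, hEY x hx⟩ _).1 hh
        exact hlC (by simpa [mul_assoc] using this)
    have h1 := hcomm ⟨x, hEY x hx⟩ y hy
    have e : M ⟨x, hEY x hx⟩ = (τ x).map κ := by
      have h2 := hT ⟨x, hEY x hx⟩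
      rw [hσone _ hxc] at h2
      rw [(smul_right_injective _ hDn) h2, ← hτ]
    rw [hcjy, hyl, e, ← Matrix.map_mul, ← Matrix.map_mul] at h1
    exact (Matrix.map_injective hinj h1).symm
  have hpw : τ x ^ p = 1 := by
    have hx' := hEY x hx
    have h1 : ∀ n : ℕ, τ (x ^ n) = τ x ^ n := by
      intro n
      induction n with
      | zero => rw [pow_zero, pow_zero, hGτ.one]
      | succ n ih => rw [pow_succ, hτmul _ (pow_mem hx' n) _ hx', ih, pow_succ]
    have h2 : ∀ n : ℕ, f (x ^ n) = f x ^ n := by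
      intro n
      induction n with
      | zero => rw [pow_zero, pow_zero, h.one]
      | succ n ih => rw [pow_succ, h.mul _ (pow_mem (h.mem x hx) n) _ (h.mem x hx), ih, pow_succ]
    rw [← h1, hτz _ (pow_mem hx' p) (fun y hy => ((show Commute x y from hxc y hy).pow_left p).eq) 1
      (by rw [h2, h.pow x hx, one_smul]), one_smul]
  rw [← hc, ← map_pow, ← map_one (Matrix.scalar (Fin w))] at hpw
  have hcp : c ^ p = 1 := Matrix.scalar_inj.1 hpw
  have h0 : (c - 1) ^ p = 0 := by rw [sub_pow_char, hcp, one_pow, sub_self]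
  rw [← hc, sub_eq_zero.1 ((pow_eq_zero_iff hp.out.ne_zero).1 h0), map_one]

end Cfsg.Agent.S4643Lib
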