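/-
The stages down the chain of powers of an abelian `p`-subgroup.
-/
import Cfsg.Agent.Lib.S4643.Stage

set_option autoImplicit false
set_option maxHeartbeats 1000000
set_option linter.unusedSectionVars false
set_option linter.style.haveILetI false

namespace Cfsg.Agent.S4643Lib

open Matrix MonoidAlgebra Cfsg.Agent.Blocks Cfsg.Agent.BrauerPairs

variable {X : Type*} [Group X] [Fintype X] {k : Type} [Field k] {p : ℕ} [hp : Fact p.Prime]
  [CharP k p]

open Classical in
/-- The powers `p ^ j` of the elements of a subgroup. -/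
noncomputable def powSet (p : ℕ) (P : Subgroup X) (j : ℕ) : Finset X :=
  (Finset.univ.filter fun y => y ∈ P).image fun y => y ^ p ^ j

theorem mem_powSet {P : Subgroup X} {j : ℕ} {x : X} :
    x ∈ powSet p P j ↔ ∃ y ∈ P, y ^ p ^ j = x := by
  classical
  simp [powSet]

theorem mem_of_mem_powSet {P : Subgroup X} {j : ℕ} {x : X} (h : x ∈ powSet p P j) : x ∈ P := by
  obtain ⟨y, hy, rfl⟩ := mem_powSet.1 h
  exact pow_mem hy _

theorem powSet_zero (P : Subgroup X) : (powSet p P 0 : Set X) = P := by
  ext x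
  simp [mem_powSet]

/-- The tower. -/
theorem tower {d : ℕ} {L P : Subgroup X} [L.Normal] {f : X → Matrix (Fin d) (Fin d) k}
    {e : MonoidAlgebra k X} (hG : Good p L f e) (hmul : ∀ a b, f (a * b) = f a * f b)
    (hP : IsPGroup p P) (hab : ∀ x ∈ P, ∀ y ∈ P, x * y = y * x) :
    ∃ (w : ℕ) (τ : X → Matrix (Fin w) (Fin w) k),
      Good p (L ⊓ Subgroup.centralizer (P : Set X)) τ
        (trS (Subgroup.centralizer (P : Set X) : Set X) e) ∧
      (∀ a ∈ Subgroup.normalizer (P : Set X), ∀ b ∈ Subgroup.normalizer (P : Set X),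
        τ (a * b) = τ a * τ b) ∧
      (∀ x ∈ P, τ x = 1) ∧
      ∀ z ∈ Subgroup.center X, ∀ c : k, f z = c • (1 : Matrix (Fin d) (Fin d) k) →
        τ z = c • (1 : Matrix (Fin w) (Fin w) k) := by
  classical
  haveI : Finite P := Finite.of_fintype P
  obtain ⟨m, hm⟩ := IsPGroup.iff_card.1 hP
  set N := Subgroup.normalizer (P : Set X) with hN
  have hpm : ∀ y ∈ P, y ^ p ^ m = 1 := fun y hy => by
    have := congrArg Subtype.val (pow_card_eq_one' (x := (⟨y, hy⟩ : P)))
    rwa [hm, SubmonoidClass.coe_pow, OneMemClass.coe_one] at this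
  suffices H : ∀ n j, j + n = m → ∃ (w : ℕ) (τ : X → Matrix (Fin w) (Fin w) k),
      Good p (L ⊓ Subgroup.centralizer (powSet p P j : Set X)) τ
        (trS (Subgroup.centralizer (powSet p P j : Set X) : Set X) e) ∧
      (∀ a ∈ L ⊓ Subgroup.centralizer (powSet p P j : Set X) ⊔ N,
        ∀ b ∈ L ⊓ Subgroup.centralizer (powSet p P j : Set X) ⊔ N, τ (a * b) = τ a * τ b) ∧
      (∀ x ∈ powSet p P j, τ x = 1) ∧
      ∀ z ∈ Subgroup.center X, ∀ c : k, f z = c • (1 : Matrix (Fin d) (Fin d) k) →
        τ z = c • (1 : Matrix (Fin w) (Fin w) k) by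
    obtain ⟨w, τ, h1, h2, h3, h4⟩ := H m 0 (zero_add m)
    rw [powSet_zero] at h1 h2
    refine ⟨w, τ, h1, fun a ha b hb => h2 a (Subgroup.mem_sup_right ha) b (Subgroup.mem_sup_right hb),
      fun x hx => h3 x ?_, h4⟩
    exact mem_powSet.2 ⟨x, hx, by simp⟩
  intro n
  induction n with
  | zero =>
    intro j hj
    have h1 : ∀ x ∈ powSet p P j, x = 1 := fun x hx => by
      obtain ⟨y, hy, rfl⟩ := mem_powSet.1 hx
      rw [show j = m by omega]
      exact hpm y hy
    have hc : Subgroup.centralizer (powSet p P j : Set X) = ⊤ := by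
      refine eq_top_iff.2 fun g _ => Subgroup.mem_centralizer_iff.2 fun x hx => ?_
      rw [h1 x hx, one_mul, mul_one]
    refine ⟨d, f, ?_, fun a _ b _ => hmul a b, fun x hx => ?_, fun _ _ _ h => h⟩
    · rw [hc, inf_top_eq, show trS ((⊤ : Subgroup X) : Set X) e = e from
        gaExt fun g => by rw [coeff_trS]; simp]
      exact hG
    · rw [h1 x hx, hG.one]
  | succ n ih =>
    intro j hj
    obtain ⟨w₀, τ₀, hG₀, hmul₀, hone₀, hz₀⟩ := ih (j + 1) (by omega)
    set S := powSet p P (j + 1) with hS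
    set E := powSet p P j with hE
    have hpE : ∀ x ∈ E, x ^ p ∈ S := fun x hx => by
      obtain ⟨y, hy, rfl⟩ := mem_powSet.1 hx
      exact mem_powSet.2 ⟨y, hy, by rw [pow_succ, pow_mul]⟩
    have hcle : Subgroup.centralizer (E : Set X) ≤ Subgroup.centralizer (S : Set X) := by
      intro g hg
      refine Subgroup.mem_centralizer_iff.2 fun x hx => ?_
      obtain ⟨y, hy, rfl⟩ := mem_powSet.1 (Finset.mem_coe.1 hx)
      have h1 : Commute (y ^ p ^ j) g :=
        Subgroup.mem_centralizer_iff.1 hg _ (Finset.mem_coe.2 (mem_powSet.2 ⟨y, hy, rfl⟩))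
      rw [pow_succ, pow_mul]
      exact (h1.pow_left p).eq
    have hNE : ∀ (i : ℕ), ∀ g ∈ N, ∀ x ∈ powSet p P i, g * x * g⁻¹ ∈ powSet p P i := by
      intro i g hg x hx
      obtain ⟨y, hy, rfl⟩ := mem_powSet.1 hx
      exact mem_powSet.2 ⟨g * y * g⁻¹, (Subgroup.mem_normalizer_iff.1 hg y).1 hy, conj_pow⟩
    have hPN : ∀ x ∈ P, x ∈ N := fun x hx => Subgroup.le_normalizer hx
    set K := L ⊓ Subgroup.centralizer (S : Set X) with hK
    set D := K ⊔ N with hD
    have hEN : ∀ x ∈ E, x ∈ N := fun x hx => hPN x (mem_of_mem_powSet hx)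
    have hKn : D ≤ Subgroup.normalizer (K : Set X) := by
      refine sup_le Subgroup.le_normalizer fun g hg => ?_
      have hL : g ∈ Subgroup.normalizer (L : Set X) := by
        rw [Subgroup.normalizer_eq_top_iff.2 ‹L.Normal›]; exact Subgroup.mem_top g
      refine Subgroup.mem_normalizer_iff.2 fun l => ?_
      simp only [hK, Subgroup.mem_inf, Subgroup.mem_centralizer_iff, Finset.mem_coe,
        ← Subgroup.mem_normalizer_iff.1 hL l]
      refine and_congr_right fun _ => ⟨fun hl x hx => ?_, fun hl x hx => ?_⟩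
      · have := hl _ (hNE _ g⁻¹ (inv_mem hg) x hx)
        have := congrArg (fun t => g * t * g⁻¹) this
        simpa [mul_assoc] using this
      · have := hl _ (hNE _ g hg x hx)
        have := congrArg (fun t => g⁻¹ * t * g) this
        simpa [mul_assoc] using this
    have hfam : Family p K D τ₀ E :=
      { le := le_sup_left
        mem := fun x hx => Subgroup.mem_sup_right (hEN x hx)
        mul := hmul₀
        one := hG₀.one
        norm := fun h hh g => Subgroup.mem_normalizer_iff.1 (hKn hh) g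
        pgroup := fun x hx => hP.to_le (Subgroup.zpowers_le.2 (mem_of_mem_powSet hx))
        powK := fun x hx g hg =>
          Subgroup.mem_centralizer_iff.1 hg.2 _ (Finset.mem_coe.2 (hpE x hx))
        pow := fun x hx => by
          have hx' : x ∈ D := Subgroup.mem_sup_right (hEN x hx)
          have h1 : ∀ i : ℕ, τ₀ (x ^ i) = τ₀ x ^ i := by
            intro i
            induction i with
            | zero => rw [pow_zero, pow_zero, hG₀.one]
            | succ i ihi => rw [pow_succ, hmul₀ _ (pow_mem hx' i) _ hx', ihi, pow_succ]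
          rw [← h1, hone₀ _ (hpE x hx)]
        comm := fun x hx y hy => hab x (mem_of_mem_powSet hx) y (mem_of_mem_powSet hy) }
    have hKC : K ⊓ Subgroup.centralizer (E : Set X) = L ⊓ Subgroup.centralizer (E : Set X) := by
      rw [hK, inf_assoc, inf_eq_right.2 hcle]
    have htr : trS (Subgroup.centralizer (E : Set X) : Set X)
        (trS (Subgroup.centralizer (S : Set X) : Set X) e) =
        trS (Subgroup.centralizer (E : Set X) : Set X) e := by
      rw [trS_trS, Set.inter_eq_left.2 (SetLike.coe_subset_coe.2 hcle)]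
    set Y := L ⊓ Subgroup.centralizer (E : Set X) ⊔ N with hY
    have hYn : ∀ g ∈ Y, g ∈ Subgroup.normalizer (E : Set X) := by
      refine fun g hg => (sup_le (inf_le_right.trans (Subgroup.centralizer_le_normalizer _))
        fun a ha => ?_ : Y ≤ Subgroup.normalizer (E : Set X)) hg
      refine Subgroup.mem_set_normalizer_iff.2 fun x => ⟨fun hx => hNE _ a ha x hx, fun hx => ?_⟩
      have := hNE _ a⁻¹ (inv_mem ha) _ hx
      simpa [mul_assoc] using this
    obtain ⟨w, τ, hGτ, hmulτ, honeτ, hzτ⟩ := stage hfam hG₀ (Y := Y)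
      (sup_le_sup_right (inf_le_inf_left _ hcle) N)
      (fun g hg x hx => (Subgroup.mem_set_normalizer_iff.1 (hYn g hg) x).1 hx)
      (fun x hx => Subgroup.mem_sup_right (hEN x hx))
      (by rw [hKC]; exact le_sup_left)
    rw [hKC, htr] at hGτ
    refine ⟨w, τ, hGτ, hmulτ, honeτ, fun z hz c hc => ?_⟩
    have hzc : ∀ g, g * z = z * g := Subgroup.mem_center_iff.1 hz
    refine hzτ z (Subgroup.mem_sup_right ?_) (fun x _ => (hzc x).symm) c (hz₀ z hz c hc)
    exact Subgroup.centralizer_le_normalizer _ (Subgroup.mem_centralizer_iff.2 fun x _ => hzc x)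

end Cfsg.Agent.S4643Lib
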