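/-
The interface between the module theory and the character triples of the invariant case.
-/
import Cfsg.Agent.Lib.S4643.Iface

set_option linter.unusedSectionVars false
set_option linter.style.haveILetI false

namespace Cfsg.Agent.FongDescent

open Cfsg Cfsg.Agent.Char Cfsg.Agent.Blocks

universe u

/-- An irreducible character restricting irreducibly to a normal `p'`-subgroup transfers to the
normaliser of an abelian Sylow subgroup, with the same values on the central `p'`-elements. -/
def TransferCase (p : ℕ) (M : Ideal AlgInt) : Prop :=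
  ∀ (E : Type u) [Group E] [Fintype E] (L : Subgroup E) [L.Normal] [Fintype L] (P : Sylow p E)
    [Fintype (Subgroup.normalizer ((P : Subgroup E) : Set E))]
    [Fintype (L.subgroupOf (Subgroup.normalizer ((P : Subgroup E) : Set E)))]
    (θ : IrrCharacter L) (ψ : IrrCharacter E),
    IsPModular p M → ¬ p ∣ Nat.card L →
    (∀ x ∈ (P : Subgroup E), ∀ y ∈ (P : Subgroup E), x * y = y * x) →
    (∀ l : L, (ψ : E → ℂ) l = (θ : L → ℂ) l) →
    ∀ φ : IrrCharacter (L.subgroupOf (Subgroup.normalizer ((P : Subgroup E) : Set E))),
      Corr p (Subgroup.normalizer ((P : Subgroup E) : Set E)) L θ φ →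
      ∃ ψ' : IrrCharacter (Subgroup.normalizer ((P : Subgroup E) : Set E)),
        (∀ c : L.subgroupOf (Subgroup.normalizer ((P : Subgroup E) : Set E)),
          (ψ' : Subgroup.normalizer ((P : Subgroup E) : Set E) → ℂ) c =
            (φ : L.subgroupOf (Subgroup.normalizer ((P : Subgroup E) : Set E)) → ℂ) c) ∧
        ∀ z : Subgroup.normalizer ((P : Subgroup E) : Set E), (z : E) ∈ Subgroup.center E →
          ¬ p ∣ orderOf z → ∀ ω : ℂ, (ψ : E → ℂ) z = ω * (ψ : E → ℂ) 1 →
            (ψ' : Subgroup.normalizer ((P : Subgroup E) : Set E) → ℂ) z =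
              ω * (ψ' : Subgroup.normalizer ((P : Subgroup E) : Set E) → ℂ) 1

end Cfsg.Agent.FongDescent
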