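/-
The transfer of an extension to the normaliser of an abelian Sylow subgroup.
-/
import Cfsg.Agent.Lib.S4643.Tower
import Cfsg.Agent.Lib.S4643.Red
import Cfsg.Agent.Lib.S4643.Transfer
import Cfsg.Agent.Lib.S4643.Glauber

set_option autoImplicit false
set_option maxHeartbeats 1000000
set_option linter.unusedSectionVars false
set_option linter.style.haveILetI false

namespace Cfsg.Agent.S4643Lib

open Cfsg Matrix MonoidAlgebra Cfsg.Agent.Blocks Cfsg.Agent.BrauerPairs Cfsg.Agent.Char
open scoped ComplexConjugate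

universe u

variable {p : ℕ} {M : Ideal AlgInt} [M.IsPrime]

/-- A full representation of a subgroup by an extension of a character over the local ring. -/
theorem exists_good {X : Type u} [Group X] [Fintype X] (hM : IsPModular p M) (C : Subgroup X)
    [Fintype C] (hC : ¬ p ∣ Nat.card C) (θ : IrrCharacter C) :
    ∃ (d : ℕ) (f : X → Matrix (Fin d) (Fin d) (resField M)),
      Good p C f (eRed M C θ) ∧ (d : ℂ) = (θ : C → ℂ) 1 ∧
        ∀ g : C, (f g).trace = res M (valR M C θ g) := by
  classical
  obtain ⟨d, m, hm⟩ := Cfsg.Agent.BrauerChar.exists_rep_locRing (M := M) θ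
  exact ⟨d, fun g => if h : g ∈ C then (m ⟨g, h⟩).map (res M) else 0,
    good_red hM C hC θ m hm _ fun g => by simp⟩

/-- The idempotents of the irreducible characters of a subgroup add up to one. -/
theorem sum_eRed {X : Type u} [Group X] [Fintype X] (hM : IsPModular p M) (C : Subgroup X)
    [Fintype C] (hC : ¬ p ∣ Nat.card C) :
    ∑ η : IrrCharacter C, eRed M C η = (1 : MonoidAlgebra (resField M) X) := by
  classical
  haveI := resField_charP hM
  have hcard : (Nat.card C : resField M) ≠ 0 := fun h => hC ((CharP.cast_eq_zero_iff _ p _).1 h)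
  refine gaExt fun g => ?_
  rw [MonoidAlgebra.coeff_sum, Finset.sum_apply']
  by_cases hg : g ∈ C
  · have h1 : ∑ η : IrrCharacter C, valR M C η 1 * valR M C η (⟨g, hg⟩⁻¹ : C) =
        if (⟨g, hg⟩ : C) = 1 then (Nat.card C : locRing M) else 0 := by
      refine Subtype.ext ?_
      simp only [AddSubmonoidClass.coe_finsetSum, Subring.coe_mul, valR]
      rw [Finset.sum_congr rfl fun η _ => by rw [irr_inv η], sum_irr_one_mul]
      split_ifs <;> simp
    have h2 : ∀ η : IrrCharacter C, (eRed M C η).coeff g =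
        res M (valR M C η 1) / (Nat.card C : resField M) * res M (valR M C η (⟨g, hg⟩⁻¹ : C)) :=
      fun η => coeff_eRed C η ⟨g, hg⟩
    simp only [h2, div_mul_eq_mul_div, ← Finset.sum_div, ← map_mul, ← map_sum, h1]
    by_cases hg1 : g = 1
    · subst hg1
      have hc' : (Fintype.card C : resField M) ≠ 0 := by rwa [← Nat.card_eq_fintype_card]
      simp [MonoidAlgebra.one_def, hc']
    · have : (⟨g, hg⟩ : C) ≠ 1 := fun h => hg1 (congrArg Subtype.val h)
      simp [MonoidAlgebra.one_def, this, Finsupp.single_apply, Ne.symm hg1]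
  · have : (1 : X) ≠ g := fun h => hg (h ▸ C.one_mem)
    rw [Finset.sum_eq_zero fun η _ => supp_eRed C η g hg]
    simp [MonoidAlgebra.one_def, Finsupp.single_apply, this]

/-- Roots of unity of order prime to `p` are separated by the residue field. -/
theorem root_eq_of_res_eq (hM : IsPModular p M) {m : ℕ} (hm : ¬ p ∣ m) {a b : ℂ}
    (ha : a ^ m = 1) (hb : b ^ m = 1) (hxa : a ∈ locRing M) (hxb : b ∈ locRing M)
    (h : res M ⟨a, hxa⟩ = res M ⟨b, hxb⟩) : a = b := by
  have hm0 : 0 < m := Nat.pos_of_ne_zero fun h => hm (h ▸ dvd_zero p)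
  have hint : ∀ c : ℂ, c ^ m = 1 → IsIntegral ℤ c := fun c hc =>
    IsIntegral.of_pow hm0 (hc ▸ isIntegral_one)
  let A : AlgInt := ⟨a, hint a ha⟩
  let B : AlgInt := ⟨b, hint b hb⟩
  have := eq_of_sub_mem_of_pow_eq_one hM hm (a := A) (b := B) (Subtype.ext (by simpa [A] using ha))
    (Subtype.ext (by simpa [B] using hb))
    ((memLocalIdeal_coe_iff (A - B)).1 (by simpa [A, B] using res_eq_res_iff.1 h))
  exact congrArg Subtype.val this

end Cfsg.Agent.S4643Lib

namespace Cfsg.Agent.FongDescent

open Cfsg Matrix MonoidAlgebra Cfsg.Agent.Blocks Cfsg.Agent.BrauerPairs Cfsg.Agent.Char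
open Cfsg.Agent.S4643Lib
open scoped ComplexConjugate

universe u

theorem transferCase (p : ℕ) [hp : Fact p.Prime] (M : Ideal AlgInt) :
    TransferCase.{u} p M := by
  intro E _ _ L _ _ P _ _ θ ψ hM hL hab hψ φ hcorr
  classical
  haveI : M.IsPrime := hM.2.1.isPrime
  haveI := resField_charP hM
  -- the big representation
  obtain ⟨d, m, hm⟩ := Cfsg.Agent.BrauerChar.exists_rep_locRing (M := M) ψ
  let f : E → Matrix (Fin d) (Fin d) (resField M) := fun g => (m g).map (res M)
  obtain ⟨hG, hd, htrL⟩ := good_red hM L hL θ (m.comp L.subtype)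
    (fun g => (hm g).trans (hψ g)) f fun g => rfl
  have hfmul : ∀ a b, f (a * b) = f a * f b := fun a b => by
    simp only [f, map_mul, Matrix.map_mul]
  obtain ⟨w, τ, hGτ, hτN, hτP, hτz⟩ := tower hG hfmul P.isPGroup' hab
  set e := eRed M L θ with he
  set CP := Subgroup.centralizer ((P : Subgroup E) : Set E) with hCP
  set C := L ⊓ CP with hC
  have hw : ¬ p ∣ w := by simpa using hGτ.dim
  have hdp : ¬ p ∣ d := by simpa using hG.dim
  have hCN : C ≤ (Subgroup.normalizer ((P : Subgroup E) : Set E)) := inf_le_right.trans (Subgroup.centralizer_le_normalizer _)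
  have hCcard : ¬ p ∣ Nat.card C := fun h =>
    hL (h.trans (Subgroup.card_dvd_of_le inf_le_left))
  haveI : Fintype C := Fintype.ofFinite _
  -- the small character
  let eC : C ≃* L.subgroupOf (Subgroup.normalizer ((P : Subgroup E) : Set E)) :=
    { toFun := fun c => ⟨⟨(c : E), hCN c.2⟩, c.2.1⟩
      invFun := fun l => ⟨((l : (Subgroup.normalizer ((P : Subgroup E) : Set E))) : E), l.2, Subgroup.mem_centralizer_iff.2 fun u hu =>
        (commute_of_mem L (P : Subgroup E) P.isPGroup' hL l.2 (l : (Subgroup.normalizer ((P : Subgroup E) : Set E))).2 hu).symm⟩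
      left_inv := fun _ => rfl
      right_inv := fun _ => rfl
      map_mul' := fun _ _ => rfl }
  let φ' : IrrCharacter C :=
    ⟨fun c => (φ : L.subgroupOf (Subgroup.normalizer ((P : Subgroup E) : Set E)) → ℂ) (eC c),
      IsIrrCharacter.comp φ.2 eC.toMonoidHom eC.surjective⟩
  obtain ⟨w₁, f₁, hG₁, hw₁, htr₁⟩ := exists_good (M := M) hM C hCcard φ'
  set ε := eRed M C φ' with hε
  have hCcard0 : (Nat.card C : resField M) ≠ 0 := fun h =>
    hCcard ((CharP.cast_eq_zero_iff _ p _).1 h)
  have hval₁ : valR M C φ' 1 = (w₁ : locRing M) := Subtype.ext (by simp [valR, hw₁])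
  -- the link
  have hne : linf τ ε ≠ 0 := by
    intro h0
    have hεK : Supp C ε := supp_eRed C φ'
    have hεL : Supp L ε := fun g hg => hεK g fun h => hg h.1
    have h1 := hGτ.inj ε hεK h0
    set y := ε * e with hy
    have htry : trS (CP : Set E) y = ε * trS (CP : Set E) e := by
      refine gaExt fun g => ?_
      rw [coeff_trS, coeff_mul_univ, Set.indicator_apply]
      split_ifs with hg
      · rw [hy, coeff_mul_univ]
        refine Finset.sum_congr rfl fun a _ => ?_
        by_cases ha : a ∈ C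
        · rw [coeff_trS, Set.indicator_of_mem (show a⁻¹ * g ∈ (CP : Set E) from
            mul_mem (inv_mem ha.2) hg)]
        · rw [hεK a ha, zero_mul, zero_mul]
      · symm
        refine Finset.sum_eq_zero fun a _ => ?_
        by_cases ha : a ∈ C
        · rw [coeff_trS, Set.indicator_of_notMem, mul_zero]
          intro hh
          exact hg (by simpa using mul_mem ha.2 hh)
        · rw [hεK a ha, zero_mul]
    have hvan : ∀ g ∈ CP, y.coeff g = 0 := fun g hg => by
      have h2 := congrArg (fun z : MonoidAlgebra (resField M) E => z.coeff g) (htry.trans h1)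
      simpa [coeff_trS, Set.indicator_of_mem (show g ∈ (CP : Set E) from hg)] using h2
    have hfix : ∀ u ∈ (P : Subgroup E), ∀ g, y.coeff (u * g * u⁻¹) = y.coeff g := by
      intro u hu g
      have e1 : cj u ε = ε := gaExt fun a => by
        rw [coeff_cj']
        by_cases ha : a ∈ C
        · rw [mul_assoc, ← Subgroup.mem_centralizer_iff.1 ha.2 u hu, inv_mul_cancel_left]
        · rw [hεK a ha, hεK]
          intro hh
          refine ha ?_
          have hc := Subgroup.mem_centralizer_iff.1 hh.2 u hu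
          rw [show a = u⁻¹ * a * u from by
            have h3 : u * (u⁻¹ * a * u) * u⁻¹ = u⁻¹ * a * u := by rw [hc, mul_inv_cancel_right]
            calc a = u * (u⁻¹ * a * u) * u⁻¹ := by group
              _ = _ := h3]
          exact hh
      have e2 : cj u e = e := gaExt fun a => by
        rw [coeff_cj']
        by_cases ha : a ∈ L
        · have hua : u⁻¹ * a * u ∈ L := by
            simpa using (inferInstance : L.Normal).conj_mem a ha u⁻¹
          rw [he, show u⁻¹ * a * u = ((⟨_, hua⟩ : L) : E) from rfl, coeff_eRed,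
            show (eRed M L θ).coeff a = (eRed M L θ).coeff ((⟨a, ha⟩ : L) : E) from rfl, coeff_eRed]
          congr 2
          refine Subtype.ext ?_
          show (θ : L → ℂ) _ = (θ : L → ℂ) _
          rw [← hψ, ← hψ]
          have h4 := irr_conj_invariant ψ (a⁻¹) u⁻¹
          simp only [InvMemClass.coe_inv]
          rw [← h4]
          congr 1
          group
        · rw [he, supp_eRed L θ a ha, supp_eRed L θ]
          intro hh
          exact ha (by simpa [mul_assoc] using (inferInstance : L.Normal).conj_mem _ hh u)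
      have e3 : cj u y = y := by rw [hy, map_mul, e1, e2]
      conv_lhs => rw [← e3, coeff_cj']
      group
    have hsum : ∑ g, y.coeff g * (f g).trace = 0 := by
      letI : MulAction (P : Subgroup E) E :=
        { smul := fun u g => (u : E) * g * (u : E)⁻¹
          one_smul := fun g => by simp [HSMul.hSMul]
          mul_smul := fun u v g => by simp [HSMul.hSMul, mul_assoc] }
      rw [sum_eq_sum_fixed (p := p) P.isPGroup' (fun g => y.coeff g * (f g).trace)]
      · refine Finset.sum_eq_zero fun g hg => ?_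
        have hg' := (Finset.mem_filter.1 hg).2
        rw [hvan g, zero_mul]
        exact Subgroup.mem_centralizer_iff.2 fun u hu =>
          mul_inv_eq_iff_eq_mul.1 (hg' ⟨u, hu⟩)
      · intro u g
        show y.coeff ((u : E) * g * (u : E)⁻¹) * (f ((u : E) * g * (u : E)⁻¹)).trace = _
        rw [hfix u u.2, hfmul, hfmul, Matrix.trace_mul_comm, ← Matrix.mul_assoc, ← hfmul,
          inv_mul_cancel]
        simp [f]
    have htr : ∀ z : MonoidAlgebra (resField M) E,
        (linf f z).trace = ∑ g, z.coeff g * (f g).trace := fun z => by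
      simp [linf_apply, Matrix.trace_sum]
    rw [← htr, hy, linf_mul (fun a _ b _ => hfmul a b) (fun g hg => hεL g hg) hG.supp, hG.e_one,
      mul_one, htr, sum_eq_sum_subgroup C _ fun g hg => by rw [hεK g hg, zero_mul]] at hsum
    -- the multiplicity
    let r : L.subgroupOf (Subgroup.normalizer ((P : Subgroup E) : Set E)) →* L :=
      { toFun := fun l => ⟨((l : (Subgroup.normalizer ((P : Subgroup E) : Set E))) : E), l.2⟩, map_one' := rfl, map_mul' := fun _ _ => rfl }
    have hchar : IsCharacter (L.subgroupOf (Subgroup.normalizer ((P : Subgroup E) : Set E))) (resC (Subgroup.normalizer ((P : Subgroup E) : Set E)) L (θ : L → ℂ)) :=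
      IsCharacter.comp (irr_isCharacter θ) r
    obtain ⟨mu, hmu⟩ := IsCharacter.exists_decomp hchar
    have hmul : classInner (resC (Subgroup.normalizer ((P : Subgroup E) : Set E)) L (θ : L → ℂ)) (φ : L.subgroupOf (Subgroup.normalizer ((P : Subgroup E) : Set E)) → ℂ) = (mu φ : ℂ) := by
      rw [hmu, classInner_combination]
    have hndvd : ¬ p ∣ mu φ := hcorr _ hmul
    have hsumC : ∑ c : C, valR M C φ' c⁻¹ * valR M L θ ⟨(c : E), c.2.1⟩ =
        (Nat.card C : locRing M) * (mu φ : locRing M) := by
      refine Subtype.ext ?_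
      simp only [AddSubmonoidClass.coe_finsetSum, Subring.coe_mul, valR, SubringClass.coe_natCast]
      rw [← hmul]
      unfold classInner
      rw [Nat.card_congr eC.toEquiv, ← mul_assoc,
        mul_inv_cancel₀ (Nat.cast_ne_zero.2 Nat.card_pos.ne'), one_mul]
      refine Fintype.sum_equiv eC.toEquiv _ _ fun c => ?_
      rw [irr_inv φ' c, mul_comm]
      rfl
    have hk := congrArg (res M) hsumC
    simp only [map_sum, map_mul, map_natCast] at hk
    rw [Finset.sum_congr rfl fun (c : C) _ => show ε.coeff (c : E) * (f (c : E)).trace =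
      res M (valR M C φ' 1) / (Nat.card C : resField M) *
        (res M (valR M C φ' c⁻¹) * res M (valR M L θ ⟨(c : E), c.2.1⟩)) by
      rw [hε, coeff_eRed, htrL ⟨(c : E), c.2.1⟩, mul_assoc], ← Finset.mul_sum, hk, hval₁,
      map_natCast, ← mul_assoc, div_mul_cancel₀ _ hCcard0, mul_eq_zero] at hsum
    rcases hsum with h | h
    · exact (by simpa using hG₁.dim : ¬ p ∣ w₁) ((CharP.cast_eq_zero_iff _ p _).1 h)
    · exact hndvd ((CharP.cast_eq_zero_iff _ p _).1 h)
  have hτC : ∀ a ∈ C, ∀ b ∈ C, τ (a * b) = τ a * τ b := hGτ.mul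
  obtain ⟨hw₁w, htrC, -⟩ := hG₁.compare hτC hGτ.one hGτ.surj hw hne
  -- the quotient
  set P' := (P : Subgroup E).subgroupOf (Subgroup.normalizer ((P : Subgroup E) : Set E)) with hP'
  haveI : P'.Normal := Subgroup.normal_in_normalizer
  have hQ : ¬ p ∣ Nat.card ((Subgroup.normalizer ((P : Subgroup E) : Set E)) ⧸ P') := by
    intro h
    rw [← Subgroup.index_eq_card] at h
    have h2 : P'.index ∣ (P : Subgroup E).index :=
      Subgroup.relIndex_dvd_index_of_le Subgroup.le_normalizer
    exact P.not_dvd_index (h.trans h2)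
  haveI : Fintype ((Subgroup.normalizer ((P : Subgroup E) : Set E)) ⧸ P') := Fintype.ofFinite _
  set Q := (Subgroup.normalizer ((P : Subgroup E) : Set E)) ⧸ P'
  let τQ : Q → Matrix (Fin w) (Fin w) (resField M) := fun q => τ ((q.out : (Subgroup.normalizer ((P : Subgroup E) : Set E))) : E)
  have hτmk : ∀ n : (Subgroup.normalizer ((P : Subgroup E) : Set E)), τQ (QuotientGroup.mk n) = τ (n : E) := by
    intro n
    obtain ⟨u, hu⟩ := QuotientGroup.mk_out_eq_mul P' n
    show τ (((QuotientGroup.mk n : Q).out : (Subgroup.normalizer ((P : Subgroup E) : Set E))) : E) = _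
    rw [hu, Subgroup.coe_mul, hτN _ n.2 _ (u : (Subgroup.normalizer ((P : Subgroup E) : Set E))).2, hτP _ (Subgroup.mem_subgroupOf.1 u.2), mul_one]
  have hτQmul : ∀ a b : Q, τQ (a * b) = τQ a * τQ b := by
    intro a b
    induction a using QuotientGroup.induction_on with | _ a => ?_
    induction b using QuotientGroup.induction_on with | _ b => ?_
    rw [← QuotientGroup.mk_mul, hτmk, hτmk, hτmk, Subgroup.coe_mul, hτN _ a.2 _ b.2]
  have hτQ1 : τQ 1 = 1 := by
    rw [show (1 : Q) = QuotientGroup.mk (1 : (Subgroup.normalizer ((P : Subgroup E) : Set E))) from rfl, hτmk, Subgroup.coe_one, hGτ.one]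
  haveI : Fintype (⊤ : Subgroup Q) := Fintype.ofFinite _
  have hTop : ¬ p ∣ Nat.card (⊤ : Subgroup Q) := by rwa [Subgroup.card_top]
  obtain ⟨η, hη⟩ : ∃ η : IrrCharacter (⊤ : Subgroup Q), linf τQ (eRed M ⊤ η) ≠ 0 := by
    by_contra hc
    push Not at hc
    have h1 := congrArg (linf τQ) (sum_eRed (M := M) hM (⊤ : Subgroup Q) hTop)
    rw [map_sum, Finset.sum_eq_zero fun η _ => hc η, linf_one hτQ1] at h1
    haveI : Nonempty (Fin w) := ⟨⟨0, Nat.pos_of_ne_zero fun h => hw (by simp [h])⟩⟩
    exact zero_ne_one h1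
  obtain ⟨w₂, f₂, hG₂, hw₂, htr₂⟩ := exists_good (M := M) hM (⊤ : Subgroup Q) hTop η
  have hsurjQ : ∀ T, ∃ z : MonoidAlgebra (resField M) Q, Supp (⊤ : Subgroup Q) z ∧ linf τQ z = T := by
    intro T
    obtain ⟨y, hy, rfl⟩ := hGτ.surj T
    let π : E → Q := fun g => if h : g ∈ (Subgroup.normalizer ((P : Subgroup E) : Set E)) then QuotientGroup.mk (⟨g, h⟩ : (Subgroup.normalizer ((P : Subgroup E) : Set E))) else 1
    refine ⟨linf (fun g => MonoidAlgebra.single (π g) (1 : resField M)) y,
      fun g hg => absurd (Subgroup.mem_top g) hg, ?_⟩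
    rw [← linf_map (linf τQ)]
    refine linf_congr (fun g hg => ?_) hy
    rw [linf_single, one_smul]
    simp only [π, dif_pos (hCN hg), hτmk]
  obtain ⟨hw₂w, htrQ, hscal⟩ := hG₂.compare (fun a _ b _ => hτQmul a b) hτQ1 hsurjQ hw hη
  let pr : (Subgroup.normalizer ((P : Subgroup E) : Set E)) →* (⊤ : Subgroup Q) := Subgroup.topEquiv.symm.toMonoidHom.comp (QuotientGroup.mk' P')
  have hprsurj : Function.Surjective pr :=
    Subgroup.topEquiv.symm.surjective.comp (QuotientGroup.mk'_surjective P')
  let ψ' : IrrCharacter (Subgroup.normalizer ((P : Subgroup E) : Set E)) :=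
    ⟨fun n => (η : (⊤ : Subgroup Q) → ℂ) (pr n), IsIrrCharacter.comp η.2 pr hprsurj⟩
  refine ⟨ψ', ?_, ?_⟩
  · -- the restriction
    let χ : C → ℂ := fun c => (η : (⊤ : Subgroup Q) → ℂ) (pr ⟨(c : E), hCN c.2⟩)
    let inc : C →* (Subgroup.normalizer ((P : Subgroup E) : Set E)) := Subgroup.inclusion hCN
    have hχ : IsCharacter C χ := IsCharacter.comp (irr_isCharacter η) (pr.comp inc)
    obtain ⟨mu, hmu⟩ := IsCharacter.exists_decomp hχ
    have hin : classInner χ (φ' : C → ℂ) = (mu φ' : ℂ) := by rw [hmu, classInner_combination]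
    have hres : ∀ c : C, res M (valR M (⊤ : Subgroup Q) η (pr (inc c))) = res M (valR M C φ' c) := by
      intro c
      rw [← htr₂, ← htr₁, ← htrC _ c.2, ← htrQ _ (pr (inc c)).2]
      exact congrArg Matrix.trace (hτmk (inc c))
    have hsum1 : ∑ c : C, valR M (⊤ : Subgroup Q) η (pr (inc c)) * valR M C φ' c⁻¹ =
        (Nat.card C : locRing M) * (mu φ' : locRing M) := by
      refine Subtype.ext ?_
      simp only [AddSubmonoidClass.coe_finsetSum, Subring.coe_mul, valR, SubringClass.coe_natCast]
      rw [← hin]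
      unfold classInner
      rw [← mul_assoc, mul_inv_cancel₀ (Nat.cast_ne_zero.2 Nat.card_pos.ne'), one_mul]
      exact Finset.sum_congr rfl fun c _ => by rw [irr_inv φ' c]; rfl
    have hsum2 : ∑ c : C, valR M C φ' c * valR M C φ' c⁻¹ = (Nat.card C : locRing M) := by
      refine Subtype.ext ?_
      simp only [AddSubmonoidClass.coe_finsetSum, Subring.coe_mul, valR, SubringClass.coe_natCast]
      have := classInner_self_irr φ'.2
      unfold classInner at this
      rw [inv_mul_eq_one₀ (Nat.cast_ne_zero.2 Nat.card_pos.ne')] at this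
      rw [this]
      exact Finset.sum_congr rfl fun c _ => by rw [irr_inv φ' c]
    have hmu1 : mu φ' ≠ 0 := by
      intro h0
      have h1 := congrArg (res M) hsum1
      have h2 := congrArg (res M) hsum2
      simp only [map_sum, map_mul, map_natCast, hres, h0, Nat.cast_zero, mul_zero] at h1 h2
      exact hCcard0 (h2.symm.trans h1)
    have hdeg : ∀ ν : IrrCharacter C, ∃ n : ℕ, 0 < n ∧ (ν : C → ℂ) 1 = n := exists_deg
    choose dg hdg0 hdg using hdeg
    have hone : χ 1 = (w : ℂ) := by
      show (η : (⊤ : Subgroup Q) → ℂ) (pr (inc 1)) = _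
      rw [map_one, map_one, ← hw₂, hw₂w]
    have hdeg' : ∑ ν, mu ν * dg ν = dg φ' := by
      have h1 := congrFun hmu 1
      simp only [Finset.sum_apply, Pi.smul_apply, smul_eq_mul, hdg] at h1
      have h2 := hdg φ'
      rw [← hw₁, hw₁w] at h2
      rw [hone, h2] at h1
      exact_mod_cast h1.symm
    have key := Finset.add_sum_erase Finset.univ (fun ν => mu ν * dg ν) (Finset.mem_univ φ')
    have hge : dg φ' ≤ mu φ' * dg φ' := Nat.le_mul_of_pos_left _ (Nat.pos_of_ne_zero hmu1)
    have hz : ∑ ν ∈ Finset.univ.erase φ', mu ν * dg ν = 0 := by omega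
    have hmu1' : mu φ' = 1 := by
      have : mu φ' * dg φ' = 1 * dg φ' := by omega
      exact Nat.eq_of_mul_eq_mul_right (hdg0 φ') this
    have hχφ : χ = (φ' : C → ℂ) := by
      rw [hmu, Finset.sum_eq_single φ']
      · rw [hmu1', Nat.cast_one, one_smul]
      · intro ν _ hν
        have := (Finset.sum_eq_zero_iff.1 hz) ν (Finset.mem_erase.2 ⟨hν, Finset.mem_univ _⟩)
        rcases Nat.mul_eq_zero.1 this with h | h
        · rw [h, Nat.cast_zero, zero_smul]
        · exact absurd h (hdg0 ν).ne'
      · simp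
    intro c
    exact congrFun hχφ (eC.symm c)
  · -- the central elements
    intro z hz hzp ω hω
    have hord : orderOf (z : E) = orderOf z := Subgroup.orderOf_coe z
    obtain ⟨ω₀, hω₀, hω₀'⟩ := exists_central_root ψ hz
    have hωω : ω = ω₀ := mul_right_cancel₀ (irr_one_ne_zero ψ) (hω.symm.trans hω₀')
    subst hωω
    rw [hord] at hω₀
    have hzc : pr z ∈ Subgroup.center (⊤ : Subgroup Q) := by
      refine Subgroup.mem_center_iff.2 fun g => ?_
      obtain ⟨g, rfl⟩ := hprsurj g
      rw [← map_mul, ← map_mul]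
      exact congrArg pr (Subtype.ext (Subgroup.mem_center_iff.1 hz g))
    obtain ⟨ω', hω', hω''⟩ := exists_central_root η hzc
    have hω'z : ω' ^ orderOf z = 1 := by
      obtain ⟨k, hk⟩ := orderOf_map_dvd pr z
      rw [hk, pow_mul, hω', one_pow]
    have hpos : 0 < orderOf z := orderOf_pos z
    have hint : ∀ c : ℂ, c ^ orderOf z = 1 → c ∈ locRing M := fun c hc =>
      mem_locRing_of_isIntegral (IsIntegral.of_pow hpos (hc ▸ isIntegral_one))
    have hdk : (d : resField M) ≠ 0 := fun h => hdp ((CharP.cast_eq_zero_iff _ p _).1 h)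
    have hwk : (w : resField M) ≠ 0 := fun h => hw ((CharP.cast_eq_zero_iff _ p _).1 h)
    have hψ1 : (ψ : E → ℂ) 1 = (d : ℂ) := by rw [← hm 1, map_one, Matrix.trace_one]; simp
    -- the scalar
    obtain ⟨c, hc⟩ : f (z : E) ∈ Set.range (Matrix.scalar (Fin d)) := by
      refine Matrix.mem_range_scalar_of_commute_single fun i j _ => ?_
      obtain ⟨y, hy, hyl⟩ := hG.surj (Matrix.single i j 1)
      rw [← hyl]
      show linf f y * f (z : E) = f (z : E) * linf f y
      rw [linf_apply, Finset.sum_mul, Finset.mul_sum]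
      refine Finset.sum_congr rfl fun g _ => ?_
      rw [smul_mul_assoc, mul_smul_comm, ← hfmul, ← hfmul, Subgroup.mem_center_iff.1 hz g]
    have hfz : f (z : E) = c • (1 : Matrix (Fin d) (Fin d) (resField M)) := by
      rw [← hc, Matrix.smul_one_eq_diagonal]; rfl
    have hc1 : c = res M ⟨ω, hint ω hω₀⟩ := by
      have h1 : (f (z : E)).trace = res M ((m (z : E)).trace) := by
        simp only [f, Matrix.trace, map_sum, Matrix.diag_apply, Matrix.map_apply]
      have h2 : (m (z : E)).trace = (⟨ω, hint ω hω₀⟩ : locRing M) * (d : locRing M) :=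
        Subtype.ext (by rw [hm, hω, hψ1]; simp)
      rw [hfz, h2, map_mul, map_natCast, Matrix.trace_smul, Matrix.trace_one, Fintype.card_fin,
        smul_eq_mul] at h1
      exact mul_right_cancel₀ hdk h1
    have hτzc := hτz (z : E) hz c hfz
    have hc2 : c = res M ⟨ω', hint ω' hω'z⟩ := by
      have h1 : (τQ (QuotientGroup.mk z)).trace = c * (w : resField M) := by
        rw [hτmk, hτzc, Matrix.trace_smul, Matrix.trace_one, Fintype.card_fin, smul_eq_mul]
      have h2 : (τQ (QuotientGroup.mk z)).trace = res M (valR M (⊤ : Subgroup Q) η (pr z)) := by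
        rw [← htr₂]
        exact htrQ _ (pr z).2
      have h3 : valR M (⊤ : Subgroup Q) η (pr z) = (⟨ω', hint ω' hω'z⟩ : locRing M) * (w : locRing M) :=
        Subtype.ext (by simp [valR, hω'', ← hw₂, hw₂w])
      rw [h2, h3, map_mul, map_natCast] at h1
      exact (mul_right_cancel₀ hwk h1).symm
    have heq : ω' = ω := root_eq_of_res_eq hM hzp hω'z hω₀ (hint ω' hω'z) (hint ω hω₀)
      (hc2.symm.trans hc1)
    show (η : (⊤ : Subgroup Q) → ℂ) (pr z) = ω * (η : (⊤ : Subgroup Q) → ℂ) (pr 1)
    rw [map_one, hω'', heq]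

end Cfsg.Agent.FongDescent
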