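/-
Perfect isometries: inverse, composition, invariants, and the two basic examples (the identity of
a block and an induction bijection).
-/
import Cfsg.Agent.Lib.Blocks.KleinSigns
import Cfsg.Agent.Lib.Blocks.PConjDegree
import Cfsg.Agent.Lib.Blocks.SecondMain
import Cfsg.Prelude.Def_BlockLocal
import Cfsg.Prelude.Def_BlockRank

set_option linter.unusedSectionVars false
set_option linter.style.haveILetI false

namespace Cfsg.Agent.PerfectIso

open Cfsg Cfsg.Agent.Char Cfsg.Agent.Blocks
open scoped ComplexConjugate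

universe u v w

section Basic

variable {G : Type u} [Group G] [Fintype G] {H : Type v} [Group H] [Fintype H] {p : ℕ}
  {M : Ideal AlgInt} {c : Set (IrrCharacter H)} {b : Set (IrrCharacter G)}

open scoped Classical in
theorem kernel_apply (c : Set (IrrCharacter H)) (I : IrrCharacter H → IrrCharacter G)
    (ε : IrrCharacter H → ℤ) (x : G) (y : H) :
    signedBijectionKernel c I ε x y =
      ∑ η ∈ Finset.univ.filter (· ∈ c), (ε η : ℂ) * (I η : G → ℂ) x * (η : H → ℂ) y := by
  rw [signedBijectionKernel, finsum_mem_eq_finite_toFinset_sum _ (Set.toFinite c)]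
  exact Finset.sum_congr (by ext; simp) fun _ _ => rfl

theorem irr_conj_apply (χ : IrrCharacter G) (g h : G) :
    (χ : G → ℂ) (h * g * h⁻¹) = (χ : G → ℂ) g :=
  IsCharacter.isClassFunction (irr_isCharacter χ) g h

theorem kernel_conj_left (I : IrrCharacter H → IrrCharacter G) (ε : IrrCharacter H → ℤ)
    (x g : G) (y : H) :
    signedBijectionKernel c I ε (g * x * g⁻¹) y = signedBijectionKernel c I ε x y := by
  simp only [kernel_apply, irr_conj_apply]

theorem kernel_conj_right (I : IrrCharacter H → IrrCharacter G) (ε : IrrCharacter H → ℤ)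
    (x : G) (y h : H) :
    signedBijectionKernel c I ε x (h * y * h⁻¹) = signedBijectionKernel c I ε x y := by
  simp only [kernel_apply, irr_conj_apply]

theorem isPRegular_inv (y : H) : IsPRegular p y⁻¹ ↔ IsPRegular p y := by
  unfold IsPRegular
  rw [orderOf_inv]

theorem card_centralizer_inv (y : H) :
    Nat.card (Subgroup.centralizer ({y⁻¹} : Set H)) =
      Nat.card (Subgroup.centralizer ({y} : Set H)) := by
  have key : Subgroup.centralizer ({y⁻¹} : Set H) = Subgroup.centralizer ({y} : Set H) := by
    ext z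
    simp only [Subgroup.mem_centralizer_singleton_iff]
    exact (Commute.inv_right_iff : Commute z y⁻¹ ↔ Commute z y)
  rw [key]

/-- Orthogonality with the second argument inverted. -/
theorem sum_irr_mul_inv [DecidableEq (IrrCharacter H)] (η η' : IrrCharacter H) :
    ∑ y : H, (η : H → ℂ) y * (η' : H → ℂ) y⁻¹ = if η = η' then (Nat.card H : ℂ) else 0 := by
  have h := classInner_irr η.2 η'.2
  unfold classInner at h
  rw [inv_mul_eq_iff_eq_mul₀ (Nat.cast_ne_zero.2 Nat.card_pos.ne')] at h
  simp only [irr_inv]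
  rw [h]
  by_cases e : η = η'
  · rw [if_pos e, if_pos (congrArg Subtype.val e), mul_one]
  · rw [if_neg e, if_neg fun h' => e (Subtype.ext h'), mul_zero]

/-- The inverse of a perfect isometry. -/
theorem symm {I : IrrCharacter H → IrrCharacter G} {ε : IrrCharacter H → ℤ}
    (h : IsPerfectIsometry p M c b I ε) :
    ∃ (J : IrrCharacter G → IrrCharacter H) (δ : IrrCharacter G → ℤ),
      IsPerfectIsometry p M b c J δ := by
  classical
  haveI : Nonempty (IrrCharacter H) := ⟨⟨_, isIrrCharacter_one⟩⟩
  obtain ⟨hb, hε, hμ⟩ := h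
  have hinv := hb.invOn_invFunOn
  set J := Function.invFunOn I c
  refine ⟨J, fun χ => ε (J χ), hb.symm hinv.symm, fun χ hχ =>
    hε _ (hb.surjOn.mapsTo_invFunOn hχ), fun y x => ?_⟩
  have e : signedBijectionKernel b J (fun χ => ε (J χ)) y x = signedBijectionKernel c I ε x y := by
    rw [kernel_apply, kernel_apply]
    refine Finset.sum_nbij' J I (fun a ha => ?_) (fun a ha => ?_) (fun a ha => ?_) (fun a ha => ?_)
      fun χ hχ => ?_
    · simpa using hb.surjOn.mapsTo_invFunOn (by simpa using ha)
    · simpa using hb.mapsTo (by simpa using ha)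
    · exact hinv.2 (by simpa using ha)
    · exact hinv.1 (by simpa using ha)
    · rw [hinv.2 (by simpa using hχ)]; ring
  obtain ⟨h1, h2, h3⟩ := hμ x y
  rw [e]
  exact ⟨h2, h1, h3.imp Iff.symm id⟩

/-- Perfect isometries preserve the number of characters. -/
theorem card_eq {I : IrrCharacter H → IrrCharacter G} {ε : IrrCharacter H → ℤ}
    (h : IsPerfectIsometry p M c b I ε) : Nat.card c = Nat.card b :=
  Nat.card_congr (h.1.equiv I)

theorem blockRank_le {I : IrrCharacter H → IrrCharacter G} {ε : IrrCharacter H → ℤ}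
    (h : IsPerfectIsometry p M c b I ε) : blockRank p b ≤ blockRank p c := by
  classical
  obtain ⟨hb, hε, hμ⟩ := h
  let Φ : (H → ℂ) →ₗ[ℂ] G → ℂ :=
    { toFun := fun f => pRegularPart p fun x =>
        (Nat.card H : ℂ)⁻¹ * ∑ y : H, signedBijectionKernel c I ε x y * f y⁻¹
      map_add' := fun f g => by
        funext x
        simp only [pRegularPart, Pi.add_apply, mul_add, Finset.sum_add_distrib]
        split_ifs <;> simp
      map_smul' := fun t f => by
        funext x
        simp only [pRegularPart, Pi.smul_apply, smul_eq_mul, RingHom.id_apply]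
        split_ifs
        · rw [Finset.mul_sum, Finset.mul_sum, Finset.mul_sum]
          exact Finset.sum_congr rfl fun y _ => by ring
        · simp }
  have key : ∀ η ∈ c, Φ (pRegularPart p (η : H → ℂ)) =
      (ε η : ℂ) • pRegularPart p (I η : G → ℂ) := by
    intro η hη
    funext x
    simp only [Φ, LinearMap.coe_mk, AddHom.coe_mk, pRegularPart, Pi.smul_apply, smul_eq_mul]
    by_cases hx : IsPRegular p x
    · rw [if_pos hx, if_pos hx]
      have e : ∑ y : H, signedBijectionKernel c I ε x y *
          (if IsPRegular p y⁻¹ then (η : H → ℂ) y⁻¹ else 0) =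
          ∑ y : H, signedBijectionKernel c I ε x y * (η : H → ℂ) y⁻¹ := by
        refine Finset.sum_congr rfl fun y _ => ?_
        split_ifs with hy
        · rfl
        · have h3 := (hμ x y).2.2
          simp [h3.resolve_left fun e => hy ((isPRegular_inv y).2 (e.1 hx))]
      rw [e]
      simp only [kernel_apply, Finset.sum_mul, mul_assoc]
      rw [Finset.sum_comm]
      simp only [← Finset.mul_sum, sum_irr_mul_inv]
      rw [Finset.sum_eq_single η (fun η' _ hne => by rw [if_neg hne]; ring)
        (fun hn => absurd (Finset.mem_filter.2 ⟨Finset.mem_univ _, hη⟩) hn), if_pos rfl]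
      have hH : (Nat.card H : ℂ) ≠ 0 := Nat.cast_ne_zero.2 Nat.card_pos.ne'
      field_simp
    · rw [if_neg hx, if_neg hx, mul_zero]
  unfold blockRank
  refine le_trans (Submodule.finrank_mono ?_) (Submodule.finrank_map_le Φ _)
  rw [Submodule.span_le]
  rintro _ ⟨χ, hχ, rfl⟩
  obtain ⟨η, hη, rfl⟩ := hb.surjOn hχ
  have hne : (ε η : ℂ) ≠ 0 := by rcases hε η hη with e | e <;> rw [e] <;> norm_num
  have hmem : (ε η : ℂ) • pRegularPart p (I η : G → ℂ) ∈ Submodule.map Φ (Submodule.span ℂ
      ((fun χ : IrrCharacter H => pRegularPart p (χ : H → ℂ)) '' c)) :=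
    key η hη ▸ Submodule.mem_map_of_mem (Submodule.subset_span ⟨η, hη, rfl⟩)
  simpa [hne] using Submodule.smul_mem _ ((ε η : ℂ)⁻¹) hmem

theorem blockRank_eq {I : IrrCharacter H → IrrCharacter G} {ε : IrrCharacter H → ℤ}
    (h : IsPerfectIsometry p M c b I ε) : blockRank p c = blockRank p b := by
  obtain ⟨J, δ, h'⟩ := symm h
  exact le_antisymm (blockRank_le h') (blockRank_le h)

variable [M.IsPrime]

/-- The average of a class function that is locally divisible by the centraliser orders. -/
theorem avg_memLocalRing (f : H → ℂ) (hf : IsClassFunction H f)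
    (hdiv : ∀ y : H, MemLocalRing M (f y / (Nat.card (Subgroup.centralizer ({y} : Set H)) : ℂ))) :
    MemLocalRing M ((Nat.card H : ℂ)⁻¹ * ∑ y : H, f y) := by
  classical
  haveI : Finite (ConjClasses H) := Finite.of_surjective _ ConjClasses.mk_surjective
  haveI : Fintype (ConjClasses H) := Fintype.ofFinite _
  rw [PConj.sum_eq_sum_classes f hf, Finset.mul_sum]
  refine memLocalRing_sum _ _ fun C _ => ?_
  convert hdiv C.out using 1
  rw [← (Subgroup.centralizer ({C.out} : Set H)).card_mul_index]
  have h1 : (Nat.card (Subgroup.centralizer ({C.out} : Set H)) : ℂ) ≠ 0 :=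
    Nat.cast_ne_zero.2 Nat.card_pos.ne'
  have h2 : ((Subgroup.centralizer ({C.out} : Set H)).index : ℂ) ≠ 0 :=
    Nat.cast_ne_zero.2 Subgroup.index_ne_zero_of_finite
  push_cast
  field_simp

/-- Composition of perfect isometries. -/
theorem comp {L : Type w} [Group L] [Fintype L] {a : Set (IrrCharacter L)}
    {I : IrrCharacter L → IrrCharacter H} {ε : IrrCharacter L → ℤ}
    {I' : IrrCharacter H → IrrCharacter G} {ε' : IrrCharacter H → ℤ}
    (h : IsPerfectIsometry p M a c I ε) (h' : IsPerfectIsometry p M c b I' ε') :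
    IsPerfectIsometry p M a b (fun η => I' (I η)) (fun η => ε' (I η) * ε η) := by
  classical
  obtain ⟨hb, hε, hμ⟩ := h
  obtain ⟨hb', hε', hμ'⟩ := h'
  refine ⟨hb'.comp hb, fun η hη => ?_, fun x z => ?_⟩
  · rcases hε η hη with e | e <;> rcases hε' _ (hb.mapsTo hη) with e' | e' <;> simp [e, e']
  set μ := signedBijectionKernel a I ε
  set μ' := signedBijectionKernel c I' ε'
  have e : signedBijectionKernel a (fun η => I' (I η)) (fun η => ε' (I η) * ε η) x z =
      (Nat.card H : ℂ)⁻¹ * ∑ y : H, μ' x y⁻¹ * μ y z := by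
    simp only [μ, μ', kernel_apply, Finset.sum_mul_sum]
    rw [Finset.sum_comm (s := (Finset.univ : Finset H)), Finset.mul_sum]
    conv_rhs => enter [2, χ]; rw [Finset.sum_comm, Finset.mul_sum]
    rw [Finset.sum_comm (s := Finset.univ.filter (· ∈ c))]
    refine Finset.sum_congr rfl fun η hη => ?_
    have hη' : η ∈ a := (Finset.mem_filter.1 hη).2
    have e1 : ∀ χ : IrrCharacter H, ∑ y : H, (ε' χ : ℂ) * (I' χ : G → ℂ) x * (χ : H → ℂ) y⁻¹ *
        ((ε η : ℂ) * (I η : H → ℂ) y * (η : L → ℂ) z) =
        (ε' χ : ℂ) * (I' χ : G → ℂ) x * (ε η : ℂ) * (η : L → ℂ) z *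
          (if I η = χ then (Nat.card H : ℂ) else 0) := fun χ => by
      rw [← sum_irr_mul_inv, Finset.mul_sum]
      exact Finset.sum_congr rfl fun y _ => by ring
    simp only [e1]
    rw [← Finset.mul_sum, Finset.sum_eq_single (I η) (fun χ _ hne => by
        rw [if_neg (Ne.symm hne), mul_zero])
      (fun hn => absurd (Finset.mem_filter.2 ⟨Finset.mem_univ _, hb.mapsTo hη'⟩) hn), if_pos rfl]
    have hH : (Nat.card H : ℂ) ≠ 0 := Nat.cast_ne_zero.2 Nat.card_pos.ne'
    push_cast
    field_simp
  have hcl : IsClassFunction H fun y => μ' x y⁻¹ * μ y z := fun y g => by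
    simp only [μ, μ', kernel_conj_left]
    rw [show (g * y * g⁻¹)⁻¹ = g * y⁻¹ * g⁻¹ by group, kernel_conj_right]
  refine ⟨?_, ?_, ?_⟩
  · rw [e, mul_div_assoc, Finset.sum_div]
    refine avg_memLocalRing _ (fun y g => congrArg (· / _) (hcl y g)) fun y => ?_
    have := (locRing M).mul_mem (mem_locRing.2 (hμ' x y⁻¹).1) (mem_locRing.2 (hμ y z).1)
    refine mem_locRing.1 ?_
    convert this using 1
    ring
  · rw [e, mul_div_assoc, Finset.sum_div]
    refine avg_memLocalRing _ (fun y g => congrArg (· / _) (hcl y g)) fun y => ?_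
    have := (locRing M).mul_mem (mem_locRing.2 (hμ' x y⁻¹).2.1) (mem_locRing.2 (hμ y z).2.1)
    refine mem_locRing.1 ?_
    rw [card_centralizer_inv] at this
    convert this using 1
    ring
  · by_cases hxz : IsPRegular p x ↔ IsPRegular p z
    · exact .inl hxz
    · refine .inr ?_
      rw [e, Finset.sum_eq_zero fun y _ => ?_, mul_zero]
      rcases (hμ' x y⁻¹).2.2 with e1 | e1
      · rcases (hμ y z).2.2 with e2 | e2
        · exact absurd (e1.trans ((isPRegular_inv y).trans e2)) hxz
        · show μ' x y⁻¹ * μ y z = 0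
          rw [show μ y z = 0 from e2, mul_zero]
      · show μ' x y⁻¹ * μ y z = 0
        rw [show μ' x y⁻¹ = 0 from e1, zero_mul]

end Basic

section Examples

variable {G : Type u} [Group G] [Fintype G] {p : ℕ} {M : Ideal AlgInt} [M.IsPrime]

theorem blockPair_inv (B : Set (IrrCharacter G)) (x y : G) :
    blockPair B x y⁻¹ = ∑ᶠ χ ∈ B, (χ : G → ℂ) x * (χ : G → ℂ) y := by
  classical
  rw [blockPair_eq_finsum]
  simp only [irr_inv, Complex.conj_conj]

theorem blockPair_perfect (hM : IsPModular p M) {B : Set (IrrCharacter G)} (hB : IsPBlock M B)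
    (x z : G) :
    MemLocalRing M (blockPair B x z / (Nat.card (Subgroup.centralizer ({x} : Set G)) : ℂ)) ∧
      MemLocalRing M (blockPair B x z / (Nat.card (Subgroup.centralizer ({z} : Set G)) : ℂ)) ∧
      ((IsPRegular p x ↔ IsPRegular p z) ∨ blockPair B x z = 0) := by
  classical
  refine ⟨KleinSigns.blockPair_div_centralizer hB x z, ?_, ?_⟩
  · have e : blockPair B x z = blockPair B z⁻¹ x⁻¹ := by
      simp only [blockPair, irr_inv, Complex.conj_conj]
      exact Finset.sum_congr rfl fun χ _ => mul_comm _ _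
    rw [e, ← card_centralizer_inv]
    exact KleinSigns.blockPair_div_centralizer hB _ _
  · by_cases hx : p ∣ orderOf x <;> by_cases hz : p ∣ orderOf z
    · exact .inl (iff_of_false (not_not.2 hx) (not_not.2 hz))
    · right
      rw [← blockPair_conj, blockPair_regular_singular hM hB hz hx, map_zero]
    · exact .inr (blockPair_regular_singular hM hB hx hz)
    · exact .inl (iff_of_true hx hz)

theorem refl (hM : IsPModular p M) {B : Set (IrrCharacter G)} (hB : IsPBlock M B) :
    IsPerfectIsometry p M B B id (fun _ => 1) := by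
  refine ⟨Set.bijOn_id B, fun _ _ => .inl rfl, fun x y => ?_⟩
  have e : signedBijectionKernel B id (fun _ => 1) x y = blockPair B x y⁻¹ := by
    rw [blockPair_inv, signedBijectionKernel]
    simp
  obtain ⟨h1, h2, h3⟩ := blockPair_perfect hM hB x y⁻¹
  rw [e]
  rw [card_centralizer_inv] at h2
  exact ⟨h1, h2, by rwa [isPRegular_inv] at h3⟩

/-- An induction bijection between blocks is perfect with all signs positive. -/
theorem ind (hM : IsPModular p M) (T : Subgroup G) [Fintype T] {B' : Set (IrrCharacter T)}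
    (hB' : IsPBlock M B') {B : Set (IrrCharacter G)} {I : IrrCharacter T → IrrCharacter G}
    (hI : Set.BijOn I B' B) (hind : ∀ ψ ∈ B', (I ψ : G → ℂ) = indFun T (ψ : T → ℂ)) :
    IsPerfectIsometry p M B' B I (fun _ => 1) := by
  classical
  refine ⟨hI, fun _ _ => .inl rfl, fun x y => ?_⟩
  let f : T → ℂ := fun t => if IsConj x (t : G) then blockPair B' t y⁻¹ else 0
  have hfcl : IsClassFunction T f := fun t h => by
    have e1 : blockPair B' (h * t * h⁻¹) y⁻¹ = blockPair B' t y⁻¹ := by
      simp only [blockPair, irr_conj_apply]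
    have e2 : IsConj x ((h * t * h⁻¹ : T) : G) ↔ IsConj x (t : G) :=
      ⟨fun h' => h'.trans (isConj_iff.2 ⟨(h : G), by simp⟩).symm,
        fun h' => h'.trans (isConj_iff.2 ⟨(h : G), by simp⟩)⟩
    simp only [f, e1, e2]
  have e : signedBijectionKernel B' I (fun _ => 1) x y =
      (Nat.card (Subgroup.centralizer ({x} : Set G)) : ℂ) *
        ((Nat.card T : ℂ)⁻¹ * ∑ t : T, f t) := by
    have h1 : signedBijectionKernel B' I (fun _ => 1) x y =
        (Nat.card T : ℂ)⁻¹ * ∑ g : G,
          extendByZero T (fun t => blockPair B' t y⁻¹) (g⁻¹ * x * g) := by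
      rw [kernel_apply, Finset.mul_sum]
      rw [Finset.sum_congr rfl fun η hη => by
        rw [hind η (Finset.mem_filter.1 hη).2, indFun_apply, Int.cast_one, one_mul,
          mul_assoc, Finset.sum_mul, Finset.mul_sum]]
      rw [Finset.sum_comm]
      refine Finset.sum_congr rfl fun g _ => ?_
      rw [← Finset.mul_sum]
      congr 1
      by_cases hg : g⁻¹ * x * g ∈ T
      · rw [extendByZero_mem T _ hg]
        simp only [blockPair, irr_inv, Complex.conj_conj, extendByZero_mem T _ hg]
      · simp [extendByZero_not_mem T _ hg]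
    rw [h1, sum_conj_eq]
    rw [← mul_assoc, mul_comm (Nat.card T : ℂ)⁻¹, mul_assoc]
    congr 2
    rw [← Finset.sum_filter_of_ne (s := classFinset x) (p := (· ∈ T)) fun g _ hg => by
        by_contra hc
        exact hg (extendByZero_not_mem T _ hc)]
    simp only [f]
    rw [← Finset.sum_filter]
    refine Finset.sum_bij' (fun g hg => (⟨g, (Finset.mem_filter.1 hg).2⟩ : T))
      (fun t _ => (t : G)) ?_ ?_ (fun _ _ => rfl) (fun _ _ => rfl) ?_
    · intro g hg
      exact Finset.mem_filter.2 ⟨Finset.mem_univ _, mem_classFinset.1 (Finset.mem_filter.1 hg).1⟩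
    · intro t ht
      exact Finset.mem_filter.2 ⟨mem_classFinset.2 (Finset.mem_filter.1 ht).2, t.2⟩
    · intro g hg
      rw [extendByZero_mem T _ (Finset.mem_filter.1 hg).2]
  have hbp := fun t : T => blockPair_perfect hM hB' t y⁻¹
  refine ⟨?_, ?_, ?_⟩
  · rw [e, mul_div_cancel_left₀ _ (Nat.cast_ne_zero.2 Nat.card_pos.ne')]
    refine avg_memLocalRing f hfcl fun t => ?_
    simp only [f]
    split_ifs
    · exact (hbp t).1
    · rw [zero_div]; exact mem_locRing.1 (locRing M).zero_mem
  · rw [e, mul_left_comm, mul_div_assoc, Finset.mul_sum, Finset.sum_div]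
    refine avg_memLocalRing _ (fun t h => by simp only [hfcl t h]) fun t => ?_
    simp only [f]
    split_ifs with ht
    · obtain ⟨k, hk⟩ : Nat.card (Subgroup.centralizer ({t} : Set T)) ∣
          Nat.card (Subgroup.centralizer ({x} : Set G)) := by
        obtain ⟨g, hg⟩ := isConj_iff.1 ht
        rw [← card_centralizer_conj (g := x) (c := g), hg]
        rw [← Subgroup.card_map_of_injective (f := T.subtype) Subtype.val_injective
          (K := Subgroup.centralizer ({t} : Set T))]
        refine Subgroup.card_dvd_of_le ?_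
        rintro _ ⟨s, hs, rfl⟩
        rw [Subgroup.mem_centralizer_singleton_iff]
        exact congrArg Subtype.val (Subgroup.mem_centralizer_singleton_iff.1 hs)
      have h2 := (locRing M).mul_mem (natCast_mem (locRing M) k) (mem_locRing.2 (hbp t).2.1)
      refine mem_locRing.1 ?_
      convert h2 using 1
      rw [card_centralizer_inv, hk]
      have : (Nat.card (Subgroup.centralizer ({t} : Set T)) : ℂ) ≠ 0 :=
        Nat.cast_ne_zero.2 Nat.card_pos.ne'
      push_cast
      field_simp
    · rw [mul_zero, zero_div, zero_div]; exact mem_locRing.1 (locRing M).zero_mem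
  · by_cases hxy : IsPRegular p x ↔ IsPRegular p y
    · exact .inl hxy
    · refine .inr ?_
      rw [e, Finset.sum_eq_zero fun t _ => ?_, mul_zero, mul_zero]
      simp only [f]
      split_ifs with ht
      · refine (hbp t).2.2.resolve_left fun h' => hxy ?_
        obtain ⟨g, hg⟩ := isConj_iff.1 ht
        rw [← isPRegular_inv y, ← h']
        unfold IsPRegular
        rw [← Subgroup.orderOf_coe, ← hg, ← MulAut.conj_apply, MulEquiv.orderOf_eq]
      · rfl

end Examples

end Cfsg.Agent.PerfectIso
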