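/-
Defect groups and perfect isometries along isomorphisms.
-/
import Cfsg.Agent.Lib.S4643.Perfect
import Cfsg.Agent.Lib.BrauerPairs.Transport

set_option linter.unusedSectionVars false
set_option linter.style.haveILetI false

namespace Cfsg.Agent.FongDescent

open Cfsg Cfsg.Agent.Char Cfsg.Agent.Blocks Cfsg.Agent.BrauerPairs
open scoped ComplexConjugate

universe u v

variable {K : Type u} [Group K] [Fintype K] {K' : Type v} [Group K'] [Fintype K'] {p : ℕ}
  {M : Ideal AlgInt}

theorem blockCoeff_pullB (e : K ≃* K') (B : Set (IrrCharacter K')) (a : K) :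
    blockCoeff (pullB e B) a = blockCoeff B (e a) := by
  classical
  simp only [blockCoeff_eq_sum, Nat.card_congr e.toEquiv]
  congr 1
  refine Finset.sum_bij' (fun χ _ => pullIrr e.symm χ) (fun χ _ => pullIrr e χ)
    (fun χ hχ => Finset.mem_filter.2 ⟨Finset.mem_univ _, (Finset.mem_filter.1 hχ).2⟩)
    (fun χ hχ => Finset.mem_filter.2
      ⟨Finset.mem_univ _, (pullIrr_mem_pullB e B χ).2 (Finset.mem_filter.1 hχ).2⟩)
    (fun χ _ => pullIrr_pullIrr e χ) (fun χ _ => pullIrr_symm_pullIrr e χ)
    fun χ _ => by simp [pullIrr_apply]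

theorem card_centralizer_equiv (e : K ≃* K') (a : K) :
    Nat.card (Subgroup.centralizer ({a} : Set K)) =
      Nat.card (Subgroup.centralizer ({e a} : Set K')) := by
  refine Nat.card_congr (Equiv.subtypeEquiv e.toEquiv fun z => ?_)
  simp only [Subgroup.mem_centralizer_singleton_iff, MulEquiv.toEquiv_eq_coe, EquivLike.coe_coe,
    ← map_mul, e.injective.eq_iff]

variable [M.IsPrime]

theorem isDefectGroup_pullB [Fact p.Prime] (e : K ≃* K') {B : Set (IrrCharacter K')}
    {D : Subgroup K'} (hD : IsDefectGroup p M B D) :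
    IsDefectGroup p M (pullB e B) (D.comap e.toMonoidHom) := by
  obtain ⟨g, ⟨h1, h2, h3⟩, S, rfl⟩ := hD
  obtain ⟨a, rfl⟩ := e.surjective g
  refine ⟨a, ⟨?_, ?_, fun χ hχ => ?_⟩, ?_⟩
  · rwa [blockCoeff_pullB]
  · rwa [blockCoeff_pullB]
  · rw [← pullIrr_pullIrr e χ, centralChar_pullIrr]
    exact h3 _ hχ
  · have hle : (sylowImage S).comap e.toMonoidHom ≤ Subgroup.centralizer ({a} : Set K) := by
      intro u hu
      rw [Subgroup.mem_centralizer_singleton_iff]
      apply e.injective
      rw [map_mul, map_mul]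
      exact Subgroup.mem_centralizer_singleton_iff.1 (sylowImage_le S hu)
    have hcard : Nat.card ((sylowImage S).comap e.toMonoidHom) = Nat.card (sylowImage S) :=
      Nat.card_congr (Equiv.subtypeEquiv e.toEquiv fun _ => Iff.rfl)
    obtain ⟨Q, hQ⟩ := exists_sylowImage_ge
      ((isPGroup_sylowImage S).comap_of_injective e.toMonoidHom e.injective) hle
    refine ⟨Q, Subgroup.eq_of_le_of_card_ge hQ ?_⟩
    show Nat.card (sylowImage Q) ≤ Nat.card ((sylowImage S).comap e.toMonoidHom)
    rw [hcard, card_sylowImage, card_sylowImage, card_centralizer_equiv e a]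

/-- A block and its copy along an isomorphism are perfectly isometric. -/
theorem perfect_pullB (hM : IsPModular p M) (e : K ≃* K') {B : Set (IrrCharacter K')}
    (hB : IsPBlock M B) :
    IsPerfectIsometry p M B (pullB e B) (pullIrr e) (fun _ => 1) := by
  obtain ⟨-, -, hμ⟩ := PerfectIso.refl hM hB
  refine ⟨⟨fun χ hχ => (pullIrr_mem_pullB e B χ).2 hχ, fun a _ b _ h => by
      rw [← pullIrr_symm_pullIrr e a, h, pullIrr_symm_pullIrr],
    fun χ hχ => ⟨pullIrr e.symm χ, hχ, pullIrr_pullIrr e χ⟩⟩, fun _ _ => .inl rfl, fun x y => ?_⟩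
  have hk : signedBijectionKernel B (pullIrr e) (fun _ => 1) x y =
      signedBijectionKernel B id (fun _ => 1) (e x) y := rfl
  obtain ⟨h1, h2, h3⟩ := hμ (e x) y
  rw [hk, card_centralizer_equiv e x]
  refine ⟨h1, h2, ?_⟩
  unfold IsPRegular at h3 ⊢
  rwa [MulEquiv.orderOf_eq] at h3

end Cfsg.Agent.FongDescent
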