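/-
The Fong–Reynolds reduction of the perfect isometry to the invariant case.
-/
import Cfsg.Agent.Lib.S4643.Glauber
import Cfsg.Agent.Lib.S4643.Cover
import Cfsg.Agent.Lib.S4643.Transport
import Cfsg.Agent.Lib.Blocks.FongReynolds
import Cfsg.Agent.Lib.Blocks.FirstMain

set_option linter.unusedSectionVars false
set_option linter.style.haveILetI false

namespace Cfsg.Agent.FongDescent

open Cfsg MonoidAlgebra Cfsg.Agent.Char Cfsg.Agent.Blocks Cfsg.Agent.BrauerPairs
open scoped ComplexConjugate

universe u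

/-! ## General facts -/

section General

variable {G : Type u} [Group G] [Fintype G] {p : ℕ} {M : Ideal AlgInt} [M.IsPrime]

theorem singleton_isPBlock (hM : IsPModular p M) (K : Subgroup G) [Fintype K]
    (hK : ¬ p ∣ Nat.card K) (θ : IrrCharacter K) : IsPBlock M ({θ} : Set (IrrCharacter K)) := by
  refine ⟨θ, (blockOf_eq_singleton hM θ ?_).symm⟩
  have h1 : (Nat.card K).factorization p = 0 := Nat.factorization_eq_zero_of_not_dvd hK
  have h2 := degExp_le_card (p := p) θ
  omega

/-- The Fong–Reynolds bijection as a perfect isometry. -/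
theorem fr_isometry (hM : IsPModular p M) (N : Subgroup G) [N.Normal] [Fintype N] {T : Subgroup G}
    [Fintype T] (hNT : N ≤ T) (b : Set (IrrCharacter N))
    (hstab : ∀ g : G, g ∈ T ↔ ∀ θ ∈ b, cjIrr N g θ ∈ b) (hb : IsPBlock M b)
    {B' : Set (IrrCharacter T)} (hB' : IsPBlock M B')
    (hcov : ∃ ψ ∈ B', FongReynolds.Over N hNT b ψ) {B : Set (IrrCharacter G)}
    (hind : IsInducedBlock M T B' B) :
    ∃ I : IrrCharacter T → IrrCharacter G, IsPerfectIsometry p M B' B I (fun _ => 1) := by
  classical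
  obtain ⟨B₀, j, -, irr, hmem⟩ := FongReynolds.fong_reynolds N hNT b hstab hb hM hB' hcov
  obtain rfl := isInducedBlock_unique j hind
  have hall := FongReynolds.over_of_block (M := M) N hNT b hB' hb hstab hcov
  let I : IrrCharacter T → IrrCharacter G := fun ψ =>
    if h : IsIrrCharacter G (indFun T (ψ : T → ℂ)) then ⟨_, h⟩
    else ⟨fun _ => 1, isIrrCharacter_one⟩
  have hI : ∀ ψ ∈ B', (I ψ : G → ℂ) = indFun T (ψ : T → ℂ) := fun ψ hψ => by
    simp only [I, dif_pos (irr ψ hψ)]
  refine ⟨I, PerfectIso.ind hM T hB'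
    ⟨fun ψ hψ => (hmem _).2 ⟨ψ, hψ, hI ψ hψ⟩, fun ψ hψ ψ' hψ' he => ?_, fun χ hχ => ?_⟩ hI⟩
  · obtain ⟨χ, hχ, hc, hcon⟩ := FongReynolds.isIrr_ind N hNT b hstab hb (hall ψ hψ)
    obtain ⟨χ', hχ', hc', -⟩ := FongReynolds.isIrr_ind N hNT b hstab hb (hall ψ' hψ')
    obtain rfl : χ = χ' := Subtype.ext (by
      rw [hχ, hχ', ← hI ψ hψ, ← hI ψ' hψ', he])
    obtain ⟨θ, hθ, hθc⟩ := hall ψ hψ
    obtain ⟨ψ₀, -, -, huniq⟩ := FongReynolds.exists_inducing N hNT b hstab hb hθ (hcon θ hθc)
    exact (huniq ψ hc (hall ψ hψ)).trans (huniq ψ' hc' (hall ψ' hψ')).symm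
  · obtain ⟨ψ, hψ, e⟩ := (hmem χ).1 hχ
    exact ⟨ψ, hψ, Subtype.ext ((hI ψ hψ).trans e.symm)⟩

end General

/-! ## The invariant case -/

section Invariant

variable {G : Type u} [Group G] [Fintype G] {p : ℕ} [hp : Fact p.Prime]

/-- In a `p`-solvable group an abelian Sylow subgroup maps onto `O_p` of the quotient by
`O_{p'}`. -/
theorem map_sylow_eq_pCore (hsolv : IsPSolvable p G) (S : Sylow p G)
    (hab : ∀ x ∈ (S : Subgroup G), ∀ y ∈ (S : Subgroup G), x * y = y * x)
    [(pPrimeCore p G).Normal] :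
    (S : Subgroup G).map (QuotientGroup.mk' (pPrimeCore p G)) = pCore p (G ⧸ pPrimeCore p G) := by
  set f := QuotientGroup.mk' (pPrimeCore p G)
  have hfs : Function.Surjective f := QuotientGroup.mk'_surjective _
  have hle : pCore p (G ⧸ pPrimeCore p G) ≤ (S : Subgroup G).map f :=
    PBasic.pCore_le_sylow (S.mapSurjective hfs)
  refine le_antisymm (le_trans ?_ (Cfsg.Agent.PSolvable.centralizer_pCore_le
    (Cfsg.Agent.PSolvable.quotient _ hsolv) (PBasic.pPrimeCore_quotient_pPrimeCore p G))) hle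
  rintro _ ⟨x, hx, rfl⟩
  refine Subgroup.mem_centralizer_iff.2 fun y hy => ?_
  obtain ⟨z, hz, rfl⟩ := hle hy
  rw [← map_mul, ← map_mul, hab x hx z hz]

theorem sup_sylow_normal (hsolv : IsPSolvable p G) (S : Sylow p G)
    (hab : ∀ x ∈ (S : Subgroup G), ∀ y ∈ (S : Subgroup G), x * y = y * x) :
    (pPrimeCore p G ⊔ (S : Subgroup G)).Normal := by
  haveI := PBasic.pPrimeCore_characteristic p G
  haveI : (pCore p (G ⧸ pPrimeCore p G)).Normal := Cfsg.pCore_normal p _
  have e : pPrimeCore p G ⊔ (S : Subgroup G) =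
      (pCore p (G ⧸ pPrimeCore p G)).comap (QuotientGroup.mk' (pPrimeCore p G)) := by
    rw [← map_sylow_eq_pCore hsolv S hab, Subgroup.comap_map_eq, QuotientGroup.ker_mk', sup_comm]
  rw [e]
  exact Subgroup.Normal.comap inferInstance _

/-- `O_{p'}` of the normaliser of an abelian Sylow subgroup. -/
theorem pPrimeCore_normalizer (hsolv : IsPSolvable p G) (S : Sylow p G)
    (hab : ∀ x ∈ (S : Subgroup G), ∀ y ∈ (S : Subgroup G), x * y = y * x) :
    (pPrimeCore p G).subgroupOf (Subgroup.normalizer ((S : Subgroup G) : Set G)) =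
      pPrimeCore p (Subgroup.normalizer ((S : Subgroup G) : Set G)) := by
  haveI := PBasic.pPrimeCore_characteristic p G
  set N := Subgroup.normalizer ((S : Subgroup G) : Set G)
  refine le_antisymm (PBasic.le_pPrimeCore inferInstance ?_) fun x hx => ?_
  · refine Nat.Coprime.coprime_dvd_left ?_ (PBasic.pPrimeCore_coprime p G)
    exact Subgroup.card_comap_dvd_of_injective _ N.subtype Subtype.val_injective
  · haveI : ((S : Subgroup G).subgroupOf N).Normal := Subgroup.normal_in_normalizer
    haveI : (pPrimeCore p N).Normal := by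
      haveI := PBasic.pPrimeCore_characteristic p N
      infer_instance
    have hQ : IsPGroup p ((S : Subgroup G).subgroupOf N) :=
      S.isPGroup'.comap_of_injective _ Subtype.val_injective
    have hcomm : ∀ u ∈ (S : Subgroup G), (x : G) * u = u * x := fun u hu => by
      have h := Subgroup.commute_of_normal_of_disjoint (pPrimeCore p N)
        ((S : Subgroup G).subgroupOf N) inferInstance inferInstance
        (disjoint_iff.2 (PBasic.inf_eq_bot_of_coprime (PBasic.pPrimeCore_coprime p N) hQ))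
        x ⟨u, Subgroup.le_normalizer hu⟩ hx (Subgroup.mem_subgroupOf.2 hu)
      exact congrArg Subtype.val h.eq
    set f := QuotientGroup.mk' (pPrimeCore p G)
    have h1 : f x ∈ pCore p (G ⧸ pPrimeCore p G) := by
      refine Cfsg.Agent.PSolvable.centralizer_pCore_le (Cfsg.Agent.PSolvable.quotient _ hsolv)
        (PBasic.pPrimeCore_quotient_pPrimeCore p G) ?_
      rw [← map_sylow_eq_pCore hsolv S hab]
      refine Subgroup.mem_centralizer_iff.2 fun y hy => ?_
      obtain ⟨u, hu, rfl⟩ := hy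
      rw [← map_mul, ← map_mul, hcomm u hu]
    have h2 : (orderOf (f x)).Coprime p := by
      refine Nat.Coprime.coprime_dvd_left (orderOf_map_dvd f (x : G)) ?_
      rw [Subgroup.orderOf_coe]
      exact PBasic.coprime_orderOf_of_mem (PBasic.pPrimeCore_coprime p N) hx
    have h3 : f x = 1 := PBasic.eq_one_of_isPGroup_of_coprime
      (PBasic.pCore_isPGroup p _) h1 h2
    exact Subgroup.mem_subgroupOf.2 ((QuotientGroup.eq_one_iff _).1 h3)

end Invariant

/-! ## The reduction -/

variable {p : ℕ} [hp : Fact p.Prime] {M : Ideal AlgInt}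

theorem exists_isometry_of_card (hM : IsPModular p M) (hinv : InvariantCase.{u} p M) :
    ∀ (n : ℕ) (G : Type u) [Group G] [Fintype G], Nat.card G = n → IsPSolvable p G →
    ∀ (P : Subgroup G) [Fintype (Subgroup.normalizer (P : Set G))],
      (∀ x ∈ P, ∀ y ∈ P, x * y = y * x) →
    ∀ (B : Set (IrrCharacter G)) (c : Set (IrrCharacter (Subgroup.normalizer (P : Set G)))),
      IsPBlock M B → IsDefectGroup p M B P →
      IsDefectGroup p M c (P.subgroupOf (Subgroup.normalizer (P : Set G))) →
      IsInducedBlock M (Subgroup.normalizer (P : Set G)) c B →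
      ∃ (I : IrrCharacter (Subgroup.normalizer (P : Set G)) → IrrCharacter G)
        (ε : IrrCharacter (Subgroup.normalizer (P : Set G)) → ℤ),
        IsPerfectIsometry p M c B I ε := by
  intro n
  induction n using Nat.strong_induction_on with
  | _ n IH =>
    intro G _ _ hn hsolv P _ hab
    classical
    haveI : M.IsPrime := hM.2.1.isPrime
    haveI := PBasic.pPrimeCore_characteristic p G
    set K := pPrimeCore p G with hKdef
    haveI : Fintype K := Fintype.ofFinite _
    set N := Subgroup.normalizer (P : Set G) with hN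
    intro B c hB hPD hcD hc
    haveI : Fintype (K.subgroupOf N) := Fintype.ofFinite _
    have hK : ¬ p ∣ Nat.card K := (hp.out.coprime_iff_not_dvd).1
      (PBasic.pPrimeCore_coprime p G).symm
    have hKn : ¬ p ∣ Nat.card (K.subgroupOf N) := fun h => hK (h.trans
      (Subgroup.card_comap_dvd_of_injective _ N.subtype Subtype.val_injective))
    have hP : IsPGroup p P := isPGroup_defectGroup hPD
    obtain ⟨ξ, hξ⟩ := isPBlock_nonempty hc.1
    obtain ⟨γ, hγ⟩ := exists_restrict_constituent ξ.2 (K.subgroupOf N)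
    obtain ⟨θ, hθP, hcorr⟩ := exists_corr_over K P hP hK γ
    set T := inertia K (θ : K → ℂ) with hTdef
    have hT : ∀ g : G, g ∈ T ↔ cjIrr K g θ = θ := fun g =>
      ⟨fun h => Subtype.ext h, fun h => congrArg Subtype.val h⟩
    have hKT : K ≤ T := le_inertia K (IsCharacter.isClassFunction (irr_isCharacter θ))
    have hPT : P ≤ T := fun u hu => (hT u).2 (hθP u hu)
    have hstabN : ∀ g : N, (g : G) ∈ T ↔ cjIrr (K.subgroupOf N) g γ = γ := fun g =>
      (hT _).trans (mem_inertia_iff_corr K P hP hK hθP hcorr g)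
    by_cases htop : T = ⊤
    · -- the invariant case
      have hθ : ∀ g : G, cjIrr K g θ = θ := fun g => (hT g).1 (htop ▸ Subgroup.mem_top g)
      have hover := mem_overSet_of_induced K N hM hK hθ
        (fun g => (hstabN g).1 (htop ▸ Subgroup.mem_top _)) hcorr hc hξ hγ
      obtain ⟨B₀, hB₀, hmem₀, -, hsyl⟩ := fong_solvable hM hsolv K hKdef hK θ hθ
      have hBeq : B = B₀ := by
        obtain ⟨χ, hχ⟩ := isPBlock_nonempty hB
        exact isPBlock_eq_of_mem hB hB₀ hχ ((hmem₀ χ).2 (hover χ hχ))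
      have hBset : B = overSet K θ := by
        rw [hBeq]; exact Set.ext fun χ => hmem₀ χ
      obtain ⟨S, rfl⟩ := hsyl P (hBeq ▸ hPD)
      obtain ⟨b₀, hb₀, hmemN, -, -⟩ := fong_solvable (G := N) hM
        (Cfsg.Agent.PSolvable.subgroup N hsolv) (K.subgroupOf N)
        (pPrimeCore_normalizer hsolv S hab) hKn γ
        (fun g => (hstabN g).1 (htop ▸ Subgroup.mem_top _))
      have hcset : c = overSet (K.subgroupOf N) γ := by
        rw [isPBlock_eq_of_mem hc.1 hb₀ hξ ((hmemN ξ).2 hγ)]
        exact Set.ext fun χ => hmemN χ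
      rw [hcset, hBset]
      exact hinv G K S θ hKdef hsolv hab (sup_sylow_normal hsolv S hab) hθ γ hcorr
    -- a proper inertia group
    haveI : Fintype T := Fintype.ofFinite _
    have hlt : Nat.card T < n := hn ▸ lt_of_le_of_ne (Subgroup.card_le_card_group _)
      fun h => htop (Subgroup.eq_top_of_card_eq _ h)
    -- Fong–Reynolds in the normaliser
    haveI : Fintype (T.subgroupOf N) := Fintype.ofFinite _
    have hKTN : K.subgroupOf N ≤ T.subgroupOf N := Subgroup.comap_mono hKT
    have hsN : ∀ g : N, g ∈ T.subgroupOf N ↔ ∀ φ ∈ ({γ} : Set (IrrCharacter (K.subgroupOf N))),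
        cjIrr (K.subgroupOf N) g φ ∈ ({γ} : Set (IrrCharacter (K.subgroupOf N))) := fun g => by
      simp only [Subgroup.mem_subgroupOf, hstabN g, Set.mem_singleton_iff, forall_eq]
    have hbN := singleton_isPBlock hM (K.subgroupOf N) hKn γ
    obtain ⟨ψ, hψo, hψξ, -⟩ := FongReynolds.exists_inducing (K.subgroupOf N) hKTN {γ} hsN hbN
      (Set.mem_singleton γ) (χ := ξ) hγ
    set c₀ := blockOf M (ψ : T.subgroupOf N → ℂ) with hc₀
    have hc₀b : IsPBlock M c₀ := isPBlock_blockOf ψ
    have hc₀ψ : ψ ∈ c₀ := self_mem_blockOf ψ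
    obtain ⟨c₁, hc₁, -, -, hmem₁⟩ := FongReynolds.fong_reynolds (K.subgroupOf N) hKTN {γ} hsN hbN
      hM hc₀b ⟨ψ, hc₀ψ, hψo⟩
    obtain rfl : c₁ = c := isPBlock_eq_of_mem hc₁.2.1 hc.1 ((hmem₁ ξ).2 ⟨ψ, hc₀ψ, hψξ⟩) hξ
    obtain ⟨I₁, hI₁⟩ := fr_isometry hM (K.subgroupOf N) hKTN {γ} hsN hbN hc₀b
      ⟨ψ, hc₀ψ, hψo⟩ hc₁
    -- its defect group
    obtain ⟨D, hD⟩ := exists_isDefectGroup (p := p) hc₀b
    haveI : (P.subgroupOf N).Normal := Subgroup.normal_in_normalizer
    have hDmap : D.map (T.subgroupOf N).subtype = P.subgroupOf N := by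
      have h1 := (FongReynolds.fong_reynolds_heights (K.subgroupOf N) hKTN {γ} hsN hbN hM hc₀b
        ⟨ψ, hc₀ψ, hψo⟩ hc₁).1 D hD
      obtain ⟨x, hx⟩ := defectGroup_conj hM hc.1 h1 hcD
      rw [hx]
      exact Subgroup.Normal.map_conj_eq (H := P.subgroupOf N) x
    have hDeq : D = (P.subgroupOf N).subgroupOf (T.subgroupOf N) := by
      rw [← hDmap]
      exact (Subgroup.comap_map_eq_self_of_injective Subtype.val_injective D).symm
    -- the same block seen inside the inertia group
    set PT := P.subgroupOf T with hPTdef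
    set NT := Subgroup.normalizer (PT : Set T) with hNT
    haveI : Fintype NT := Fintype.ofFinite _
    have hmemNT : ∀ t : T, t ∈ NT ↔ (t : G) ∈ N := by
      intro t
      rw [hNT, hN, Subgroup.mem_normalizer_iff, Subgroup.mem_normalizer_iff]
      refine ⟨fun h u => ⟨fun hu => ?_, fun hu => ?_⟩, fun h u => h (u : G)⟩
      · exact (h ⟨u, hPT hu⟩).1 hu
      · have huT : u ∈ T := by
          have := T.mul_mem (T.mul_mem (T.inv_mem t.2) (hPT hu)) t.2
          simpa [mul_assoc] using this
        exact (h ⟨u, huT⟩).2 hu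
    let e : NT ≃* T.subgroupOf N :=
      { toFun := fun x => ⟨⟨((x : T) : G), (hmemNT _).1 x.2⟩, (x : T).2⟩
        invFun := fun y => ⟨⟨((y : N) : G), y.2⟩, (hmemNT _).2 (y : N).2⟩
        left_inv := fun _ => rfl
        right_inv := fun _ => rfl
        map_mul' := fun _ _ => rfl }
    set c' := pullB e c₀ with hc'
    have hc'b : IsPBlock M c' := isPBlock_pullB e hc₀b
    have hc'D : IsDefectGroup p M c' (PT.subgroupOf NT) := by
      have h1 := isDefectGroup_pullB (M := M) e hD
      have h2 : D.comap e.toMonoidHom = PT.subgroupOf NT := by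
        rw [hDeq]; rfl
      rwa [h2] at h1
    have hPTp : IsPGroup p PT := hP.comap_of_injective _ Subtype.val_injective
    obtain ⟨B', hB', hB'D, hB'ind⟩ := (first_main hM hPTp).1 c' hc'b hc'D
    -- it covers `θ`
    haveI : Fintype (K.subgroupOf T) := Fintype.ofFinite _
    haveI : Fintype ((K.subgroupOf T).subgroupOf NT) := Fintype.ofFinite _
    let eK : K.subgroupOf T ≃* K := Subgroup.subgroupOfEquivOfLe hKT
    let θT : IrrCharacter (K.subgroupOf T) := pullIrr eK θ
    have hθT : ∀ t : T, cjIrr (K.subgroupOf T) t θT = θT := fun t =>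
      Subtype.ext (funext fun k => congrFun (congrArg Subtype.val ((hT _).1 t.2)) (eK k))
    let w : (K.subgroupOf T).subgroupOf NT ≃* K.subgroupOf N :=
      { toFun := fun k => ⟨(e (k : NT) : N), k.2⟩
        invFun := fun k => ⟨e.symm ⟨(k : N), hKTN k.2⟩, k.2⟩
        left_inv := fun _ => rfl
        right_inv := fun _ => rfl
        map_mul' := fun _ _ => rfl }
    let γ' : IrrCharacter ((K.subgroupOf T).subgroupOf NT) := pullIrr w γ
    have hγ' : ∀ x : NT, cjIrr ((K.subgroupOf T).subgroupOf NT) x γ' = γ' := fun x =>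
      Subtype.ext (funext fun k =>
        congrFun (congrArg Subtype.val ((hstabN (e x : N)).1 (e x).2)) (w k))
    have hcorr' : Corr p NT (K.subgroupOf T) θT γ' := by
      intro m hm
      refine hcorr m ?_
      rw [← hm]
      unfold classInner
      rw [Nat.card_congr w.toEquiv]
      congr 1
      exact (Fintype.sum_equiv w.toEquiv _ _ fun k => rfl).symm
    have hKTp : ¬ p ∣ Nat.card (K.subgroupOf T) := by rwa [Nat.card_congr eK.toEquiv]
    have hξ'o : pullIrr e ψ ∈ overSet ((K.subgroupOf T).subgroupOf NT) γ' := by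
      obtain ⟨φ, rfl : φ = γ, hφ⟩ := hψo
      show _ ≠ 0
      convert hφ using 1
      unfold classInner
      rw [Nat.card_congr w.toEquiv]
      congr 1
      exact Fintype.sum_equiv w.toEquiv _ _ fun k => rfl
    have hoverT := mem_overSet_of_induced (K.subgroupOf T) NT hM hKTp hθT hγ' hcorr' hB'ind
      (ξ := pullIrr e ψ) ((pullIrr_mem_pullB e c₀ ψ).2 hc₀ψ) hξ'o
    obtain ⟨χ', hχ'⟩ := isPBlock_nonempty hB'
    have hχ'o : FongReynolds.Over K hKT {θ} χ' := by
      refine ⟨θ, rfl, ?_⟩
      have h1 : classInner _ _ ≠ 0 := hoverT χ' hχ'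
      convert h1 using 1
      unfold classInner
      rw [Nat.card_congr eK.toEquiv]
      congr 1
      exact (Fintype.sum_equiv eK.toEquiv _ _ fun k => rfl).symm
    -- Fong–Reynolds in the group
    have hsG : ∀ g : G, g ∈ T ↔ ∀ φ ∈ ({θ} : Set (IrrCharacter K)),
        cjIrr K g φ ∈ ({θ} : Set (IrrCharacter K)) := fun g => by
      simp only [hT g, Set.mem_singleton_iff, forall_eq]
    have hbG := singleton_isPBlock hM K hK θ
    obtain ⟨B'', hB'', -, -, -⟩ := FongReynolds.fong_reynolds K hKT {θ} hsG hbG hM hB'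
      ⟨χ', hχ', hχ'o⟩
    obtain ⟨χ'', hχ''⟩ := isPBlock_nonempty hB''.2.1
    obtain ⟨χ, hχ⟩ := isPBlock_nonempty hB
    obtain rfl : B'' = B := by
      refine isPBlock_eq_of_mem hB''.2.1 hB hχ'' (isPBlock_mem_of_sameBlock hB hχ ?_)
      intro g
      have hz : IsClassElt (classSum (locRing M) g) := isClassElt_classSum g
      have a1 := isInducedBlock_omegaR hB'' hχ' hχ'' hz
      have a2 := isInducedBlock_omegaR hB'ind ((pullIrr_mem_pullB e c₀ ψ).2 hc₀ψ) hχ'
        (IsClassElt.restrictElt hz T)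
      have a3 := isInducedBlock_omegaR hc₁ hc₀ψ hξ (IsClassElt.restrictElt hz N)
      have a4 := isInducedBlock_omegaR hc hξ hχ hz
      have e1 : omegaR (pullIrr e ψ) (restrictElt NT (restrictElt T (classSum (locRing M) g))) =
          omegaR ψ (restrictElt (T.subgroupOf N) (restrictElt N (classSum (locRing M) g))) := by
        rw [omega_eq_sum_div, omega_eq_sum_div, pullIrr_apply, map_one]
        congr 1
        refine Fintype.sum_equiv e.toEquiv _ _ fun x => ?_
        simp only [coeff_restrictElt, pullIrr_apply]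
        rfl
      rw [omegaR_classSum] at a1 a4
      rw [e1] at a2
      have := MemLocalIdeal.sub (MemLocalIdeal.add a3 a4) (MemLocalIdeal.add a2 a1)
      have h5 := MemLocalIdeal.neg this
      convert h5 using 1
      ring
    obtain ⟨I₄, hI₄⟩ := fr_isometry hM K hKT {θ} hsG hbG hB' ⟨χ', hχ', hχ'o⟩ hB''
    obtain ⟨I₃, ε₃, hI₃⟩ := IH _ hlt T rfl (Cfsg.Agent.PSolvable.subgroup T hsolv) PT
      (fun x hx y hy => Subtype.ext (hab _ hx _ hy)) B' c' hB' hB'D hc'D hB'ind
    obtain ⟨J₁, δ₁, hJ₁⟩ := PerfectIso.symm hI₁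
    exact ⟨_, _, PerfectIso.comp (PerfectIso.comp (PerfectIso.comp hJ₁
      (perfect_pullB hM e hc₀b)) hI₃) hI₄⟩

/-- The perfect isometry, granted the invariant case. -/
theorem exists_isometry (hM : IsPModular p M) (hinv : InvariantCase.{u} p M) {G : Type u}
    [Group G] [Finite G] (hsolv : IsPSolvable p G) {B : Set (IrrCharacter G)} (hB : IsPBlock M B)
    {P : Subgroup G} (hPD : IsDefectGroup p M B P) (hab : ∀ x ∈ P, ∀ y ∈ P, x * y = y * x)
    {c : Set (IrrCharacter (Subgroup.normalizer (P : Set G)))}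
    (hcD : IsDefectGroup p M c (P.subgroupOf (Subgroup.normalizer (P : Set G))))
    (hc : IsInducedBlock M (Subgroup.normalizer (P : Set G)) c B) :
    Nat.card c = Nat.card B ∧ blockRank p c = blockRank p B ∧
      ∃ (I : IrrCharacter (Subgroup.normalizer (P : Set G)) → IrrCharacter G)
        (ε : IrrCharacter (Subgroup.normalizer (P : Set G)) → ℤ),
        IsPerfectIsometry p M c B I ε := by
  haveI : Fintype G := Fintype.ofFinite G
  haveI : Fintype (Subgroup.normalizer (P : Set G)) := Fintype.ofFinite _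
  obtain ⟨I, ε, h⟩ := exists_isometry_of_card hM hinv _ G rfl hsolv P hab B c hB hPD hcD hc
  exact ⟨PerfectIso.card_eq h, PerfectIso.blockRank_eq h, I, ε, h⟩

end Cfsg.Agent.FongDescent
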