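/-
Character triples with kernels of order prime to `p`: the bijection with twisted characters and
the divisibility of the twisted column sums.
-/
import Cfsg.Agent.Lib.S4643.Iface
import Cfsg.Agent.Lib.RelMcKay.Triple
import Cfsg.Agent.Lib.Char.Complete

set_option linter.unusedSectionVars false
set_option linter.style.haveILetI false

namespace Cfsg.Agent.FongDescent

open Cfsg Cfsg.Agent.Char Cfsg.Agent.Blocks
open scoped ComplexConjugate

universe u

variable {E Y X : Type u} [Group E] [Fintype E] [Group Y] [Fintype Y] [Group X] [Fintype X]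

/-- A central cover `g` and a quotient `q` with kernels of order prime to `p`, and a character
that is irreducible on the kernel of `q` and scalar on the kernel of `g`. -/
structure Triple (p : ℕ) (g : E →* Y) (q : E →* X) (ψ : IrrCharacter E) (c : E → ℂ) : Prop where
  gsurj : Function.Surjective g
  qsurj : Function.Surjective q
  irrL : IsIrrCharacter q.ker (fun l : q.ker => (ψ : E → ℂ) l)
  cent : g.ker ≤ Subgroup.center E
  scal : ∀ e : E, ∀ z ∈ g.ker, (ψ : E → ℂ) (e * z) = c z * (ψ : E → ℂ) e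
  pg : ¬ p ∣ Nat.card g.ker
  pq : ¬ p ∣ Nat.card q.ker

/-- The characters of `X` with the inverse scalars on the kernel of `g`. -/
def twisted (g : E →* Y) (q : E →* X) (c : E → ℂ) : Set (IrrCharacter X) :=
  {β | ∀ e : E, ∀ z ∈ g.ker, (β : X → ℂ) (q (e * z)) * c z = (β : X → ℂ) (q e)}

/-- The characters of `Y` over the restriction of `ψ`. -/
def tripleOver (g : E →* Y) (q : E →* X) (ψ : IrrCharacter E) [Fintype q.ker] :
    Set (IrrCharacter Y) :=
  {χ | classInner (fun l : q.ker => (χ : Y → ℂ) (g l)) (fun l : q.ker => (ψ : E → ℂ) l) ≠ 0}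

variable {p : ℕ} {g : E →* Y} {q : E →* X} {ψ : IrrCharacter E} {c : E → ℂ}

namespace Triple

theorem c_mul (h : Triple p g q ψ c) {z z' : E} (hz : z ∈ g.ker) (hz' : z' ∈ g.ker) :
    c (z * z') = c z * c z' := by
  refine mul_right_cancel₀ (irr_one_ne_zero ψ) ?_
  rw [← h.scal 1 _ (mul_mem hz hz'), one_mul, h.scal z z' hz',
    show (ψ : E → ℂ) z = c z * (ψ : E → ℂ) 1 from by rw [← h.scal 1 z hz, one_mul]]
  ring

theorem exists_scalar (h : Triple p g q ψ c) (β : IrrCharacter X) {z : E} (hz : z ∈ g.ker) :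
    ∃ w : ℂ, ∀ x : X, (β : X → ℂ) (x * q z) = w * (β : X → ℂ) x := by
  have hc : q z ∈ Subgroup.center X := Subgroup.mem_center_iff.2 fun x => by
    obtain ⟨e, rfl⟩ := h.qsurj x
    rw [← map_mul, ← map_mul, Subgroup.mem_center_iff.1 (h.cent hz) e]
  obtain ⟨w, -, hw, -⟩ := IsIrrCharacter.exists_central_scalar β.2 hc
  exact ⟨w, fun x => by rw [Subgroup.mem_center_iff.1 hc x]; exact hw x⟩

theorem mem_twisted_of_one (h : Triple p g q ψ c) {β : IrrCharacter X}
    (h1 : ∀ z ∈ g.ker, (β : X → ℂ) (q z) * c z = (β : X → ℂ) 1) : β ∈ twisted g q c := by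
  intro e z hz
  obtain ⟨w, hw⟩ := h.exists_scalar β hz
  have h2 := h1 z hz
  rw [← one_mul (q z), hw] at h2
  have h3 : w * c z = 1 := mul_right_cancel₀ (irr_one_ne_zero β) (by linear_combination h2)
  rw [map_mul, hw]
  linear_combination (β : X → ℂ) (q e) * h3

theorem exists_of_over [Fintype q.ker] (h : Triple p g q ψ c) {χ : IrrCharacter Y}
    (hχ : χ ∈ tripleOver g q ψ) :
    ∃ β ∈ twisted g q c, ∀ e, (χ : Y → ℂ) (g e) = (β : X → ℂ) (q e) * (ψ : E → ℂ) e := by
  classical
  obtain ⟨-, -, hG3⟩ := gallagher_one q.ker (irr_isCharacter ψ) h.irrL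
  obtain ⟨β', hβ', heq⟩ := hG3 (fun e => (χ : Y → ℂ) (g e)) (IsIrrCharacter.comp χ.2 g h.gsurj) hχ
  obtain ⟨β, hβ⟩ := RelMcKay.exists_factor h.qsurj β'.2 fun e he =>
    hβ' ⟨e, MonoidHom.mem_ker.2 he⟩
  have hmul : ∀ e, (χ : Y → ℂ) (g e) = (β : X → ℂ) (q e) * (ψ : E → ℂ) e := fun e => by
    rw [← hβ, ← congrFun heq e, Pi.mul_apply]
  refine ⟨β, h.mem_twisted_of_one fun z hz => ?_, hmul⟩
  have h1 := hmul z
  have h2 := hmul 1
  rw [MonoidHom.mem_ker.1 hz, ← one_mul z, h.scal 1 z hz, one_mul] at h1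
  rw [map_one, map_one] at h2
  rw [h2] at h1
  exact mul_right_cancel₀ (irr_one_ne_zero ψ) (by linear_combination -h1)

theorem exists_of_twisted [Fintype q.ker] (h : Triple p g q ψ c) {β : IrrCharacter X}
    (hβ : β ∈ twisted g q c) :
    ∃ χ ∈ tripleOver g q ψ, ∀ e, (χ : Y → ℂ) (g e) = (β : X → ℂ) (q e) * (ψ : E → ℂ) e := by
  classical
  obtain ⟨hG1, -, -⟩ := gallagher_one q.ker (irr_isCharacter ψ) h.irrL
  let β' : IrrCharacter E :=
    ⟨fun e => (β : X → ℂ) (q e), IsIrrCharacter.comp β.2 q h.qsurj⟩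
  have hirr := hG1 β' fun n => by
    show (β : X → ℂ) (q n) = (β : X → ℂ) (q 1)
    rw [MonoidHom.mem_ker.1 n.2, map_one]
  obtain ⟨χ, hχ⟩ := RelMcKay.exists_factor h.gsurj hirr fun e he => by
    show (β : X → ℂ) (q e) * (ψ : E → ℂ) e = (β : X → ℂ) (q 1) * (ψ : E → ℂ) 1
    have h1 := hβ 1 e (MonoidHom.mem_ker.2 he)
    have h2 := h.scal 1 e (MonoidHom.mem_ker.2 he)
    rw [one_mul] at h1 h2
    rw [h2, ← h1]
    ring
  refine ⟨χ, ?_, fun e => (hχ e).symm⟩
  show classInner (fun l : q.ker => (χ : Y → ℂ) (g l)) _ ≠ 0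
  rw [show (fun l : q.ker => (χ : Y → ℂ) (g l)) =
      (β : X → ℂ) 1 • fun l : q.ker => (ψ : E → ℂ) l from funext fun l => by
    rw [← hχ]
    show (β : X → ℂ) (q l) * (ψ : E → ℂ) l = _
    rw [MonoidHom.mem_ker.1 l.2]; rfl,
    classInner_smul_left, classInner_self_irr h.irrL, mul_one]
  exact irr_one_ne_zero β

/-- The bijection between the twisted characters and those over `ψ`. -/
theorem exists_bijOn [Fintype q.ker] (h : Triple p g q ψ c) :
    ∃ Φ : IrrCharacter X → IrrCharacter Y, Set.BijOn Φ (twisted g q c) (tripleOver g q ψ) ∧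
      ∀ β ∈ twisted g q c, ∀ e,
        (Φ β : Y → ℂ) (g e) = (β : X → ℂ) (q e) * (ψ : E → ℂ) e := by
  classical
  let Φ : IrrCharacter X → IrrCharacter Y := fun β =>
    if hβ : β ∈ twisted g q c then (h.exists_of_twisted hβ).choose
    else ⟨fun _ => 1, isIrrCharacter_one⟩
  have hΦ : ∀ β ∈ twisted g q c, Φ β ∈ tripleOver g q ψ ∧
      ∀ e, (Φ β : Y → ℂ) (g e) = (β : X → ℂ) (q e) * (ψ : E → ℂ) e := fun β hβ => by
    simp only [Φ, dif_pos hβ]
    exact (h.exists_of_twisted hβ).choose_spec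
  refine ⟨Φ, ⟨fun β hβ => (hΦ β hβ).1, fun β hβ β' hβ' he => ?_, fun χ hχ => ?_⟩,
    fun β hβ => (hΦ β hβ).2⟩
  · obtain ⟨-, hG2, -⟩ := gallagher_one q.ker (irr_isCharacter ψ) h.irrL
    have h2 := hG2 ⟨fun e => (β : X → ℂ) (q e), IsIrrCharacter.comp β.2 q h.qsurj⟩
      ⟨fun e => (β' : X → ℂ) (q e), IsIrrCharacter.comp β'.2 q h.qsurj⟩
      (fun n => by
        show (β : X → ℂ) (q n) = (β : X → ℂ) (q 1)
        rw [MonoidHom.mem_ker.1 n.2, map_one])
      (fun n => by
        show (β' : X → ℂ) (q n) = (β' : X → ℂ) (q 1)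
        rw [MonoidHom.mem_ker.1 n.2, map_one])
      (funext fun e => ((hΦ β hβ).2 e).symm.trans (he ▸ (hΦ β' hβ').2 e))
    refine Subtype.ext (funext fun x => ?_)
    obtain ⟨e, rfl⟩ := h.qsurj x
    exact congrFun (congrArg Subtype.val h2) e
  · obtain ⟨β, hβ, hmul⟩ := h.exists_of_over hχ
    refine ⟨β, hβ, Subtype.ext (funext fun y => ?_)⟩
    obtain ⟨e, rfl⟩ := h.gsurj y
    rw [(hΦ β hβ).2 e, hmul e]

end Triple

/-! ## Regularity and centralisers along a kernel of order prime to `p` -/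

theorem isPRegular_map_iff [Fact p.Prime] (f : E →* X) (hf : ¬ p ∣ Nat.card f.ker) (e : E) :
    IsPRegular p (f e) ↔ IsPRegular p e := by
  refine ⟨fun h hd => ?_, fun h hd => h (hd.trans (orderOf_map_dvd f e))⟩
  have h1 : e ^ orderOf (f e) ∈ f.ker := by
    rw [MonoidHom.mem_ker, map_pow, pow_orderOf_eq_one]
  have h2 : e ^ (orderOf (f e) * Nat.card f.ker) = 1 := by
    rw [pow_mul]
    exact congrArg Subtype.val (pow_card_eq_one' (x := (⟨_, h1⟩ : f.ker)))
  exact ((Fact.out : p.Prime).dvd_mul.1 (hd.trans (orderOf_dvd_of_pow_eq_one h2))).elim h hf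

/-- The `p`-part of the centraliser of `g e` divides the centraliser of `q e`. -/
theorem Triple.pow_dvd_card [Fact p.Prime] (h : Triple p g q ψ c) (e : E) :
    p ^ (Nat.card (Subgroup.centralizer ({g e} : Set Y))).factorization p ∣
      Nat.card (Subgroup.centralizer ({q e} : Set X)) := by
  classical
  obtain ⟨Q⟩ : Nonempty (Sylow p (Subgroup.centralizer ({g e} : Set Y))) := inferInstance
  set C := Subgroup.centralizer ({g e} : Set Y)
  set Q' : Subgroup Y := (Q : Subgroup C).map C.subtype with hQ'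
  set H := Q'.comap g with hH
  obtain ⟨R⟩ : Nonempty (Sylow p H) := inferInstance
  set R' : Subgroup E := (R : Subgroup H).map H.subtype with hR'
  have hcardQ : Nat.card Q' = p ^ (Nat.card C).factorization p := by
    rw [hQ', Subgroup.card_map_of_injective C.subtype_injective, Q.card_eq_multiplicity]
  have hcardH : Nat.card H = Nat.card g.ker * Nat.card Q' := by
    have h1 : Nat.card E = Nat.card g.ker * Nat.card Y := by
      rw [← g.ker.card_mul_index, Subgroup.index_ker, MonoidHom.range_eq_top.2 h.gsurj,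
        Subgroup.card_top]
    have h2 := H.card_mul_index
    rw [hH, Subgroup.index_comap_of_surjective _ h.gsurj, h1, ← Q'.card_mul_index] at h2
    rw [hH]
    refine Nat.eq_of_mul_eq_mul_right (Nat.pos_of_ne_zero (Subgroup.index_ne_zero_of_finite (H := Q'))) ?_
    rw [h2]; ring
  have hcardR : Nat.card R' = p ^ (Nat.card C).factorization p := by
    rw [hR', Subgroup.card_map_of_injective H.subtype_injective, R.card_eq_multiplicity, hcardH,
      hcardQ, Nat.factorization_mul Nat.card_pos.ne' (pow_ne_zero _ (Fact.out : p.Prime).ne_zero),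
      Finsupp.add_apply, Nat.factorization_eq_zero_of_not_dvd h.pg, zero_add,
      Nat.Prime.factorization_pow (Fact.out), Finsupp.single_eq_same]
  have hR'p : IsPGroup p R' := R.isPGroup'.map _
  have hcomm : ∀ u ∈ R', u * e = e * u := by
    rintro _ ⟨u, hu, rfl⟩
    have hgu : g u ∈ C := Subgroup.map_subtype_le _ u.2
    set d := (u : E) * e * (u : E)⁻¹ * e⁻¹ with hd
    have hdk : d ∈ g.ker := by
      rw [MonoidHom.mem_ker, hd, map_mul, map_mul, map_mul, map_inv, map_inv,
        Subgroup.mem_centralizer_singleton_iff.1 hgu, mul_inv_cancel_right, mul_inv_cancel]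
    have hpow : ∀ n : ℕ, (u : E) ^ n * e * ((u : E) ^ n)⁻¹ = d ^ n * e := by
      intro n
      induction n with
      | zero => simp
      | succ n ih =>
        have hc := Subgroup.mem_center_iff.1 (pow_mem (h.cent hdk) n) (u : E)
        rw [show (u : E) ^ (n + 1) * e * ((u : E) ^ (n + 1))⁻¹ =
          (u : E) * ((u : E) ^ n * e * ((u : E) ^ n)⁻¹) * (u : E)⁻¹ by rw [pow_succ']; group, ih,
          ← mul_assoc, hc, pow_succ, hd]
        group
    obtain ⟨k, hk⟩ := hR'p ⟨u, u, hu, rfl⟩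
    have hk' : (u : E) ^ p ^ k = 1 := by simpa using congrArg Subtype.val hk
    have h1 := hpow (p ^ k)
    rw [hk', one_mul, inv_one, mul_one, eq_comm, mul_eq_right] at h1
    have h2 : d ^ Nat.card g.ker = 1 :=
      congrArg Subtype.val (pow_card_eq_one' (x := (⟨d, hdk⟩ : g.ker)))
    have h3 : d = 1 := orderOf_eq_one_iff.1 (Nat.eq_one_of_dvd_coprimes
      (Nat.Coprime.pow_left k ((Fact.out : p.Prime).coprime_iff_not_dvd.2 h.pg))
      (orderOf_dvd_of_pow_eq_one h1) (orderOf_dvd_of_pow_eq_one h2))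
    rw [hd, mul_inv_eq_one, mul_inv_eq_iff_eq_mul] at h3
    exact h3
  have hinj : Function.Injective (q.comp R'.subtype) := by
    rw [injective_iff_map_eq_one]
    intro u hu
    obtain ⟨k, hk⟩ := hR'p u
    have h2 : (u : E) ^ Nat.card q.ker = 1 :=
      congrArg Subtype.val (pow_card_eq_one' (x := (⟨u, MonoidHom.mem_ker.2 hu⟩ : q.ker)))
    exact Subtype.ext (orderOf_eq_one_iff.1 (Nat.eq_one_of_dvd_coprimes
      (Nat.Coprime.pow_left k ((Fact.out : p.Prime).coprime_iff_not_dvd.2 h.pq))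
      (orderOf_dvd_of_pow_eq_one (by simpa using congrArg Subtype.val hk))
      (orderOf_dvd_of_pow_eq_one h2)))
  rw [← hcardR, ← Subgroup.card_top (G := R'), ← Subgroup.card_map_of_injective hinj]
  refine Subgroup.card_dvd_of_le ?_
  rintro _ ⟨u, -, rfl⟩
  rw [Subgroup.mem_centralizer_singleton_iff]
  show q u * q e = q e * q u
  rw [← map_mul, ← map_mul, hcomm u u.2]

/-! ## The twisted column sums -/

open scoped Classical in
/-- The twisted column sum. -/
noncomputable def twistSum (g : E →* Y) (q : E →* X) (c : E → ℂ) (a b : X) : ℂ :=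
  ∑ β ∈ Finset.univ.filter (· ∈ twisted g q c), (β : X → ℂ) a * (β : X → ℂ) b

variable [Fintype g.ker]

theorem Triple.twistSum_eq (h : Triple p g q ψ c) (a b : X) :
    twistSum g q c a b = (Nat.card g.ker : ℂ)⁻¹ * ∑ z : g.ker, c z *
      ∑ β : IrrCharacter X, (β : X → ℂ) (a * q z) * conj ((β : X → ℂ) b⁻¹) := by
  classical
  simp only [Finset.mul_sum]
  rw [Finset.sum_comm, twistSum, Finset.sum_filter]
  refine Finset.sum_congr rfl fun β _ => ?_
  have hb : conj ((β : X → ℂ) b⁻¹) = (β : X → ℂ) b := by rw [← irr_inv, inv_inv]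
  rw [hb]
  choose w hw using fun z : g.ker => h.exists_scalar β z.2
  let f : g.ker → ℂ := fun z => c z * w z
  have hsum : ∑ z : g.ker, f z = if β ∈ twisted g q c then (Nat.card g.ker : ℂ) else 0 := by
    have hone : ∀ z : g.ker, (β : X → ℂ) (q z) = w z * (β : X → ℂ) 1 := fun z => by
      rw [← one_mul (q z), hw]
    split_ifs with hβ
    · have hf : ∀ z : g.ker, f z = 1 := fun z => by
        have h1 := hβ 1 z z.2
        rw [one_mul, map_one, hone] at h1
        exact mul_right_cancel₀ (irr_one_ne_zero β) (by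
          show c z * w z * _ = _
          linear_combination h1)
      rw [Finset.sum_congr rfl fun z _ => hf z, Finset.sum_const, Finset.card_univ, nsmul_eq_mul,
        mul_one, Nat.card_eq_fintype_card]
    · obtain ⟨z₀, hz₀⟩ : ∃ z₀ : g.ker, f z₀ ≠ 1 := by
        by_contra hall
        push Not at hall
        refine hβ (h.mem_twisted_of_one fun z hz => ?_)
        rw [hone ⟨z, hz⟩]
        have := hall ⟨z, hz⟩
        simp only [f] at this
        linear_combination (β : X → ℂ) 1 * this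
      have hmul : ∀ z : g.ker, f (z₀ * z) = f z₀ * f z := fun z => by
        have h1 : w (z₀ * z) * (β : X → ℂ) 1 = w z₀ * w z * (β : X → ℂ) 1 := by
          rw [← hone, show q ((z₀ * z : g.ker) : E) = q z₀ * q z from map_mul q _ _, hw, hone]
          ring
        have h2 := mul_right_cancel₀ (irr_one_ne_zero β) h1
        simp only [f, h2, Subgroup.coe_mul, h.c_mul z₀.2 z.2]
        ring
      have h3 : ∑ z : g.ker, f z = f z₀ * ∑ z : g.ker, f z := by
        rw [Finset.mul_sum]
        exact Fintype.sum_equiv (Equiv.mulLeft z₀⁻¹) _ _ fun z => by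
          rw [← hmul, Equiv.coe_mulLeft, mul_inv_cancel_left]
      have h4 : (f z₀ - 1) * ∑ z : g.ker, f z = 0 := by linear_combination -h3
      exact (mul_eq_zero.1 h4).resolve_left (sub_ne_zero.2 hz₀)
  have e : ∀ z : g.ker, (Nat.card g.ker : ℂ)⁻¹ * (c z * ((β : X → ℂ) (a * q z) * (β : X → ℂ) b)) =
      f z * ((Nat.card g.ker : ℂ)⁻¹ * ((β : X → ℂ) a * (β : X → ℂ) b)) := fun z => by
    rw [hw]; simp only [f]; ring
  rw [Finset.sum_congr rfl fun z _ => e z, ← Finset.sum_mul, hsum]
  have : (Nat.card g.ker : ℂ) ≠ 0 := Nat.cast_ne_zero.2 Nat.card_pos.ne'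
  split_ifs
  · field_simp
  · rw [zero_mul]

variable {M : Ideal AlgInt} [M.IsPrime]

theorem Triple.twistSum_perfect [Fact p.Prime] (h : Triple p g q ψ c) (hM : IsPModular p M)
    (e : E) (b : X) :
    MemLocalRing M ((ψ : E → ℂ) e * twistSum g q c (q e) b /
        (Nat.card (Subgroup.centralizer ({g e} : Set Y)) : ℂ)) ∧
      ((IsPRegular p (g e) ↔ IsPRegular p b) ∨ twistSum g q c (q e) b = 0) := by
  classical
  have hcent : ∀ z : g.ker, q z ∈ Subgroup.center X := fun z => Subgroup.mem_center_iff.2 fun x => by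
    obtain ⟨e', rfl⟩ := h.qsurj x
    rw [← map_mul, ← map_mul, Subgroup.mem_center_iff.1 (h.cent z.2) e']
  have hCz : ∀ z : g.ker, Subgroup.centralizer ({q e * q z} : Set X) =
      Subgroup.centralizer ({q e} : Set X) := fun z => by
    ext x
    simp only [Subgroup.mem_centralizer_singleton_iff]
    rw [← mul_assoc, mul_assoc (q e) (q z) x, ← Subgroup.mem_center_iff.1 (hcent z) x, ← mul_assoc,
      mul_left_inj]
  have hcol : ∀ z : g.ker, ∑ β : IrrCharacter X, (β : X → ℂ) (q e * q z) * conj ((β : X → ℂ) b⁻¹) =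
      if IsConj (q e * q z) b⁻¹ then (Nat.card (Subgroup.centralizer ({q e} : Set X)) : ℂ)
      else 0 := fun z => by
    split_ifs with hz
    · rw [column_orth_of_isConj hz, hCz]
    · exact column_orth_of_not_isConj hz
  refine ⟨?_, ?_⟩
  · obtain ⟨m, hm⟩ := h.pow_dvd_card e
    set C := Nat.card (Subgroup.centralizer ({g e} : Set Y)) with hC
    set v := C.factorization p
    obtain ⟨r, hr⟩ : p ^ v ∣ C := Nat.ordProj_dvd C p
    have hr0 : ¬ p ∣ r := by
      intro hd
      have h1 : p ^ (v + 1) ∣ C := by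
        rw [hr, pow_succ]
        exact mul_dvd_mul_left _ hd
      exact Nat.pow_succ_factorization_not_dvd (Nat.card_pos.ne' : C ≠ 0) (Fact.out) h1
    have hval : (ψ : E → ℂ) e * twistSum g q c (q e) b / (C : ℂ) =
        (ψ : E → ℂ) e * ((Nat.card g.ker : ℂ)⁻¹ * ∑ z : g.ker,
          if IsConj (q e * q z) b⁻¹ then c z else 0) * (m : ℂ) * (r : ℂ)⁻¹ := by
      rw [h.twistSum_eq]
      simp only [hcol, mul_ite, mul_zero]
      rw [hm, hr]
      have hp0 : ((p : ℂ) ^ v) ≠ 0 := pow_ne_zero _ (Nat.cast_ne_zero.2 (Fact.out : p.Prime).ne_zero)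
      have hr1 : (r : ℂ) ≠ 0 := Nat.cast_ne_zero.2 fun e => hr0 (e ▸ dvd_zero p)
      rw [show ∑ z : g.ker, (if IsConj (q e * q z) b⁻¹ then c z * ((p ^ v * m : ℕ) : ℂ) else 0) =
        (∑ z : g.ker, if IsConj (q e * q z) b⁻¹ then c z else 0) * ((p ^ v * m : ℕ) : ℂ) by
          rw [Finset.sum_mul]
          exact Finset.sum_congr rfl fun z _ => by split_ifs <;> simp]
      push_cast
      field_simp
    rw [hval]
    refine mem_locRing.1 ((locRing M).mul_mem ((locRing M).mul_mem ((locRing M).mul_mem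
      (mem_locRing_of_isIntegral (irr_isIntegral ψ e)) ((locRing M).mul_mem
        (mem_locRing.2 (inv_natCast_memLocalRing hM h.pg)) ((locRing M).sum_mem fun z _ => ?_)))
      (natCast_mem (locRing M) m)) (mem_locRing.2 (inv_natCast_memLocalRing hM hr0)))
    split_ifs
    · -- scalars are roots of unity
      refine mem_locRing_of_isIntegral (IsIntegral.of_pow (n := orderOf (z : E)) (orderOf_pos _) ?_)
      have hpow : ∀ n : ℕ, c ((z : E) ^ n) = c z ^ n := by
        intro n
        induction n with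
        | zero =>
          rw [pow_zero, pow_zero]
          refine mul_right_cancel₀ (irr_one_ne_zero ψ) ?_
          rw [← h.scal 1 1 (one_mem _), one_mul, one_mul]
        | succ n ih => rw [pow_succ, pow_succ, h.c_mul (pow_mem z.2 n) z.2, ih]
      rw [← hpow, pow_orderOf_eq_one]
      have h0 := hpow 0
      rw [pow_zero, pow_zero] at h0
      rw [h0]
      exact isIntegral_one
    · exact zero_mem _
  · by_cases hreg : IsPRegular p (g e) ↔ IsPRegular p b
    · exact .inl hreg
    · refine .inr ?_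
      rw [h.twistSum_eq, Finset.sum_eq_zero fun z _ => ?_, mul_zero]
      rw [hcol z, if_neg fun hz => hreg ?_, mul_zero]
      rw [← map_mul] at hz
      obtain ⟨d, hd⟩ := isConj_iff.1 hz
      have h1 : IsPRegular p b ↔ IsPRegular p (q (e * z)) := by
        unfold IsPRegular
        rw [← orderOf_inv b, ← hd, ← MulAut.conj_apply, MulEquiv.orderOf_eq]
      have h2 : g (e * z) = g e := by rw [map_mul, MonoidHom.mem_ker.1 z.2, mul_one]
      rw [h1, isPRegular_map_iff q h.pq, ← isPRegular_map_iff g h.pg, h2]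

end Cfsg.Agent.FongDescent
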