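/-
The invariant case from the transfer of an extension to the normaliser of the Sylow subgroup.
-/
import Cfsg.Agent.Lib.S4643.TripleKernel
import Cfsg.Agent.Lib.S4643.Transfer
import Cfsg.Agent.Lib.S4643.Perfect
import Cfsg.Agent.Lib.Char.ExtensionChar

set_option linter.unusedSectionVars false
set_option linter.style.haveILetI false

namespace Cfsg.Agent.FongDescent

open Cfsg Cfsg.Agent.Char Cfsg.Agent.Blocks Cfsg.Agent.RelMcKay Cfsg.Agent.CharExtend
open scoped ComplexConjugate

universe u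

section SylowCover

variable {E G : Type u} [Group E] [Fintype E] [Group G] [Fintype G] {p : ℕ} [hp : Fact p.Prime]

/-- The Sylow subgroup of a central `p'`-cover above a given one, and its normaliser. -/
theorem exists_sylow_lift (g : E →* G) (hg : Function.Surjective g)
    (hc : g.ker ≤ Subgroup.center E) (hk : ¬ p ∣ Nat.card g.ker) (P : Sylow p G) :
    ∃ R : Sylow p E, (∀ u ∈ (R : Subgroup E), g u ∈ (P : Subgroup G)) ∧
      ((∀ x ∈ (P : Subgroup G), ∀ y ∈ (P : Subgroup G), x * y = y * x) →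
        ∀ x ∈ (R : Subgroup E), ∀ y ∈ (R : Subgroup E), x * y = y * x) ∧
      ∀ e : E, e ∈ Subgroup.normalizer ((R : Subgroup E) : Set E) ↔
        g e ∈ Subgroup.normalizer ((P : Subgroup G) : Set G) := by
  classical
  set H := (P : Subgroup G).comap g with hH
  obtain ⟨Q⟩ : Nonempty (Sylow p H) := inferInstance
  set R' : Subgroup E := (Q : Subgroup H).map H.subtype with hR'
  have hR'p : IsPGroup p R' := Q.isPGroup'.map _
  have hcardE : Nat.card E = Nat.card g.ker * Nat.card G := by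
    rw [← g.ker.card_mul_index, Subgroup.index_ker, MonoidHom.range_eq_top.2 hg, Subgroup.card_top]
  have hcardH : Nat.card H = Nat.card g.ker * Nat.card (P : Subgroup G) := by
    have h2 := H.card_mul_index
    rw [hH, Subgroup.index_comap_of_surjective _ hg, hcardE,
      ← (P : Subgroup G).card_mul_index] at h2
    rw [hH]
    refine Nat.eq_of_mul_eq_mul_right
      (Nat.pos_of_ne_zero (Subgroup.index_ne_zero_of_finite (H := (P : Subgroup G)))) ?_
    rw [h2]; ring
  have hcard : Nat.card R' = p ^ (Nat.card E).factorization p := by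
    rw [hR', Subgroup.card_map_of_injective H.subtype_injective, Q.card_eq_multiplicity, hcardH,
      hcardE, P.card_eq_multiplicity,
      Nat.factorization_mul Nat.card_pos.ne' (pow_ne_zero _ hp.out.ne_zero),
      Nat.factorization_mul Nat.card_pos.ne' Nat.card_pos.ne', Finsupp.add_apply, Finsupp.add_apply,
      Nat.Prime.factorization_pow hp.out, Finsupp.single_eq_same]
  let R : Sylow p E := Sylow.ofCard R' hcard
  have hker : ∀ z ∈ g.ker, ∀ k : ℕ, z ^ p ^ k = 1 → z = 1 := fun z hz k hzk => by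
    have h2 : z ^ Nat.card g.ker = 1 :=
      congrArg Subtype.val (pow_card_eq_one' (x := (⟨z, hz⟩ : g.ker)))
    exact orderOf_eq_one_iff.1 (Nat.eq_one_of_dvd_coprimes
      (Nat.Coprime.pow_left k (hp.out.coprime_iff_not_dvd.2 hk))
      (orderOf_dvd_of_pow_eq_one hzk) (orderOf_dvd_of_pow_eq_one h2))
  have hmem : ∀ u ∈ R', g u ∈ (P : Subgroup G) := by
    rintro _ ⟨u, -, rfl⟩; exact u.2
  have hinj : ∀ u ∈ R', g u = 1 → u = 1 := fun u hu h1 => by
    obtain ⟨k, hk'⟩ := hR'p ⟨u, hu⟩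
    exact hker u (MonoidHom.mem_ker.2 h1) k (by simpa using congrArg Subtype.val hk')
  have himg : R'.map g = (P : Subgroup G) := by
    refine Subgroup.eq_of_le_of_card_ge (Subgroup.map_le_iff_le_comap.2 hmem) (le_of_eq ?_)
    have hinj' : Function.Injective (g.comp R'.subtype) := (injective_iff_map_eq_one _).2
      fun u hu => Subtype.ext (hinj u u.2 hu)
    have h1 := Subgroup.card_map_of_injective (K := (⊤ : Subgroup R')) hinj'
    rw [Subgroup.card_top, ← Subgroup.map_map, ← MonoidHom.range_eq_map, Subgroup.range_subtype,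
      hcard] at h1
    rw [h1, P.card_eq_multiplicity, hcardE, Nat.factorization_mul Nat.card_pos.ne' Nat.card_pos.ne',
      Finsupp.add_apply, Nat.factorization_eq_zero_of_not_dvd hk, zero_add]
  have hback : ∀ u : E, g u ∈ (P : Subgroup G) → (∃ k : ℕ, u ^ p ^ k = 1) → u ∈ R' := by
    rintro u hu ⟨k, hk'⟩
    obtain ⟨r, hr, hgr⟩ := himg.symm ▸ hu
    obtain ⟨l, hl⟩ := hR'p ⟨r, hr⟩
    have hl' : r ^ p ^ l = 1 := by simpa using congrArg Subtype.val hl
    have hz : r⁻¹ * u ∈ g.ker := by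
      rw [MonoidHom.mem_ker, map_mul, map_inv, hgr, inv_mul_cancel]
    have hcomm : Commute r (r⁻¹ * u) := Subgroup.mem_center_iff.1 (hc hz) r
    have hu' : u = r * (r⁻¹ * u) := (mul_inv_cancel_left r u).symm
    have hp1 : (r⁻¹ * u) ^ p ^ (k + l) = 1 := by
      have e1 : u ^ p ^ (k + l) = 1 := by rw [pow_add, pow_mul, hk', one_pow]
      rw [hu', hcomm.mul_pow, show r ^ p ^ (k + l) = 1 by
        rw [add_comm, pow_add, pow_mul, hl', one_pow], one_mul] at e1
      exact e1
    rw [hu', hker _ hz _ hp1, mul_one]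
    exact hr
  have hpow : ∀ u ∈ R', ∀ e : E, ∃ k : ℕ, (e * u * e⁻¹) ^ p ^ k = 1 := fun u hu e => by
    obtain ⟨k, hk'⟩ := hR'p ⟨u, hu⟩
    exact ⟨k, by rw [conj_pow, show u ^ p ^ k = 1 by simpa using congrArg Subtype.val hk',
      mul_one, mul_inv_cancel]⟩
  refine ⟨R, hmem, fun hab x hx y hy => ?_, fun e => ?_⟩
  · have hd : x * y * x⁻¹ * y⁻¹ = 1 := hinj _
      (R'.mul_mem (R'.mul_mem (R'.mul_mem hx hy) (R'.inv_mem hx)) (R'.inv_mem hy)) (by
        rw [map_mul, map_mul, map_mul, map_inv, map_inv, hab _ (hmem x hx) _ (hmem y hy),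
          mul_inv_cancel_right, mul_inv_cancel])
    rwa [mul_inv_eq_one, mul_inv_eq_iff_eq_mul] at hd
  · rw [Subgroup.mem_normalizer_iff, Subgroup.mem_normalizer_iff]
    refine ⟨fun h x => ⟨fun hx => ?_, fun hx => ?_⟩, fun h u => ⟨fun hu => ?_, fun hu => ?_⟩⟩
    · obtain ⟨u, hu, rfl⟩ := himg.symm ▸ hx
      rw [← map_inv, ← map_mul, ← map_mul]
      exact hmem _ ((h u).1 hu)
    · obtain ⟨u, hu, hgu⟩ := himg.symm ▸ hx
      have h1 : e⁻¹ * u * e ∈ R' := (h _).2 (show e * (e⁻¹ * u * e) * e⁻¹ ∈ R' by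
        rwa [show e * (e⁻¹ * u * e) * e⁻¹ = u by group])
      have h2 := hmem _ h1
      rwa [map_mul, map_mul, map_inv, hgu,
        show (g e)⁻¹ * (g e * x * (g e)⁻¹) * g e = x by group] at h2
    · refine hback _ ?_ (hpow u hu e)
      rw [map_mul, map_mul, map_inv]
      exact (h _).1 (hmem u hu)
    · have h1 := hpow _ hu e⁻¹
      rw [show e⁻¹ * (e * u * e⁻¹) * e⁻¹⁻¹ = u by group] at h1
      refine hback _ ((h _).2 ?_) h1
      have h2 := hmem _ hu
      rwa [map_mul, map_mul, map_inv] at h2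

end SylowCover

variable {p : ℕ} [hp : Fact p.Prime] {M : Ideal AlgInt}

theorem invariantCase (hM : IsPModular p M) (htr : TransferCase.{u} p M) :
    InvariantCase.{u} p M := by
  intro G _ _ K _ _ P
  classical
  haveI : M.IsPrime := hM.2.1.isPrime
  set N := Subgroup.normalizer ((P : Subgroup G) : Set G) with hNdef
  intro _ _ θ hKdef hsolv hab hKP hθ φ hcorr
  have hK : ¬ p ∣ Nat.card K := hKdef ▸ (hp.out.coprime_iff_not_dvd).1
    (PBasic.pPrimeCore_coprime p G).symm
  have hd : ¬ p ∣ charDegree (θ : K → ℂ) := fun h => hK (h.trans (CharX.irr_deg_dvd_card θ))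
  obtain ⟨θf, d, σ, hσ, rfl⟩ := θ
  haveI := hσ
  set θ : IrrCharacter K := ⟨σ.character, d, σ, hσ, rfl⟩ with hθdef
  have hn : (⊤ : Subgroup G) ≤ Subgroup.normalizer (K : Set G) :=
    (Subgroup.normalizer_eq_top_iff.2 inferInstance).ge
  have hinv : ∀ y ∈ (⊤ : Subgroup G), InvBy K σ.character y := fun y _ k k' hk => by
    have h1 := congrFun (congrArg Subtype.val (hθ y)) k
    rw [show k' = ⟨y * k * y⁻¹, (inferInstance : K.Normal).conj_mem k k.2 y⟩ from Subtype.ext hk]
    exact h1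
  -- the cover
  set E := cover σ (⊤ : Subgroup G) hn with hEdef
  haveI : Finite E := cover_finite σ hn
  haveI : Fintype E := Fintype.ofFinite _
  let g : E →* G := (MonoidHom.fst _ _).comp E.subtype
  have hg : Function.Surjective g := fun y => by
    obtain ⟨A, hA⟩ := cover_surjective σ hn hinv (Subgroup.mem_top y)
    exact ⟨⟨_, hA⟩, rfl⟩
  let i : K →* E :=
    { toFun := fun l => ⟨((l : G), σ.toHomUnits l), Subgroup.mem_top _, inter_mem σ l, det_sigma σ l⟩
      map_one' := Subtype.ext (Prod.ext rfl (map_one σ.toHomUnits))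
      map_mul' := fun a b => Subtype.ext (Prod.ext rfl (map_mul σ.toHomUnits a b)) }
  haveI hLn : i.range.Normal := ⟨by
    rintro _ ⟨l, rfl⟩ e
    refine ⟨cj (hn e.2.1) l, Subtype.ext (Prod.ext rfl ?_)⟩
    show σ.toHomUnits (cj (hn e.2.1) l) = e.1.2 * σ.toHomUnits l * e.1.2⁻¹
    rw [e.2.2.1 l (cj (hn e.2.1) l) rfl, mul_inv_cancel_right]⟩
  set L := i.range with hLdef
  haveI : Fintype L := Fintype.ofFinite _
  let wL : K ≃* L := MonoidHom.ofInjective (f := i) fun a b hab' =>
    Subtype.ext (congrArg (fun x : E => x.1.1) hab')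
  have hwL : ∀ k : K, g (wL k : E) = (k : G) := fun k => rfl
  -- the extension
  let ρ : Representation ℂ E (Fin d → ℂ) :=
    (Units.coeHom _).comp ((MonoidHom.snd G _).comp E.subtype)
  let σL : Representation ℂ L (Fin d → ℂ) := σ.comp wL.symm.toMonoidHom
  have hσLirr : IsIrrCharacter L σL.character := by
    rw [show σL.character = fun l => σ.character (wL.symm l) from rfl]
    exact IsIrrCharacter.comp (isIrrCharacter_of_rep σ) wL.symm.toMonoidHom wL.symm.surjective
  haveI : σL.IsIrreducible := isIrreducible_of_norm_one σL (classInner_self_irr hσLirr)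
  obtain ⟨hψirr, hψL⟩ := exists_char_of_rep (N := L) (σ := σL) (η := ρ) fun l => by
    obtain ⟨k, rfl⟩ := wL.surjective l
    show ρ (wL k : E) = σ (wL.symm (wL k))
    rw [MulEquiv.symm_apply_apply]
    rfl
  let ψ : IrrCharacter E := ⟨ρ.character, hψirr⟩
  let θL : IrrCharacter L := ⟨σL.character, hσLirr⟩
  have hψθ : ∀ l : L, (ψ : E → ℂ) l = (θL : L → ℂ) l := hψL
  have hψ1 : (ψ : E → ℂ) 1 ≠ 0 := irr_one_ne_zero ψ
  -- the scalars
  have hscal : ∀ z ∈ g.ker, ∃ w : ℂˣ, (scalarUnit w : (Module.End ℂ (Fin d → ℂ))ˣ) = z.1.2 := by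
    intro z hz
    have h1 : z.1.1 = 1 := hz
    exact exists_scalar σ z.1.2 fun k => congrArg Units.val (z.2.2.1 k k (by rw [h1]; simp))
  have hgc : g.ker ≤ Subgroup.center E := fun z hz => Subgroup.mem_center_iff.2 fun e => by
    obtain ⟨w, hw⟩ := hscal z hz
    refine Subtype.ext (Prod.ext ?_ ?_)
    · show e.1.1 * z.1.1 = z.1.1 * e.1.1
      rw [show z.1.1 = 1 from hz, mul_one, one_mul]
    · show e.1.2 * z.1.2 = z.1.2 * e.1.2
      rw [← hw, scalarUnit_comm]
  let c : E → ℂ := fun z => (ψ : E → ℂ) z / (ψ : E → ℂ) 1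
  have hψscal : ∀ e : E, ∀ z ∈ g.ker, (ψ : E → ℂ) (e * z) = c z * (ψ : E → ℂ) e := by
    intro e z hz
    obtain ⟨w, hw⟩ := hscal z hz
    have key : ∀ x : E, (ψ : E → ℂ) (x * z) = (w : ℂ) * (ψ : E → ℂ) x := fun x => by
      show LinearMap.trace ℂ _ ((x.1.2 * z.1.2 : (Module.End ℂ (Fin d → ℂ))ˣ) :
          Module.End ℂ (Fin d → ℂ)) = (w : ℂ) * LinearMap.trace ℂ _
        (x.1.2 : Module.End ℂ (Fin d → ℂ))
      rw [← hw, Units.val_mul, scalarUnit_val, ← Module.End.one_eq_id, mul_smul_comm, mul_one,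
        map_smul, smul_eq_mul]
    have h1 := key 1
    rw [one_mul] at h1
    show _ = (ψ : E → ℂ) z / (ψ : E → ℂ) 1 * _
    rw [h1, mul_div_assoc, div_self hψ1, mul_one, key e]
  have hpg : ¬ p ∣ Nat.card g.ker := fun hdvd => by
    obtain ⟨z, hz⟩ := exists_prime_orderOf_dvd_card' p hdvd
    obtain ⟨w, hw⟩ := hscal z z.2
    have hdet := (z : E).2.2.2
    rw [← hw, det_scalar, ← pow_mul] at hdet
    have h1 : (z : E) ^ (d * Nat.card K) = 1 := by
      refine Subtype.ext (Prod.ext ?_ ?_)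
      · show (z : E).1.1 ^ _ = 1
        rw [show (z : E).1.1 = 1 from z.2, one_pow]
      · show (z : E).1.2 ^ _ = 1
        rw [← hw, ← map_pow, show w ^ (d * Nat.card K) = 1 from Units.ext (by simpa using hdet),
          map_one]
    have h2 : p ∣ d * Nat.card K := hz ▸ orderOf_dvd_of_pow_eq_one (Subtype.ext h1)
    have h3 : charDegree σ.character = d := by
      rw [charDegree, Representation.char_one]
      simp
    exact (hp.out.dvd_mul.1 h2).elim (fun h => hd (show p ∣ charDegree σ.character from h3.symm ▸ h))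
      hK
  -- the Sylow subgroup and its normaliser
  obtain ⟨R, hRP, hRab, hRN⟩ := exists_sylow_lift g hg hgc hpg P
  set NE := Subgroup.normalizer ((R : Subgroup E) : Set E) with hNEdef
  haveI : Fintype NE := Fintype.ofFinite _
  haveI : Fintype (L.subgroupOf NE) := Fintype.ofFinite _
  let gN : NE →* N := (g.comp NE.subtype).codRestrict N fun e => (hRN _).1 e.2
  have hgN : Function.Surjective gN := fun n => by
    obtain ⟨e, he⟩ := hg (n : G)
    exact ⟨⟨e, (hRN e).2 (he ▸ n.2)⟩, Subtype.ext he⟩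
  have hgNker : ∀ z : NE, z ∈ gN.ker ↔ (z : E) ∈ g.ker := fun z =>
    ⟨fun h => congrArg Subtype.val (MonoidHom.mem_ker.1 h),
      fun h => MonoidHom.mem_ker.2 (Subtype.ext h)⟩
  let f : L.subgroupOf NE →* K.subgroupOf N :=
    { toFun := fun x => ⟨gN x, by
        obtain ⟨k, hk⟩ := x.2
        show g ((x : NE) : E) ∈ K
        rw [show ((x : NE) : E) = i k from hk.symm]
        exact k.2⟩
      map_one' := Subtype.ext (map_one gN)
      map_mul' := fun a b => Subtype.ext (map_mul gN _ _) }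
  let wN : L.subgroupOf NE ≃* K.subgroupOf N := MulEquiv.ofBijective f (by
    constructor
    · intro a b hab'
      obtain ⟨k, hk⟩ := a.2
      obtain ⟨l, hl⟩ := b.2
      have h1 : g ((a : NE) : E) = g ((b : NE) : E) :=
        congrArg (fun x : K.subgroupOf N => ((x : N) : G)) hab'
      rw [show ((a : NE) : E) = i k from hk.symm, show ((b : NE) : E) = i l from hl.symm] at h1
      exact Subtype.ext (Subtype.ext ((hk.symm.trans (congrArg i (Subtype.ext h1))).trans hl))
    · intro x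
      let k : K := ⟨((x : N) : G), x.2⟩
      exact ⟨⟨⟨i k, (hRN _).2 (x : N).2⟩, ⟨k, rfl⟩⟩, rfl⟩)
  let φL : IrrCharacter (L.subgroupOf NE) := ⟨fun x => (φ : K.subgroupOf N → ℂ) (wN x),
    IsIrrCharacter.comp φ.2 wN.toMonoidHom wN.surjective⟩
  have hLcard : ¬ p ∣ Nat.card L := by rwa [← Nat.card_congr wL.toEquiv]
  have hcorrL : Corr p NE L θL φL := by
    intro m hm
    refine hcorr m ?_
    rw [← hm]
    unfold classInner
    rw [Nat.card_congr wN.toEquiv]
    congr 1
    refine (Fintype.sum_equiv wN.toEquiv _ _ fun x => ?_).symm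
    obtain ⟨k, hk⟩ := x.2
    have e1 : (⟨((x : NE) : E), x.2⟩ : L) = wL k := Subtype.ext hk.symm
    show σ.character (wL.symm (⟨((x : NE) : E), x.2⟩ : L)) * conj ((φ : K.subgroupOf N → ℂ) (wN x)) =
      σ.character (⟨g ((x : NE) : E), _⟩ : K) * conj ((φ : K.subgroupOf N → ℂ) (wN x))
    rw [e1, MulEquiv.symm_apply_apply]
    congr 2
    apply Subtype.ext
    show (k : G) = g ((x : NE) : E)
    rw [show ((x : NE) : E) = i k from hk.symm]
    rfl
  obtain ⟨ψ', hψ'L, hψ'z⟩ := htr E L R θL ψ hM hLcard (hRab hab) hψθ φL hcorrL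
  -- the two triples
  let q : E →* E ⧸ L := QuotientGroup.mk' L
  haveI : Fintype (E ⧸ L) := Fintype.ofFinite _
  have hqk : q.ker = L := QuotientGroup.ker_mk' L
  let qN : NE →* E ⧸ L := q.comp NE.subtype
  have hqNk : qN.ker = L.subgroupOf NE := by
    show (q.comp NE.subtype).ker = _
    rw [← MonoidHom.comap_ker, hqk]; rfl
  haveI : Fintype q.ker := Fintype.ofFinite _
  haveI : Fintype qN.ker := Fintype.ofFinite _
  haveI : Fintype g.ker := Fintype.ofFinite _
  haveI : Fintype gN.ker := Fintype.ofFinite _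
  have htG : Triple p g q ψ c := by
    refine ⟨hg, QuotientGroup.mk'_surjective L, ?_, hgc, hψscal, hpg, by rwa [hqk]⟩
    have h1 := IsIrrCharacter.comp θL.2 (MulEquiv.subgroupCongr hqk).toMonoidHom
      (MulEquiv.subgroupCongr hqk).surjective
    convert h1 using 1
    exact funext fun l => hψθ (MulEquiv.subgroupCongr hqk l)
  have hgNc : gN.ker ≤ Subgroup.center NE := fun z hz => Subgroup.mem_center_iff.2 fun x =>
    Subtype.ext (Subgroup.mem_center_iff.1 (hgc ((hgNker z).1 hz)) (x : E))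
  have hpgN : ¬ p ∣ Nat.card gN.ker := fun h => hpg (h.trans (by
    rw [show gN.ker = g.ker.subgroupOf NE from Subgroup.ext hgNker]
    exact Subgroup.card_comap_dvd_of_injective _ NE.subtype Subtype.val_injective))
  have hqNsurj : Function.Surjective qN := by
    intro y
    obtain ⟨e, rfl⟩ := QuotientGroup.mk'_surjective L y
    have htop : N ⊔ K = ⊤ := by
      haveI := hKP
      have h := Sylow.normalizer_sup_eq_top' P (N := K ⊔ (P : Subgroup G)) le_sup_right
      rw [← h, hNdef]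
      refine le_antisymm (sup_le_sup_left le_sup_left _) (sup_le le_sup_left (sup_le le_sup_right ?_))
      exact le_sup_of_le_left Subgroup.le_normalizer
    obtain ⟨a, ha, b, hb, hab'⟩ := Subgroup.mem_sup_of_normal_right.1
      (htop.symm ▸ Subgroup.mem_top (g e) : g e ∈ N ⊔ K)
    set kk : K := ⟨b, hb⟩
    refine ⟨⟨e * (i kk)⁻¹, (hRN _).2 ?_⟩, ?_⟩
    · rw [map_mul, map_inv, show g (i kk) = b from rfl, ← hab', mul_inv_cancel_right]
      exact ha
    · show q (e * (i kk)⁻¹) = q e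
      rw [map_mul, map_inv, show q (i kk) = 1 from (QuotientGroup.eq_one_iff _).2 ⟨kk, rfl⟩,
        inv_one, mul_one]
  let cN : NE → ℂ := fun z => c (z : E)
  have htN : Triple p gN qN ψ' cN := by
    refine ⟨hgN, hqNsurj, ?_, hgNc, fun e z hz => ?_, hpgN, ?_⟩
    · have h1 := IsIrrCharacter.comp φL.2 (MulEquiv.subgroupCongr hqNk).toMonoidHom
        (MulEquiv.subgroupCongr hqNk).surjective
      convert h1 using 1
      exact funext fun l => hψ'L (MulEquiv.subgroupCongr hqNk l)
    · obtain ⟨w, -, hw, -⟩ := IsIrrCharacter.exists_central_scalar ψ'.2 (hgNc hz)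
      have hzE := (hgNker z).1 hz
      have h1 := hψ'z z (hgc hzE) (fun h => hpgN ((h.trans (dvd_of_eq (Subgroup.orderOf_mk z hz).symm)).trans
        (orderOf_dvd_natCard (⟨z, hz⟩ : gN.ker)))) (c z) (by
          show _ = (ψ : E → ℂ) z / (ψ : E → ℂ) 1 * _
          rw [div_mul_cancel₀ _ hψ1])
      have h2 := hw 1
      rw [mul_one] at h2
      rw [h2] at h1
      rw [Subgroup.mem_center_iff.1 (hgNc hz) e, hw e, mul_right_cancel₀ (irr_one_ne_zero ψ') h1]
    · rw [hqNk]
      exact fun h => hLcard (h.trans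
        (Subgroup.card_comap_dvd_of_injective _ NE.subtype Subtype.val_injective))
  -- the sets of characters
  have htw : twisted gN qN cN = twisted g q c := by
    ext β
    refine ⟨fun h => ?_, fun h e z hz => h (e : E) (z : E) ((hgNker z).1 hz)⟩
    intro e z hz
    obtain ⟨e', he'⟩ := hqNsurj (q e)
    have hzN : z ∈ NE := (hRN z).2 (by rw [MonoidHom.mem_ker.1 hz]; exact one_mem _)
    have h1 := h e' ⟨z, hzN⟩ ((hgNker ⟨z, hzN⟩).2 hz)
    rw [map_mul, he'] at h1
    rw [map_mul]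
    exact h1
  have hoG : tripleOver g q ψ = overSet K θ := by
    let w : q.ker ≃* K := (MulEquiv.subgroupCongr hqk).trans wL.symm
    refine Set.ext fun χ => iff_of_eq (congrArg (· ≠ 0) (show classInner (fun l : q.ker => (χ : G → ℂ) (g l))
      (fun l : q.ker => (ψ : E → ℂ) l) = classInner (fun k : K => (χ : G → ℂ) k) (θ : K → ℂ) from ?_))
    unfold classInner
    rw [Nat.card_congr w.toEquiv]
    congr 1
    refine Fintype.sum_equiv w.toEquiv _ _ fun l => ?_
    beta_reduce
    have e1 : (wL (w l) : E) = (l : E) := by simp [w]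
    rw [show (ψ : E → ℂ) (l : E) = σ.character (w l) from hψθ (MulEquiv.subgroupCongr hqk l),
      ← e1, hwL]
    rfl
  have hoN : tripleOver gN qN ψ' = overSet (K.subgroupOf N) φ := by
    let w : qN.ker ≃* K.subgroupOf N := (MulEquiv.subgroupCongr hqNk).trans wN
    refine Set.ext fun χ => iff_of_eq (congrArg (· ≠ 0) (show classInner (fun l : qN.ker => (χ : N → ℂ) (gN l))
      (fun l : qN.ker => (ψ' : NE → ℂ) l) =
      classInner (fun k : K.subgroupOf N => (χ : N → ℂ) k) (φ : K.subgroupOf N → ℂ) from ?_))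
    unfold classInner
    rw [Nat.card_congr w.toEquiv]
    congr 1
    refine Fintype.sum_equiv w.toEquiv _ _ fun l => ?_
    beta_reduce
    rw [show (ψ' : NE → ℂ) (l : NE) = (φ : K.subgroupOf N → ℂ) (w l) from
      hψ'L (MulEquiv.subgroupCongr hqNk l)]
    rfl
  -- the isometry
  obtain ⟨Φ, hΦ, hΦv⟩ := htG.exists_bijOn
  obtain ⟨Φ', hΦ', hΦ'v⟩ := htN.exists_bijOn
  rw [htw] at hΦ' hΦ'v
  rw [hoG] at hΦ
  rw [hoN] at hΦ'
  haveI : Nonempty (IrrCharacter (E ⧸ L)) := ⟨⟨_, isIrrCharacter_one⟩⟩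
  set J := Function.invFunOn Φ' (twisted g q c)
  have hJ : Set.BijOn J (overSet (K.subgroupOf N) φ) (twisted g q c) :=
    hΦ'.symm hΦ'.invOn_invFunOn.symm
  refine ⟨fun ξ => Φ (J ξ), fun _ => 1, hΦ.comp hJ, fun _ _ => .inl rfl, fun x y => ?_⟩
  obtain ⟨e, rfl⟩ := hg x
  obtain ⟨e', rfl⟩ := hgN y
  have hsum : signedBijectionKernel (overSet (K.subgroupOf N) φ) (fun ξ => Φ (J ξ)) (fun _ => 1)
      (g e) (gN e') = (ψ : E → ℂ) e * (ψ' : NE → ℂ) e' * twistSum g q c (q e) (qN e') := by
    rw [PerfectIso.kernel_apply, twistSum, Finset.mul_sum]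
    refine Finset.sum_nbij' J Φ' (fun a ha => ?_) (fun a ha => ?_) (fun a ha => ?_) (fun a ha => ?_)
      fun ξ hξ => ?_
    · simpa using hJ.mapsTo (by simpa using ha)
    · simpa using hΦ'.mapsTo (by simpa using ha)
    · exact hΦ'.invOn_invFunOn.2 (by simpa using ha)
    · exact hΦ'.invOn_invFunOn.1 (by simpa using ha)
    · have hξ' : ξ ∈ overSet (K.subgroupOf N) φ := by simpa using hξ
      have h2 := hΦ'v (J ξ) (hJ.mapsTo hξ') e'
      rw [hΦ'.invOn_invFunOn.2 hξ'] at h2
      rw [hΦv (J ξ) (hJ.mapsTo hξ') e, h2, Int.cast_one]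
      ring
  have hswap : twistSum gN qN cN (qN e') (q e) = twistSum g q c (q e) (qN e') := by
    simp only [twistSum, htw]
    exact Finset.sum_congr rfl fun β _ => mul_comm _ _
  obtain ⟨h1, h2⟩ := htG.twistSum_perfect hM e (qN e')
  obtain ⟨h3, -⟩ := htN.twistSum_perfect hM e' (q e)
  rw [hswap] at h3
  rw [hsum]
  refine ⟨?_, ?_, ?_⟩
  · refine mem_locRing.1 ?_
    convert (locRing M).mul_mem (mem_locRing_of_isIntegral (irr_isIntegral ψ' e')) (mem_locRing.2 h1)
      using 1
    ring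
  · refine mem_locRing.1 ?_
    convert (locRing M).mul_mem (mem_locRing_of_isIntegral (irr_isIntegral ψ e)) (mem_locRing.2 h3)
      using 1
    ring
  · rcases h2 with h2 | h2
    · refine .inl (h2.trans ?_)
      rw [isPRegular_map_iff qN htN.pq, isPRegular_map_iff gN htN.pg]
    · exact .inr (by rw [h2, mul_zero])

end Cfsg.Agent.FongDescent
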